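import Cfsg.Agent.Ore.Gauss
import Cfsg.Agent.HForm.Wall

/-!
Gauss decomposition with trivial torus part: orthogonal spaces.
-/

set_option autoImplicit false

open Module

namespace Cfsg.Agent.Ore

open Cfsg.Agent.Forms Cfsg.Agent.Polar Cfsg.Agent.Polar.PQ Cfsg.Agent.HForm

universe u

section
variable {F : Type*} [Field F] {V : Type*} [AddCommGroup V] [Module F V] {P : PQ (oFP F) V}

variable (P) in
/-- The invariants of `Ω`. -/
structure OInv (H : Subgroup P.Iso) : Prop where
  eg : P.EG ≤ H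
  ev : ∀ k ∈ H, Even (rk k.1.toLinearMap)
  sq : ∀ z w, P.Q z ≠ 0 → P.Q w ≠ 0 → P.reflect z * P.reflect w ∈ H → IsSquare (P.Q z * P.Q w)

theorem lin_reflect_mul {v : V} (hv : P.Q v ≠ 0) (k : P.Iso) :
    (P.reflect v * k).1.toLinearMap = Forms.refl P.toQuad v ∘ₗ k.1.toLinearMap :=
  LinearMap.ext fun _ => reflect_smul' hv _

theorem ext_reflect {V' : Type*} [AddCommGroup V'] [Module F V'] {P' : PQ (oFP F) V'}
    (E : Emb P' P) (z : V') : E.ext (P'.reflect z) = P.reflect (E.i z) := by
  have h1 : P.Q (E.i z) = P'.Q z := o_QEq_iff.mp (E.Q_i z)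
  by_cases hz : P'.Q z = 0
  · rw [reflect_of_sing hz, reflect_of_sing (h1.trans hz), map_one]
  · refine PQ.iso_ext fun x => ?_
    rw [E.ext_smul, reflect_smul hz, reflect_smul (h1 ▸ hz), h1, E.B_i]
    simp

theorem OInv.comap {V' : Type*} [AddCommGroup V'] [Module F V'] {P' : PQ (oFP F) V'}
    (E : Emb P' P) {H : Subgroup P.Iso} (h : OInv P H) : OInv P' (H.comap E.ext) := by
  refine ⟨fun g hg => h.eg (E.ext_mem_EG hg), fun k hk => ?_, fun z w hz hw hzw => ?_⟩
  · have h1 : comS (E.ext k).1.toLinearMap = (comS k.1.toLinearMap).map E.i := by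
      ext x
      simp only [mem_comS, Submodule.mem_map]
      constructor
      · rintro ⟨y, rfl⟩
        refine ⟨_, ⟨E.r y, rfl⟩, ?_⟩
        change _ = E.ext k • y - y
        rw [E.ext_smul, map_sub]
        change E.i (k • _) - _ = _
        abel
      · rintro ⟨_, ⟨y, rfl⟩, rfl⟩
        refine ⟨E.i y, ?_⟩
        change E.ext k • E.i y - _ = _
        rw [E.ext_smul_i, map_sub]; rfl
    have := h.ev _ hk
    rwa [rk, h1, ← (Submodule.equivMapOfInjective _ E.i_injective _).finrank_eq] at this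
  · have h1 : ∀ z, P.Q (E.i z) = P'.Q z := fun z => o_QEq_iff.mp (E.Q_i z)
    have := h.sq (E.i z) (E.i w) (h1 z ▸ hz) (h1 w ▸ hw) (by
      rw [← ext_reflect, ← ext_reflect, ← map_mul]; exact hzw)
    rwa [h1, h1] at this

variable [FiniteDimensional F V]

theorem oInv_EG [Fintype F] (hP : P.ND) (h5 : 5 ≤ finrank F V) : OInv P P.EG := by
  have hB := hP.pol_toQuad
  refine ⟨le_rfl, fun k hk => ?_, fun z w hz hw hzw => ?_⟩
  · have key : ∀ g h : P.Iso, rk (g * h).1.toLinearMap % 2 =
        (rk g.1.toLinearMap + rk h.1.toLinearMap) % 2 := fun g h => by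
      induction g using o_induction hP h5 with
      | h1 => rw [one_mul, show (1 : P.Iso).1.toLinearMap = LinearMap.id from rfl, rk_id, zero_add]
      | hr g v hv ih =>
        have h1 := rk_refl_comp hB (g := g.1.toLinearMap) (o_Q_act g) hv
        have h2 := rk_refl_comp hB (g := (g * h).1.toLinearMap) (o_Q_act (g * h)) hv
        rw [mul_assoc, lin_reflect_mul hv, lin_reflect_mul hv]
        omega
    let φ : P.Iso →* ℤˣ := MonoidHom.mk' (fun g => (-1) ^ rk g.1.toLinearMap) fun g h => by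
      have h2 : (-1 : ℤˣ) ^ 2 = 1 := by decide
      rw [← pow_add, pow_eq_pow_mod _ h2, key, ← pow_eq_pow_mod _ h2]
    have h1 : ((-1 : ℤˣ)) ^ rk k.1.toLinearMap = 1 :=
      Abelianization.commutator_subset_ker φ (o_EG_le_commutator hP h5 hk)
    rwa [neg_one_pow_eq_one_iff_even (by decide)] at h1
  · rcases Nat.even_or_odd (Fintype.card F) with hF | hF
    · exact FiniteField.isSquare_of_char_two
        (FiniteField.even_card_iff_char_two.mpr (Nat.even_iff.mp hF)) _
    let φ : P.Iso →* F := ⟨⟨fun g => wth P.toQuad g.1.toLinearMap, wth_id⟩,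
      fun g h => wth_comp hF hB h5 (o_Q_act g) (o_Q_act h)⟩
    have h1 : wth P.toQuad (P.reflect z * P.reflect w).1.toLinearMap = 1 :=
      congrArg Units.val (MonoidHom.mem_ker.mp
        (Abelianization.commutator_subset_ker φ.toHomUnits (o_EG_le_commutator hP h5 hzw)))
    rw [lin_reflect_mul hz, wth_refl hF hB (o_Q_act _) hz, ← mul_one (P.reflect w),
      lin_reflect_mul hw, wth_refl hF hB (o_Q_act _) hw,
      show (1 : P.Iso).1.toLinearMap = LinearMap.id from rfl, wth_id, mul_one, ← eu_mul] at h1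
    exact (eu_eq_one_iff hF (mul_ne_zero hz hw)).mp h1

theorem eq_reflect_of_rk (hP : P.ND) {k : P.Iso} (hk : rk k.1.toLinearMap = 1) :
    ∃ w, P.Q w ≠ 0 ∧ k = P.reflect w := by
  obtain ⟨⟨w, hw⟩, w0, h1⟩ := finrank_eq_one_iff'.mp hk
  have w0 : w ≠ 0 := by simpa using w0
  have h2 : ∀ x, ∃ t : F, k • x = x + t • w := fun x => by
    obtain ⟨t, ht⟩ := h1 ⟨_, mem_comS.mpr ⟨x, rfl⟩⟩
    exact ⟨t, by rw [show t • w = k • x - x from congrArg Subtype.val ht]; simp⟩
  have hQ : P.Q w ≠ 0 := fun h0 => by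
    have h3 : ∀ x, P.B x w ≠ 0 → k • x = x := fun x hx => by
      obtain ⟨t, ht⟩ := h2 x
      have := o_Q_act k x
      rw [ht, o_Q_add, o_Q_smul, h0] at this
      obtain rfl : t = 0 := by simpa [hx] using this
      simpa using ht
    obtain ⟨y, hy⟩ := mem_comS.mp hw
    obtain ⟨x, hx⟩ := hP.exists_eq' w0 1
    have hy' : k • y - y = w := hy
    have h4 : P.B y w = 0 := by_contra fun h => w0 (by rw [← hy', h3 y h, sub_self])
    have := h3 (x + y) (by simp [hx, h4])
    rw [smul_add, h3 x (by simp [hx]), add_right_inj] at this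
    exact w0 (by rw [← hy', this, sub_self])
  refine ⟨w, hQ, ?_⟩
  have h3 := rk_refl_comp_of_mem hP.pol_toQuad (g := k.1.toLinearMap) (o_Q_act k) hQ hw
  have h4 := eq_id_of_rk_eq_zero (g := (P.reflect w * k).1.toLinearMap)
    (by rw [lin_reflect_mul hQ]; omega)
  rw [← reflect_inv, eq_inv_iff_mul_eq_one, mul_eq_one_comm]
  exact PQ.iso_ext (LinearMap.congr_fun h4)

omit [FiniteDimensional F V] in
theorem reflect_mul_mem_U {a e : V} (ha : P.Q a ≠ 0) (he : P.Sing e) (h : P.B a e = 0) (t : F) :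
    P.reflect a * P.reflect (a + t • e) ∈ P.U e := by
  have h1 : P.Q (a + t • e) = P.Q a := by simp [o_Q_add, o_Q_smul, o_sing_iff.mp he, h]
  have h2 : P.reflect a • e = e := reflect_smul_of_perp (B_swap_zero h)
  refine ⟨by rw [mul_smul, reflect_smul_of_perp (x := e) (by simp [B_swap_zero h, he.B_self]), h2],
    fun x hx => ⟨-(P.B x a / P.Q a * t), ?_⟩⟩
  rw [mul_smul, reflect_smul (v := a + t • e) (h1 ▸ ha), h1, smul_sub, act_smul, smul_add, act_smul, h2,
    reflect_smul_self ha, reflect_smul ha]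
  simp only [map_add, map_smul, hx, smul_zero, add_zero]
  module

theorem o_final [Finite F] (hP : P.ND) (h3 : 3 ≤ finrank F V) (h4 : finrank F V ≤ 4)
    {H : Subgroup P.Iso} (hH : OInv P H) {g : P.Iso} (hg : g ∈ H) (hn : NSi P g) :
    ∃ e f, P.Hyp e f ∧ ∃ u ∈ P.U f, ∃ v ∈ P.U e, g = u * v := by
  obtain ⟨e, e0, e1⟩ := o_exists_sing P h3
  obtain ⟨f, h⟩ := hP.exists_hyp e1 e0
  rcases hn with rfl | hn
  · exact ⟨e, f, h, 1, one_mem _, 1, one_mem _, by simp⟩
  by_cases hc : ∃ e, P.Sing e ∧ P.B (g • e) e ≠ 0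
  · obtain ⟨e, hs, h0⟩ := hc
    have hs' := o_sing_iff.mp hs
    have h1 := hyp_of_ne hs (hs.act g) (B_swap_ne h0)
    set z := g • e - e with hz
    have z1 : P.Q z = -P.B (g • e) e := by simp [hz, o_Q_sub, o_Q_act, hs']
    have z0 : P.Q z ≠ 0 := by simpa [z1] using h0
    have z2 : P.B e z = P.B (g • e) e := by simp [hz, hs.B_self, o_swap e]
    have z3 : P.reflect z • e = g • e := by
      rw [reflect_smul z0, z2, z1, div_neg, div_self h0]; simp [hz]
    obtain ⟨v, hv, g', d⟩ := exists_dec_fix h1 hP (k := P.reflect z * g)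
      (by rw [mul_smul, ← z3, ← mul_smul, reflect_mul_self, one_smul])
    set k := h1.emb.ext g'
    have k1 : P.reflect z * k = g * v⁻¹ := by
      rw [← reflect_inv, inv_mul_eq_iff_eq_mul, ← mul_assoc, d]; simp
    have k2 : P.reflect z * k ∈ H := k1 ▸ mul_mem hg (inv_mem (hH.eg (h1.U_le_EG hv)))
    have k3 : k • e = e := h1.emb.ext_smul_ker _ h1.emb_r_left
    have k4 := h1.emb.ext_smul_ker g' h1.emb_r_right
    obtain ⟨w, w0, hw⟩ := eq_reflect_of_rk hP (k := k) (by
      have e1 := hH.ev _ k2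
      have e2 := rk_refl_comp hP.pol_toQuad (g := k.1.toLinearMap) (o_Q_act k) z0
      have e3 := rk_add_finrank_fixS k.1.toLinearMap
      have e4 := (linearIndependent_iff_card_eq_finrank_span.mp h1.linearIndependent).trans_le
        (Submodule.finrank_mono (t := fixS k.1.toLinearMap) (Submodule.span_le.mpr (by
          rintro _ ⟨i, rfl⟩
          fin_cases i
          exacts [mem_fixS.mpr k3, mem_fixS.mpr k4])))
      rw [lin_reflect_mul z0, Nat.even_iff] at e1
      simp only [Fintype.card_fin] at e4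
      omega)
    have key : ∀ x, k • x = x → P.B x w = 0 := fun x hx => by
      rw [hw, reflect_smul w0, sub_eq_self, smul_eq_zero] at hx
      simpa [w0] using hx.resolve_right (by rintro rfl; exact w0 o_Q_zero)
    have w1 := key e k3
    have w2 : P.B (g • e) w = 0 := by simpa [B_swap_ne h0] using key _ k4
    obtain ⟨c, hc⟩ := hH.sq z w z0 w0 (hw ▸ k2)
    have c0 : c / P.Q w ≠ 0 := div_ne_zero (by rintro rfl; simp [z0, w0] at hc) w0
    rw [← reflect_smul_vec c0] at hw
    set w' := (c / P.Q w) • w with hw'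
    have w3 : P.Q w' = P.Q z := by rw [hw', o_Q_smul]; field_simp; linear_combination -hc
    have w4 : P.B w' e = 0 := by simp [hw', B_swap_zero w1]
    have w5 : P.B w' (g • e) = 0 := by simp [hw', B_swap_zero w2]
    have f1 : P.Sing (g • e + e + w') := o_sing_iff.mpr (by
      simp [o_Q_add, o_Q_act, hs', w3, z1, B_swap_zero w4, B_swap_zero w5])
    have f2 : P.B e (g • e + e + w') ≠ 0 := by
      simpa [hs.B_self, B_swap_zero w4] using B_swap_ne h0
    have u1 := reflect_mul_mem_U z0 f1 (by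
      simp [hz, hs.B_self, B_swap_zero w4, B_swap_zero w5, o_swap e (g • e)]) (-1)
    have u2 := inv_mem (reflect_mul_mem_U (w3 ▸ z0) hs w4 2)
    rw [show z + (-1 : F) • (g • e + e + w') = (-1 : F) • (w' + (2 : F) • e) by
      rw [hz]; generalize g • e = y; module, reflect_smul_vec (by simp)] at u1
    refine ⟨e, _, hyp_of_ne hs f1 f2, _, by rwa [U_smul (by simpa using f2)], _, mul_mem u2 hv, ?_⟩
    rw [_root_.mul_inv_rev, reflect_inv, reflect_inv, ← hw, ← mul_assoc, ← mul_assoc,
      mul_assoc (P.reflect z), reflect_mul_self, mul_one, k1]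
    simp
  push Not at hc
  have hc2 : ∀ x y, P.Sing x → P.Sing y → P.B x y = 0 → P.B (g • x) y = -P.B (g • y) x :=
    fun x y hx hy h => by
      have := hc _ (hx.add hy h)
      simp only [smul_add, map_add, LinearMap.add_apply, hc x hx, hc y hy] at this
      linear_combination this
  obtain ⟨e, hs, he⟩ := exists_not_fix (hP.rich h3) h hn
  have h0 := hc e hs
  obtain ⟨f, h1, h2⟩ := exists_valid hP hs he fun h => (h h0).elim
  obtain ⟨z, hz⟩ : ∃ z, g • e = e + z := ⟨g • e - e, by simp⟩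
  have z1 : P.B z e = 0 := by simpa [hz, hs.B_self] using h0
  have z2 : P.B z f = 0 := by simpa [hz, h1.pair] using h2
  have z3 : P.Sing z := o_sing_iff.mpr (by
    simpa [hz, o_Q_add, o_sing_iff.mp hs, B_swap_zero z1] using o_Q_act g e)
  have z4 : z ∈ P.perp {e, f} := mem_perp_pair.mpr ⟨z1, z2⟩
  obtain ⟨⟨y, y0⟩, h5⟩ := (h1.emb.nd hP).exists_hyp (e := ⟨z, z4⟩) z3 (fun h => he 1 (by
    simpa [show z = 0 from congrArg Subtype.val h] using hz))
  obtain ⟨y1, y2⟩ := mem_perp_pair.mp y0
  have y3 : P.Sing y := h5.right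
  have y4 : P.B z y = 1 := h5.pair
  have y5 : P.B y z = 1 := h5.pair'
  have f1 : P.B f e = 1 := h1.pair'
  have dec : ∀ x, x = P.B x f • e + P.B x y • z + P.B x z • y + P.B x e • f := fun x => by
    have d1 := h1.finrank_perp
    have d2 := h5.finrank_perp
    have d3 := Submodule.finrank_eq_zero.mp (show finrank F ((P.res _).perp {⟨z, z4⟩, ⟨y, y0⟩}) = 0
      by omega)
    have d4 := h5.hproj_mem (h1.emb.r x)
    rw [d3, Submodule.mem_bot] at d4
    have d5 := congrArg Subtype.val d4
    simp only [hproj_apply, Submodule.coe_sub, Submodule.coe_smul, Hyp.emb_r, res_B, map_sub,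
      map_smul, LinearMap.sub_apply, LinearMap.smul_apply, B_swap_zero y1, B_swap_zero y2,
      B_swap_zero z1, B_swap_zero z2, oFP_eps, Submodule.coe_zero] at d5
    linear_combination (norm := module) d5
  have gy : g • y = y - f := by
    have a1 : P.B (g • y) e = -1 := by rw [hc2 y e y3 hs y1, hz]; simp [B_swap_zero y1, y4]
    have a2 : P.B (g • y) z = 1 := by
      have := B_smul_smul g y e
      rw [hz, map_add, a1, y1] at this
      linear_combination this
    have a3 := dec (g • y)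
    have a4 := o_Q_act g y
    rw [a1, a2, hc y y3] at a3
    rw [a3] at a4
    obtain a5 : P.B (g • y) f = 0 := by
      simpa [o_Q_add, o_Q_neg, o_Q_smul, o_sing_iff.mp hs, o_sing_iff.mp y3, o_sing_iff.mp h1.right,
        B_swap_zero y1, y2, h1.pair] using a4
    rw [a3, a5]; module
  obtain ⟨t, gz⟩ : ∃ t : F, g • z = z + t • (e + z) := by
    have a1 : P.B (g • z) e = 0 := by
      rw [hc2 z e z3 hs z1, hz]; simp [B_swap_zero z1, z3.B_self]
    have a2 := B_smul_smul g z y
    have a3 := dec (g • z)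
    rw [gy, map_sub, y4] at a2
    rw [a1, hc z z3, sub_eq_iff_eq_add.mp a2] at a3
    exact ⟨P.B (g • z) f, a3.trans (by module)⟩
  have ok : P.EOk f z 0 := ⟨h1.right, z2, z3⟩
  have ue : P.eich f z 0 • e = e + z := by simp [ok.eich_smul, h1.pair, B_swap_zero z1]
  refine ⟨e, f, h1, P.eich f z 0, eich_mem_U _ _ _, (P.eich f z 0)⁻¹ * g,
    ⟨by rw [mul_smul, inv_smul_eq_iff, ue, hz], fun x hx => ⟨P.B x y * t, ?_⟩⟩, by simp⟩
  rw [mul_smul, inv_smul_eq_iff, smul_add, act_smul, ue, ok.eich_smul]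
  have := dec x
  rw [hx, zero_smul, add_zero] at this
  have h6 := congrArg (g • ·) this
  simp only [smul_add, act_smul, hz, gz, gy, hx, oFP_eps, zero_smul, add_zero] at h6 ⊢
  rw [h6]
  linear_combination (norm := module) -this

end

/-- Gauss decomposition for orthogonal spaces. -/
theorem gd_o {F : Type*} [Field F] [Finite F] (m : ℕ) :
    ∀ (V : Type u) [AddCommGroup V] [Module F V] [FiniteDimensional F V] (P : PQ (oFP F) V)
      (g : P.Iso) (H : Subgroup P.Iso), P.ND → (finrank F V - 1) / 2 = m + 1 → OInv P H → g ∈ H →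
      NSi P g → GD P g (m + 1) := by
  induction m with
  | zero =>
    intro V _ _ _ P g H hP hd hH hg hn
    obtain ⟨e, f, h, u, hu, v, hv, rfl⟩ := o_final hP (by omega) (by omega) hH hg hn
    simpa using gd_zero.cons h hu hv
  | succ m ih =>
    intro V _ _ _ P g H hP hd hH hg hn
    obtain ⟨e, f, h, u, hu, v, hv, g', d, n⟩ := exists_step hP hn (k := 3) (by omega) (fun S h => by
      obtain ⟨x, h1, h2⟩ := o_exists_sing (P.res S) h
      exact ⟨x, x.2, by simpa using h1, h2⟩) (Or.inl (by omega))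
    have := h.finrank_perp
    refine d ▸ (ih _ _ g' _ (h.emb.nd hP) (by omega) (hH.comap h.emb) ?_ n).cons h hu hv
    have := mul_mem (mul_mem (inv_mem (hH.eg (h.swap.U_le_EG hu))) hg)
      (inv_mem (hH.eg (h.U_le_EG hv)))
    rw [d] at this
    simpa [mul_assoc] using this

end Cfsg.Agent.Ore
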