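import Cfsg.Agent.Ore.Par
import Cfsg.Agent.Ore.GaussO
import Cfsg.Agent.Polar.UReg

/-!
From factorisations of the compression to commutators.
-/

set_option autoImplicit false

open Polynomial Module Matrix

namespace Cfsg.Agent.Ore

open Cfsg.Agent.GLn Cfsg.Agent.Fac Cfsg.Agent.Forms Cfsg.Agent.Polar Cfsg.Agent.Polar.PQ

universe u

section Out
variable {K : Type*} [Field K] {E : Type*} [AddCommGroup E] [Module K E] [FiniteDimensional K E]

/-- A good factorisation `M = X B⁻¹` with `X` satisfying `Pr`. -/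
def Out (τ : K →+* K) (M : End K E) (Pr : End K E → Prop) : Prop :=
  ∃ B : End K E, LinearMap.det B ≠ 0 ∧ IsCoprime B.charpoly (dualP τ B.charpoly) ∧
    IsCoprime (M * B).charpoly (dualP τ (M * B).charpoly) ∧ Pr (M * B) ∧
    (Sim (M * B) B ∨ ∃ g k : K[X], g.Monic ∧ k.Monic ∧ (M * B).charpoly = g * k ∧
      B.charpoly = g * dualP τ k ∧ (M * B).charpoly.Separable ∧ B.charpoly.Separable)

variable {τ : K →+* K} {M : End K E}

theorem Out.mono {Pr Pr' : End K E → Prop} (h : Out τ M Pr) (h' : ∀ X, Pr X → Pr' X) :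
    Out τ M Pr' := by
  obtain ⟨B, h1, h2, h3, h4, h5⟩ := h
  exact ⟨B, h1, h2, h3, h' _ h4, h5⟩

theorem det_ne_zero_iff {B : End K E} : LinearMap.det B ≠ 0 ↔ B.charpoly.coeff 0 ≠ 0 := by
  simp [LinearMap.det_eq_sign_charpoly_coeff]

theorem out_of_mix (hτ : ∀ a, τ (τ a) = a) {q : K[X]} (h : Mix τ M q)
    (hs : (q * dualP τ q).Separable) (h0 : q.coeff 0 ≠ 0) : Out τ M fun X => X.charpoly = q := by
  obtain ⟨g, k, hg, hk, rfl, B, h1, h2⟩ := h
  rw [mul_coeff_zero, mul_ne_zero_iff] at h0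
  have e : B.charpoly * dualP τ B.charpoly = g * k * dualP τ (g * k) := by
    rw [h1, dualP_mul, dualP_mul, dualP_dualP hτ hk h0.2]; ring
  have hs' := e ▸ hs
  exact ⟨B, det_ne_zero_iff.mpr (by
    rw [h1, mul_coeff_zero]; exact mul_ne_zero h0.1 (coeff_zero_dualP_ne hk h0.2)), hs'.isCoprime,
    h2 ▸ hs.isCoprime, h2, Or.inr ⟨g, k, hg, hk, h2, h1, h2 ▸ hs.of_mul_left, hs'.of_mul_left⟩⟩

theorem out_of_fct {p : K[X]} (h : Fct M p p) (hs : Simple p) (hc : IsCoprime p (dualP τ p))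
    (h0 : p.coeff 0 ≠ 0) : Out τ M fun X => X.charpoly = p := by
  obtain ⟨B, h1, h2, h3, h4⟩ := h
  exact ⟨B, det_ne_zero_iff.mpr (h3 ▸ h0), h3 ▸ hc, h4 ▸ hc, h4,
    Or.inl (sim_of_nd h2 h1 (h4.trans h3.symm) (h4 ▸ hs))⟩

end Out

section
variable {F : Type*} [Field F] {τ : F →+* F}
variable {π : Polar.FP F τ} {V : Type*} [AddCommGroup V] [Module F V] {P : PQ π V}
variable {ι : Type*} [Fintype ι] [DecidableEq ι]
variable {e f : ι → V} {x y : P.Iso} {A D A' D' : Matrix ι ι F}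

theorem Lev.of_diag {d d' : ι → F} (h1 : ∀ i, x • e i = d i • e i) (h2 : ∀ i, x • f i = d' i • f i)
    (h3 : ∀ w ∈ Wp P e f, x • w = w) : Lev P x e f (diagonal d) (diagonal d') :=
  ⟨fun a => by
      rw [act_lc]; simp [h1, Fintype.linearCombination_apply, mulVec_diagonal, smul_smul, mul_comm],
    fun a => by
      rw [act_lc]; simp [h2, Fintype.linearCombination_apply, mulVec_diagonal, smul_smul, mul_comm],
    h3⟩

namespace HF
variable (h : HF P e f) [FiniteDimensional F V]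
include h

theorem finrank_Wp : 2 * Fintype.card ι + finrank F (Wp P e f) = finrank F V ∧
    ∀ {x A D}, Lev P x e f A D → (P.det x : F) = A.det * D.det := by
  let φ : ((ι → F) × Wp P e f × (ι → F)) ≃ₗ[F] V := LinearEquiv.ofBijective
    ((lc e).coprod ((Wp P e f).subtype.coprod (lc f))) ⟨(injective_iff_map_eq_zero _).mpr
      fun ⟨a, w, b⟩ h0 => by
        have h1 := congrArg (co P e) h0
        have h2 := congrArg (co P f) h0
        simp only [LinearMap.coprod_apply, map_add, h.co_ee, h.co_ef, h.co_fe, h.co_ff,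
          Submodule.subtype_apply, w.2.1, w.2.2, map_zero, zero_add, add_zero, smul_eq_zero,
          π.eps_ne_zero, false_or] at h0 h1 h2
        simpa [h1, h2] using h0,
      fun v => by
        obtain ⟨a, b, w, hw, rfl⟩ := h.exists_decomp v
        exact ⟨(a, ⟨w, hw⟩, b), by simp [add_assoc]⟩⟩
  refine ⟨by simp [← φ.finrank_eq]; ring, fun {x A D} hx => ?_⟩
  have : Sim ((toLin' A).prodMap ((1 : End F (Wp P e f)).prodMap (toLin' D))) x.1.toLinearMap :=
    sim_iff.mpr ⟨φ, fun ⟨a, w, b⟩ => by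
      change lc e (A *ᵥ a) + (w + lc f (D *ᵥ b)) = x • (lc e a + (w + lc f b))
      simp [hx.l, hx.r, hx.w w w.2]⟩
  rw [coe_det, ← this.det]
  simp [prodMap_eq_blk, det_blk_upper]

theorem det_lev (hx : Lev P x e f A D) : (P.det x : F) = A.det * (τ A.det)⁻¹ := by
  rw [h.finrank_Wp.2 hx, eq_inv_of_mul_eq_one_left (dualM_det (dualM_symm π.tau_tau (h.dual hx)))]

omit [FiniteDimensional F V] in
theorem nd_Wp (hP : P.ND) : (P.res (Wp P e f)).ND := fun w hw => Subtype.ext (hP _ fun v => by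
  obtain ⟨a, b, w', hw', rfl⟩ := h.exists_decomp v
  simpa using (h.B_combo w.2 hw' 0 0 a b).trans (by simpa using hw ⟨w', hw'⟩))

theorem exists_cent (hP : P.ND) (hx : Lev P x e f A D) (hA : DetFull (toLin' A)) {t : F}
    (ht : t ≠ 0) : ∃ c C C', Lev P c e f C C' ∧ C.det = t ∧ c * x = x * c := by
  obtain ⟨C, h1, h2⟩ := hA t ht
  obtain ⟨C, rfl⟩ := toLin'.surjective C
  rw [LinearMap.det_toLin'] at h2
  obtain ⟨c, C', hc⟩ := h.exists_lev' hP (h2 ▸ ht)
  have : C * A = A * C := toLin'.injective (by rwa [toLin'_mul, toLin'_mul])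
  exact ⟨c, C, C', hc, h2, h.lev_unique (this ▸ hc.mul hx) (hx.mul hc)⟩

theorem conj_of_out [Finite V] (hP : P.ND) {a b : P.Iso}
    (ha : a ∈ ⨆ i, P.U (f i)) (hb : b ∈ ⨆ i, P.U (e i)) {Pr : End F (ι → F) → Prop}
    (ho : Out τ (toLin' (cm P e f (a * b))) Pr) {H : Subgroup P.Iso} [hH : H.Normal]
    (h1 : ∀ x A D, Lev P x e f A D → Pr (toLin' A) → (∃ z, (∀ g, z * g = g * z) ∧ z * x ∈ H) ∧
      H ⊔ Subgroup.centralizer {x} = ⊤) :
    ∃ x ∈ H, ∃ y ∈ H, a * b = x * y * x⁻¹ * y⁻¹ := by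
  obtain ⟨B, b1, b2, b3, b4, b5⟩ := ho
  obtain ⟨B, rfl⟩ := toLin'.surjective B
  rw [Module.End.mul_eq_comp, ← toLin'_mul] at b3 b4 b5
  simp only [charpoly_toLin', LinearMap.det_toLin'] at b1 b2 b3 b5
  obtain ⟨y, D', hy⟩ := h.exists_lev' hP b1
  obtain ⟨x, D, hx⟩ := h.exists_lev' hP (A := cm P e f (a * b) * B) (by
    simp [h.cm_mul _ (h.det_cm_of_mem hb).1, (h.det_cm_of_mem hb).2, (h.det_cm_of_mem' ha).2, b1])
  obtain ⟨⟨z, z1, z2⟩, h2⟩ := h1 x _ D hx b4
  obtain ⟨u, hu, v, hv, huv⟩ := h.factor hP ha hb hx hy b3 b2 z1 z2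
  obtain ⟨k, hk⟩ := isConj_iff.mp (b5.elim (h.conj_sim hP hx hy) fun ⟨g, k, c1, c2, c3, c4, c5, c6⟩ =>
    h.conj_mix hP hx hy c1 c2 c3 c4 c5 c6)
  obtain ⟨l, hl, c, hc, rfl⟩ := Subgroup.mem_sup_of_normal_left.mp (h2 ▸ Subgroup.mem_top k)
  have hc' : c * x * c⁻¹ = x := by
    rw [← Subgroup.mem_centralizer_singleton_iff.mp hc |>.symm]; simp
  refine ⟨u * (z * x) * u⁻¹, hH.conj_mem _ z2 _, v * l * u⁻¹, mul_mem (mul_mem hv hl) (inv_mem hu), ?_⟩
  have e1 : y = l * (c * x * c⁻¹) * l⁻¹ := by rw [← hk]; group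
  have e2 : ∀ g, z * g * z⁻¹ = g := fun g => by rw [z1]; simp
  rw [huv, e1, hc']
  calc _ = u * (x * u⁻¹ * v * l * x⁻¹) * l⁻¹ * v⁻¹ := by group
    _ = u * (z * (x * u⁻¹ * v * l * x⁻¹) * z⁻¹) * l⁻¹ * v⁻¹ := by rw [e2]
    _ = _ := by group

end HF

theorem GD.comm [FiniteDimensional F V] [Finite V] (hP : P.ND) {g : P.Iso} {m : ℕ} (hg : GD P g m)
    (hm : 0 < m) {Pr : End F (Fin m → F) → Prop}
    (ho : ∀ M : End F (Fin m → F), LinearMap.det M = 1 → NS M → Out τ M Pr)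
    {H : Subgroup P.Iso} [hH : H.Normal]
    (h1 : ∀ e f x A D, HF P e f → Lev P x e f A D → Pr (toLin' A) →
      (∃ z, (∀ g, z * g = g * z) ∧ z * x ∈ H) ∧ H ⊔ Subgroup.centralizer {x} = ⊤) :
    ∃ x ∈ H, ∃ y ∈ H, g = x * y * x⁻¹ * y⁻¹ := by
  obtain ⟨e, f, h, ⟨a, ha, b, hb, rfl⟩, h2⟩ := hg
  refine h.conj_of_out hP ha hb (ho _ (by
    simp [h.cm_mul _ (h.det_cm_of_mem hb).1, (h.det_cm_of_mem hb).2, (h.det_cm_of_mem' ha).2])
    fun c hc => ?_) fun x A D => h1 e f x A D h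
  simpa [cm, h2 hm, eq_comm] using congrFun (LinearMap.congr_fun hc (Pi.single ⟨0, hm⟩ 1)) ⟨0, hm⟩

end

section U
variable {F : Type*} [Field F] [Fintype F] {q : ℕ} {hF : Fintype.card F = q ^ 2}
variable {V : Type*} [AddCommGroup V] [Module F V] [FiniteDimensional F V] {P : PQ (uFP hF) V}
variable {ι : Type*} [Fintype ι] [DecidableEq ι]

theorem u_adj (hP : P.ND) {e f : ι → V} (h : HF P e f) {x : P.Iso} {A D : Matrix ι ι F}
    (hx : Lev P x e f A D) (h1 : DetFull (toLin' A)) {s : F} (hs : s * frobq hF s = 1)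
    (h2 : s ^ finrank F V * A.det = frobq hF A.det) :
    (∃ z, (∀ g, z * g = g * z) ∧ z * x ∈ P.EG) ∧ P.EG ⊔ Subgroup.centralizer {x} = ⊤ := by
  have a0 := left_ne_zero_of_mul_eq_one (dualM_det (h.dual hx))
  refine ⟨⟨P.scal s hs, fun g => PQ.iso_ext fun v => by simp [mul_smul, scal_smul, act_smul],
    u_mem_EG hP ?_⟩, eq_top_iff.mpr fun k _ => ?_⟩
  · rw [map_mul, Units.val_mul, det_scal, h.det_lev hx, ← mul_assoc, h2, mul_inv_cancel₀]
    simpa using a0
  · obtain ⟨t, t0, ht⟩ := exists_hilbert hF (det_norm hP k)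
    obtain ⟨c, C, C', h3, rfl, h4⟩ := h.exists_cent hP hx h1 t0
    refine Subgroup.mem_sup_of_normal_left.mpr ⟨k * c, u_mem_EG hP ?_, c⁻¹,
      inv_mem (Subgroup.mem_centralizer_singleton_iff.mpr h4), by simp⟩
    rw [map_mul, Units.val_mul, h.det_lev h3, ht, ← mul_assoc, mul_inv_cancel₀]
    exact mul_ne_zero (Units.ne_zero _) t0

end U

section O
variable {F : Type u} [Field F] [Fintype F]
variable {V : Type*} [AddCommGroup V] [Module F V] [FiniteDimensional F V] {P : PQ (oFP F) V}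
variable {ι : Type} [Fintype ι] [DecidableEq ι] {e f : ι → V}

theorem o_lev_mem (hP : P.ND) (h5 : 5 ≤ finrank F V) (h3 : 3 ≤ Fintype.card ι) (h : HF P e f)
    {x : P.Iso} {A D : Matrix ι ι F} (hx : Lev P x e f A D) (hA : A.det = 1) : x ∈ P.EG := by
  obtain ⟨a, b, h1, h2, h3⟩ := thompson (M := toLin' A) (by simp; omega) (by simp; omega) (by simpa)
  obtain ⟨a, rfl⟩ := toLin'.surjective a
  obtain ⟨b, rfl⟩ := toLin'.surjective b
  rw [LinearMap.det_toLin'] at h1 h2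
  obtain ⟨a', A', ha⟩ := h.exists_lev' hP (A := a) (by simp [h1])
  obtain ⟨b', B', hb⟩ := h.exists_lev' hP (A := b) (by simp [h2])
  have h4 : A * b * a = a * b := toLin'.injective (by rwa [toLin'_mul, toLin'_mul, toLin'_mul])
  have h5' := h.lev_unique (h4 ▸ (hx.mul hb).mul ha) (ha.mul hb)
  refine o_commutator_le_EG hP h5 ?_
  rw [show x = a' * b' * a'⁻¹ * b'⁻¹ by rw [← h5']; group]
  exact Subgroup.commutator_mem_commutator trivial trivial

theorem o_adj (hP : P.ND) (h5 : 5 ≤ finrank F V) (h3 : 3 ≤ Fintype.card ι)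
    (hW : 2 * Fintype.card ι < finrank F V) (h : HF P e f) {x : P.Iso} {A D : Matrix ι ι F}
    (hx : Lev P x e f A D) (h1 : DetFull (toLin' A)) (h2 : IsSquare A.det) :
    (∃ z, (∀ g, z * g = g * z) ∧ z * x ∈ P.EG) ∧ P.EG ⊔ Subgroup.centralizer {x} = ⊤ := by
  have a0 := left_ne_zero_of_mul_eq_one (dualM_det (h.dual hx))
  obtain ⟨i⟩ : Nonempty ι := Fintype.card_pos_iff.mp (by omega)
  have key : ∀ {x y A D A' D'}, Lev P x e f A D → Lev P y e f A' D' → A.det = A'.det →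
      x * y⁻¹ ∈ P.EG := fun {x y A D A' D'} hx hy hd => by
    have a0 := left_ne_zero_of_mul_eq_one (dualM_det (h.dual hy))
    obtain ⟨z, E, hz⟩ := h.exists_lev' hP (A := A * A'⁻¹) (by simp [hd, a0])
    have := hz.mul hy
    rw [Matrix.nonsing_inv_mul_cancel_right _ _ (by simpa using a0)] at this
    rw [← h.lev_unique this hx, mul_inv_cancel_right]
    exact o_lev_mem hP h5 h3 h hz (by simp [hd, a0])
  refine ⟨⟨1, by simp, ?_⟩, eq_top_iff.mpr fun k _ => ?_⟩
  · obtain ⟨c, hc⟩ := h2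
    have c0 : c ≠ 0 := by rintro rfl; simp [hc] at a0
    have d : (diagonal (Function.update 1 i c) : Matrix ι ι F).det = c := by
      simp [Finset.prod_update_of_mem]
    obtain ⟨y, E, hy⟩ := h.exists_lev' hP (d ▸ c0)
    have := mul_mem (key hx (hy.mul hy) (by rw [det_mul, d, hc])) (o_sq_mem_EG hP h5 y)
    simpa [sq, -_root_.mul_inv_rev] using this
  have h6 := h.finrank_Wp.1
  have : Nontrivial (Wp P e f) := Module.nontrivial_of_finrank_pos (R := F) (by omega)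
  obtain ⟨⟨w, hw⟩, c, c0, hc⟩ := (h.nd_Wp hP).exists_QEq_ne
  have w0 : P.Q w ≠ 0 := (o_QEq_iff.mp hc : P.Q w = c) ▸ c0
  have hi := h.hyp i
  have hv := o_vTrans hP h5
  induction k using o_induction hP h5 with
  | h1 => exact one_mem _
  | hr g v v0 ih =>
    refine mul_mem ?_ (ih trivial)
    have qa : ∀ t : F, P.Q (e i + t • f i) = t := fun t => by simpa using hi.o_Q_combo 1 t
    have r1 := reflect_mul_reflect_mem_EG hv hP hi v0 (v := e i + P.Q v • f i) (by rwa [qa])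
      (by rw [qa]; exact ⟨_, rfl⟩)
    have r2 := reflect_mul_reflect_mem_EG hv hP hi (u := e i + P.Q w • f i) (by rwa [qa]) w0
      (by rw [qa]; exact ⟨_, rfl⟩)
    have r3 : P.reflect w ∈ Subgroup.centralizer {x} :=
      Subgroup.mem_centralizer_singleton_iff.mpr (by
        rw [mul_inv_eq_iff_eq_mul.mp (conj_reflect x w), hx.w w hw])
    have r4 : Lev P (P.reflect (e i + P.Q v • f i) * P.reflect (e i + P.Q w • f i)) e f
        (diagonal (Function.update 1 i (P.Q w / P.Q v)))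
        (diagonal (Function.update 1 i (P.Q v / P.Q w))) := by
      have s1 : ∀ t : F, t ≠ 0 → P.reflect (e i + t • f i) • e i = -t • f i := fun t ht => by
        rw [reflect_smul (by rwa [qa]), qa]; simp [h.ee, h.ef, ht]
      have s2 : ∀ t : F, t ≠ 0 → P.reflect (e i + t • f i) • f i = -t⁻¹ • e i := fun t ht => by
        rw [reflect_smul (by rwa [qa]), qa]; simp [h.ff, hi.pair', ht, smul_smul]
      refine Lev.of_diag (fun j => ?_) (fun j => ?_) fun w hw => ?_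
      · by_cases hj : j = i
        · subst hj
          rw [mul_smul, s1 _ w0, act_smul, s2 _ v0, smul_smul]; simp [div_eq_mul_inv]
        · simp [mul_smul, hj, reflect_smul_of_perp, h.ee, h.ef]
      · by_cases hj : j = i
        · subst hj
          rw [mul_smul, s2 _ w0, act_smul, s1 _ v0, smul_smul]; simp [div_eq_inv_mul]
        · simp [mul_smul, hj, reflect_smul_of_perp, h.ff, o_swap (e i), h.ef, Ne.symm hj]
      · simp [mul_smul, reflect_smul_of_perp, mem_Wp'.mp hw]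
    obtain ⟨c, C, C', h3, h4, h7⟩ := h.exists_cent hP hx h1
      (left_ne_zero_of_mul_eq_one (dualM_det (h.dual r4)))
    have r5 := mul_mem (Subgroup.mul_mem_sup r1 (one_mem (Subgroup.centralizer {x})))
      (mul_mem (Subgroup.mul_mem_sup (key r4 h3 h4.symm)
        (Subgroup.mem_centralizer_singleton_iff.mpr h7)) (Subgroup.mul_mem_sup r2 r3))
    have r6 : ∀ (v : V) (g : P.Iso), P.reflect v * (P.reflect v * g) = g := fun v g => by
      rw [← mul_assoc, reflect_mul_self, one_mul]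
    simpa [mul_assoc, reflect_mul_self, r6] using r5

end O

end Cfsg.Agent.Ore
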