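import Cfsg.Agent.Ore.Enc

/-!
Verified factorisations in small dimension over small fields.
-/

set_option autoImplicit false

open Polynomial Module

namespace Cfsg.Agent.Ore

open Cfsg.Agent.GLn Cfsg.Agent.Fac Cfsg.Agent.Forms

universe u

namespace Enc
variable {o : Ops} {K : Type u} [Field K] {τ : K →+* K} (c : Enc o τ)

section
variable {V W : Type*} [AddCommGroup V] [Module K V] [AddCommGroup W] [Module K W]

theorem exists_poly_lt {r : K[X]} {s : ℕ} (h : r.degree < s) :
    ∃ l : List ℕ, l.length = s ∧ (∀ a ∈ l, a < o.q) ∧ c.poly l = r := by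
  choose f hf hf' using c.surj
  refine ⟨(List.range s).map fun i => f (r.coeff i), by simp, by simp [hf], ?_⟩
  ext i
  rw [coeff_poly]
  by_cases hi : i < s
  · rw [List.getD_eq_getElem _ _ (by simpa)]; simp [hf']
  · rw [List.getD_eq_default _ _ (by simpa using hi), c.ev_zero,
      coeff_eq_zero_of_degree_lt (h.trans_le (by exact_mod_cast not_lt.mp hi))]

theorem comb_krylov (N : End K V) (s : ℕ) (w : V) (l : List ℕ) (h : l.length ≤ s) :
    c.comb ((List.range s).map fun j => (N ^ j) w) l = aeval N (c.poly l) w := by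
  induction s generalizing w l with
  | zero => simp_all [poly]
  | succ s ih =>
    rcases l with _ | ⟨a, l⟩
    · simp [poly]
    · have := ih (N w) l (by simpa using h)
      rw [List.range_succ_eq_map, List.map_cons, List.map_map, comb_cons, poly, mul_comm X]
      simp only [Function.comp_def, pow_succ, Module.End.mul_apply, this]
      simp [Module.algebraMap_end_apply]

/-- `M` is given by the block companion matrix `L` in the basis `bs`. -/
structure Rep (M : End K V) (L : List (List ℕ)) (bs : List V) : Prop where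
  valid : ∀ x ∈ L, x ≠ [] ∧ ∀ a ∈ x, a < o.q
  len : bs.length = (L.map List.length).sum
  dim : bs.length = finrank K V
  span : ∀ v, ∃ l, l.length = bs.length ∧ c.comb bs l = v
  act : bs.map M = (colsC L).map (c.comb bs)
  det : LinearMap.det M = c.ev (o.detC L)
  clen : ∀ x ∈ colsC L, x.length ≤ bs.length

variable {c}

theorem Rep.of_sim [FiniteDimensional K V] [FiniteDimensional K W] {M : End K V} {N : End K W}
    {L : List (List ℕ)} {bs : List V} (h : c.Rep M L bs) (hs : Sim M N) :
    ∃ bs', c.Rep N L bs' := by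
  obtain ⟨e, he⟩ := sim_iff.mp hs
  refine ⟨bs.map e.toLinearMap, h.valid, by simp [h.len], by simp [h.dim, e.finrank_eq], fun v => ?_,
    ?_, hs.det ▸ h.det, by simpa using h.clen⟩
  · obtain ⟨l, h1, h2⟩ := h.span (e.symm v)
    exact ⟨l, by simpa, by rw [comb_map, h2]; simp⟩
  · have := congrArg (List.map e) h.act
    simp only [List.map_map] at this ⊢
    convert this using 2
    · ext x; simp [he]
    · ext x; exact c.comb_map e.toLinearMap _ _

theorem Rep.cons [FiniteDimensional K V] [FiniteDimensional K W] {M : End K V} {N : End K W}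
    {L : List (List ℕ)} {bs : List V} (h : c.Rep M L bs) {w : W} (hw : Cyc N w)
    (hd : 1 ≤ finrank K W) : ∃ L' bs', c.Rep (M.prodMap N) L' bs' := by
  set s := finrank K W with hs
  have hχ : N.charpoly.natDegree = s := N.charpoly_natDegree
  obtain ⟨x, x1, x2, x3⟩ := c.exists_poly_lt (r := X ^ s - N.charpoly) (s := s) (by
    have := degree_sub_lt_left (p := X ^ s) (q := N.charpoly)
      (by rw [degree_X_pow, degree_eq_natDegree N.charpoly_monic.ne_zero, hχ])
      (by simp) (by simp [N.charpoly_monic.leadingCoeff])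
    rwa [degree_X_pow] at this)
  set ks := (List.range s).map fun j => (N ^ j) w with hks
  have hl : ks.length = s := by simp [hks]
  have hc : ∀ y ∈ compC x, y.length ≤ s := by
    simp only [compC, List.mem_append, List.mem_map, List.mem_range, List.mem_singleton]
    rintro y (⟨j, hj, rfl⟩ | rfl)
    · simp [unitC]; omega
    · exact x1.le
  have ha : ks.map N = (compC x).map (c.comb ks) := by
    refine List.ext_getElem (by simp [compC, hl, x1]; omega) fun j h1 h2 => ?_
    rw [List.length_map, hl] at h1
    simp only [compC, List.getElem_map, List.map_append, List.map_map, List.getElem_append]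
    split_ifs with h3
    · simp only [List.length_map, List.length_range] at h3
      rw [Function.comp_apply, List.getElem_range,
        c.comb_unitC _ _ _ (show j + 1 < ks.length by omega)]
      simp [c.ev_one, hks, pow_succ']
    · simp only [List.length_map, List.length_range] at h3
      have h4 : s = j + 1 := by omega
      rw [List.getElem_singleton, c.comb_krylov _ _ _ _ x1.le, x3, h4]
      simp [hks, LinearMap.aeval_self_charpoly, pow_succ']
  refine ⟨x :: L, ks.map (LinearMap.inr K V W) ++ bs.map (LinearMap.inl K V W), ?_,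
    by simp [hl, x1, h.len], by simp [hl, h.dim, ← hs, add_comm], fun v => ?_, ?_, ?_, ?_⟩
  · rintro y (_ | ⟨_, hy⟩)
    · exact ⟨by rintro rfl; simp at x1; omega, x2⟩
    · exact h.valid y hy
  · obtain ⟨p, hp⟩ := hw v.2
    obtain ⟨l, l1, -, l3⟩ := c.exists_poly_lt (r := p %ₘ N.charpoly) (s := s) (by
      have := degree_modByMonic_lt p N.charpoly_monic
      rwa [degree_eq_natDegree N.charpoly_monic.ne_zero, hχ] at this)
    obtain ⟨l', k1, k2⟩ := h.span v.1
    refine ⟨l ++ l', by simp [hl, l1, k1], ?_⟩
    rw [c.comb_append _ _ _ _ (by simp [hl, l1]), comb_map, comb_map, k2, hks,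
      c.comb_krylov _ _ _ _ l1.le, l3, aeval_modByMonic_eq_self_of_root N.aeval_self_charpoly, hp]
    simp
  · rw [colsC, List.map_append, List.map_append]
    congr 1
    · have := congrArg (List.map (LinearMap.inr K V W)) ha
      simp only [List.map_map] at this ⊢
      refine Eq.trans ?_ (this.trans (List.map_congr_left fun y hy => ?_))
      · exact List.map_congr_left fun y _ => by simp
      · rw [c.comb_append_left _ _ _ (by simpa [hl] using hc y hy), comb_map]; rfl
    · have := congrArg (List.map (LinearMap.inl K V W)) h.act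
      simp only [List.map_map] at this ⊢
      refine Eq.trans ?_ (this.trans (List.map_congr_left fun y hy => ?_))
      · exact List.map_congr_left fun y _ => by simp
      · simp only [Function.comp_apply]
        rw [c.comb_append _ _ _ _ (by simp [hl, x1]), comb_replicate, comb_map, zero_add]
  · have := congrArg (coeff · 0) x3
    simp only [coeff_poly, coeff_sub, coeff_X_pow, if_neg (show ¬ 0 = s by omega)] at this
    rw [LinearMap.det_prodMap, Ops.detC, c.ev_mu, c.ev_mu, ev_sgn, this, h.det,
      LinearMap.det_eq_sign_charpoly_coeff N, x1, ← hs]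
    ring
  · intro y hy
    rw [colsC, List.mem_append, List.mem_map] at hy
    rcases hy with hy | ⟨y, hy, rfl⟩
    · have := hc y hy
      simp [hl]; omega
    · have := h.clen y hy
      simp [hl, x1]; omega

theorem Rep.exists_map [FiniteDimensional K V] {M : End K V} {L : List (List ℕ)} {bs : List V}
    (h : c.Rep M L bs) : (∀ j (hj : j < bs.length), bs[j] ≠ 0) ∧
      ∀ ws : List V, ws.length = bs.length → ∃ B : End K V, bs.map B = ws := by
  let b := basisOfTopLeSpanOfCardEqFinrank (R := K) (fun i : Fin bs.length => bs[i]) (fun v _ => by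
    obtain ⟨l, -, rfl⟩ := h.span v
    refine c.comb_mem _ _ (fun w hw => Submodule.subset_span ?_) _
    obtain ⟨i, hi, rfl⟩ := List.getElem_of_mem hw
    exact ⟨⟨i, hi⟩, rfl⟩) (by simp [h.dim])
  have hb : ∀ i, b i = bs[i] := fun i => by simp [b]
  refine ⟨fun j hj => hb ⟨j, hj⟩ ▸ b.ne_zero _, fun ws hws =>
    ⟨b.constr K fun i => ws[(i : ℕ)]'(by omega), List.ext_getElem (by simp [hws]) fun j h1 h2 => ?_⟩⟩
  have := b.constr_basis K (fun i => ws[(i : ℕ)]'(by omega)) ⟨j, by simpa using h1⟩
  rw [hb] at this
  simpa using this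

end

variable {V : Type u} [AddCommGroup V] [Module K V] [FiniteDimensional K V]

theorem exists_rep {M : End K V} (hM : LinearMap.det M ≠ 0) : ∃ L bs, c.Rep M L bs := by
  obtain ⟨R, hR, h⟩ := exists_blocks M
  refine blocks_ind (fun _ _ _ _ M => ∃ L bs, c.Rep M L bs) 0 R ?_ (fun V _ _ _ M h _ => ?_)
    (fun x hx V W _ _ _ _ _ _ M N w ⟨L, bs, h⟩ _ _ hw hχ => h.cons hw ?_)
    (fun x hx => (hR x hx).2.1) V M (by simpa using h) hM
  · rintro _ _ _ _ _ _ _ _ _ _ ⟨L, bs, h⟩ hs
    exact ⟨L, h.of_sim hs⟩
  · have := h.subsingleton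
    exact ⟨[], [], by simp, rfl, Module.finrank_zero_of_subsingleton.symm,
      fun v => ⟨[], rfl, Subsingleton.elim _ _⟩, rfl,
      by rw [Subsingleton.elim M 1]; simp [Ops.detC, c.ev_one], by simp [colsC]⟩
  · rw [finrank_eq_of_charpoly hχ]; exact one_le_deg hR hx

theorem mix_of_base (hτ : ∀ a, τ (τ a) = a) {l cs : List ℕ} (h : o.base l cs = true)
    (hl : 2 ≤ l.length) (hd : finrank K V = l.length) {M : End K V} (h1 : LinearMap.det M = 1)
    (h2 : NS M) : Mix τ M (c.poly (l ++ [1])) := by
  rw [Ops.base, Bool.and_eq_true] at h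
  have hi := c.irreducible_poly h.1 (by rintro rfl; simp at hl)
  obtain ⟨m1, m2⟩ := c.monic_poly l
  have h0 : (c.poly (l ++ [1])).coeff 0 ≠ 0 := fun h0 => by
    have := eq_X_sub_C_of_root hi m1 (l := 0) (by rwa [← coeff_zero_eq_eval_zero])
    rw [this] at m2
    simp at m2; omega
  obtain ⟨L, bs, r⟩ := c.exists_rep (M := M) (by simp [h1])
  have hb : bs.length = l.length := r.dim.trans hd
  have := o.mem_allB r.valid l.length (by rw [← r.len, hb])
  rw [← r.len, hb] at this
  rcases o.chk_spec h.2 L this with k | ⟨n, k⟩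
  · exfalso
    simp only [Ops.skip, Bool.or_eq_true, Bool.not_eq_true', beq_eq_false_iff_ne, ne_eq,
      c.norm_eq c.one_lt, List.any_eq_true, List.mem_range, Bool.and_eq_true, bne_iff_ne,
      beq_iff_eq] at k
    rcases k with k | ⟨a, a1, a2, a3⟩
    · exact k (by rw [← r.det, h1, c.ev_one])
    · refine a2 (c.inj _ a1 _ c.one_lt ((h2 _ (LinearMap.ext fun v => ?_)).trans c.ev_one.symm))
      obtain ⟨x, -, rfl⟩ := r.span v
      rw [← comb_map, ← comb_map, r.act, a3]
      congr 1
      refine List.ext_getElem (by simp [hb]) fun j j1 j2 => ?_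
      simp [c.comb_unitC _ _ _ (show j < bs.length by simpa using j2)]
  · obtain ⟨n0, hex⟩ := r.exists_map
    obtain ⟨B, hB⟩ := hex ((o.dec l.length l.length n).map (c.comb bs)) (by simp [o.length_dec, hb])
    have e1 : ∀ x, c.comb bs (o.mv (o.dec l.length l.length n) x) = B (c.comb bs x) := fun x => by
      rw [comb_mv, ← hB, comb_map]
    have e2 : ∀ x, c.comb bs (o.mv (colsC L) (o.mv (o.dec l.length l.length n) x)) =
        (M * B) (c.comb bs x) := fun x => by
      rw [comb_mv, ← r.act, comb_map, e1]; rfl
    have v0 : c.comb bs [1] ≠ 0 := by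
      have := c.comb_unitC bs 0 1 (by omega)
      rw [c.ev_one, one_smul] at this
      exact (show c.comb bs [1] = _ from this) ▸ n0 0 _
    simp only [Ops.ok, Bool.and_eq_true, Bool.or_eq_true] at k
    have k1 := charpoly_eq_of_irreducible hi m1 (m2.trans hd.symm) v0
      (c.aeval_pev bs _ e2 _ _ ▸ c.comb_of_isZ bs k.1)
    rcases k.2 with k2 | k2
    · exact FP.mix ⟨B, charpoly_eq_of_irreducible hi m1 (m2.trans hd.symm) v0
        (c.aeval_pev bs _ e1 _ _ ▸ c.comb_of_isZ bs k2), k1⟩
    · have := c.aeval_pev bs _ e1 _ _ ▸ c.comb_of_isZ bs k2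
      rw [poly_dualC] at this
      exact FP.mix' ⟨B, charpoly_eq_of_irreducible (irreducible_dualP hτ m1 h0 hi) (monic_dualP h0)
        ((natDegree_dualP h0).trans (m2.trans hd.symm)) v0 this, k1⟩

end Enc

end Cfsg.Agent.Ore
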