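import Cfsg.Agent.Ore.Mix

/-!
Compressions to the identity or to a scalar plus a rank one map; good irreducible polynomials.
-/

set_option autoImplicit false

open Polynomial Module

namespace Cfsg.Agent.Ore

open Cfsg.Agent.GLn Cfsg.Agent.Fac Cfsg.Agent.Forms

universe u

section Good
variable {K : Type*} [Field K] {τ : K →+* K}

theorem FP.det_one {V : Type*} [AddCommGroup V] [Module K V] [FiniteDimensional K V]
    {M : End K V} {f : K[X]} (h : FP M f f) (h0 : f.coeff 0 ≠ 0) : LinearMap.det M = 1 := by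
  obtain ⟨B, h1, h2⟩ := h
  have e1 := LinearMap.det_eq_sign_charpoly_coeff B
  have e2 := LinearMap.det_eq_sign_charpoly_coeff (M * B)
  rw [h2, ← h1, ← e1, map_mul] at e2
  have : LinearMap.det B ≠ 0 := by rw [e1, h1]; simpa using h0
  exact mul_right_cancel₀ this (by rw [e2, one_mul])

theorem exists_rank_one {V : Type*} [AddCommGroup V] [Module K V] {T : End K V} {u : V} {d : ℕ}
    (h : LinearIndependent K fun i : Fin (d + 1) => (T ^ (i : ℕ)) u) {f : K[X]} (hf : f.Monic)
    (hd : f.natDegree = d + 1) :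
    ∃ (r : V) (θ : V →ₗ[K] K), θ ≠ 0 ∧ aeval (T + θ.smulRight r) f u = 0 := by
  obtain ⟨θ, hθ⟩ := exists_fun_of_li h fun i => if (i : ℕ) = d then (1 : K) else 0
  have h1 : θ ((T ^ d) u) = 1 := by simpa using hθ (Fin.last d)
  refine ⟨-aeval T f u, θ, fun h0 => by simp [h0] at h1, ?_⟩
  set S := T + θ.smulRight (-aeval T f u) with hS
  have h2 : ∀ k ≤ d, (S ^ k) u = (T ^ k) u := by
    intro k hk
    induction k with
    | zero => rfl
    | succ k ih =>
      have := hθ ⟨k, by omega⟩
      simp only [show k ≠ d by omega, if_false] at this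
      rw [pow_succ', pow_succ', Module.End.mul_apply, ih (by omega)]
      simp [hS, this]
  have h3 : (S ^ (d + 1)) u = (T ^ (d + 1)) u - aeval T f u := by
    rw [pow_succ', pow_succ', Module.End.mul_apply, h2 d le_rfl]
    simp [hS, h1, sub_eq_add_neg]
  have h4 : ∀ R : End K V, aeval R f u =
      ∑ i ∈ Finset.range (d + 1), f.coeff i • (R ^ i) u + (R ^ (d + 1)) u := fun R => by
    rw [aeval_eq_sum_range, hd, Finset.sum_range_succ, ← hd, hf.coeff_natDegree]
    simp
  rw [h4 S, h3, Finset.sum_congr rfl fun i hi => by rw [h2 i (by simpa [Nat.lt_succ_iff] using hi)],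
    ← add_sub_assoc, ← h4, sub_self]

theorem exists_good [Fintype K] {r : ℕ} (hτ : ∀ a, τ a = a ^ r) (hr : r = 1 ∨ (r = 2 ∧ (2 : K) = 0))
    {d : ℕ} (hd : 3 ≤ d) :
    ∃ (E : Type) (_ : AddCommGroup E) (_ : Module K E) (_ : FiniteDimensional K E) (f : K[X]),
      finrank K E = d ∧ Irreducible f ∧ f.Monic ∧ f.natDegree = d ∧ dualP τ f ≠ f ∧
      f.coeff 0 = (-1) ^ d ∧ ∀ ζ : K, ζ ≠ 0 →
        ∃ (u : E) (θ : E →ₗ[K] K), θ ≠ 0 ∧ FP (ζ • 1 + θ.smulRight u) f f := by
  obtain ⟨L, _, _, _, -, -, h1, h2, -, -⟩ := exists_singer K d (by omega)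
  set Q := Fintype.card K with hQ
  have hQ2 : 2 ≤ Q := Fintype.one_lt_card
  obtain ⟨k, rfl⟩ : ∃ k, d = k + 3 := ⟨d - 3, by omega⟩
  set N := ∑ i ∈ Finset.range (k + 3), Q ^ i with hN
  have hN1 : Q ^ (k + 2) + 2 < N := by
    have := Finset.sum_le_sum_of_subset (f := fun i => Q ^ i)
      (Finset.range_mono (show 2 ≤ k + 2 by omega))
    rw [hN, Finset.sum_range_succ]
    rw [Finset.sum_range_succ, Finset.sum_range_one, pow_zero, pow_one] at this
    omega
  obtain ⟨l, l0, hl⟩ := exists_orderOf_eq_of_dvd L (m := N) (by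
    rw [h1, hN, Nat.geomSum_eq hQ2]
    exact Nat.div_dvd_of_dvd (Nat.sub_one_dvd_pow_sub_one _ _))
  have hint : ∀ x : L, IsIntegral K x := fun x => Algebra.IsIntegral.isIntegral x
  have hdeg : ∀ ζ : K, ζ ≠ 0 → (minpoly K (ζ • l)).natDegree = k + 3 := fun ζ hζ => by
    have e1 := (pow_card_pow_eq_self_iff (hint (ζ • l)) _).mpr dvd_rfl
    have e2 : (minpoly K (ζ • l)).natDegree ≤ k + 3 := h2 ▸ minpoly.natDegree_le _
    have e3 := minpoly.natDegree_pos (hint (ζ • l))
    set e := (minpoly K (ζ • l)).natDegree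
    rw [_root_.smul_pow, FiniteField.pow_card_pow, smul_right_inj hζ, ← hQ] at e1
    have e4 : 1 < Q ^ e := Nat.one_lt_pow (by omega) hQ2
    have e5 : N ∣ Q ^ e - 1 := by
      rw [← hl, orderOf_dvd_iff_pow_eq_one]
      refine mul_right_cancel₀ l0 ?_
      rw [← pow_succ, Nat.sub_add_cancel e4.le, e1, one_mul]
    have e6 := Nat.le_of_dvd (by omega) e5
    by_contra h
    have := Nat.pow_le_pow_right (n := Q) (by omega) (show e ≤ k + 2 by omega)
    omega
  have hd1 : (minpoly K l).natDegree = k + 3 := by simpa using hdeg 1 one_ne_zero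
  have hi := minpoly.irreducible (hint l)
  have hm := minpoly.monic (hint l)
  have hA : (Algebra.lmul K L l).charpoly = minpoly K l :=
    charpoly_eq_of_irreducible hi hm (hd1.trans h2.symm) one_ne_zero (by
      rw [aeval_algHom_apply, minpoly.aeval]; simp)
  refine ⟨L, inferInstance, inferInstance, inferInstance, minpoly K l, h2, hi, hm, hd1,
    fun h => ?_, ?_, fun ζ hζ => ?_⟩
  · obtain ⟨σ, hσ⟩ : ∃ σ : L →+* L, ∀ x, σ x = x ^ r := by
      rcases hr with rfl | ⟨rfl, h2⟩
      · exact ⟨RingHom.id L, by simp⟩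
      · have : CharP K 2 := CharTwo.of_one_ne_zero_of_two_eq_zero one_ne_zero h2
        have : CharP L 2 := charP_of_injective_algebraMap (algebraMap K L).injective 2
        exact ⟨frobenius L 2, fun x => rfl⟩
    have e1 := map_aeval_eq_aeval_map (φ := τ) (ψ := σ) (R := K) (S := L) (T := K) (U := L)
      (by ext x; simp [hσ, hτ]) (minpoly K l) l
    rw [minpoly.aeval, map_zero, hσ] at e1
    have := invertibleOfNonzero (pow_ne_zero r l0)
    have e2 : aeval (⅟(l ^ r)) (minpoly K l) = 0 := by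
      rw [← h, dualP, map_mul, aeval_def (⅟(l ^ r)) (reverse _),
        (eval₂_reverse_eq_zero_iff (algebraMap K L) _ _).mpr e1.symm, mul_zero]
    obtain ⟨s, hs⟩ := minpoly.exists_algEquiv_of_root' (hint l).isAlgebraic e2
    obtain ⟨j, rfl⟩ := (FiniteField.bijective_frobeniusAlgEquivOfAlgebraic_pow K L).2 s
    rw [AlgEquiv.coe_pow, FiniteField.coe_frobeniusAlgEquivOfAlgebraic_iterate] at hs
    have e3 : N ∣ Q ^ (j : ℕ) + r := by
      rw [← hl, orderOf_dvd_iff_pow_eq_one, pow_add]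
      simp only [← hQ] at hs
      rw [hs, invOf_mul_self]
    have e4 := Nat.le_of_dvd (by positivity) e3
    have := Nat.pow_le_pow_right (n := Q) (by omega) (show (j : ℕ) ≤ k + 2 by
      have := j.2; omega)
    omega
  · have e1 := FiniteField.algebraMap_norm_eq_pow_sum K L l
    rw [h2, Nat.card_eq_fintype_card, ← hQ, ← hN, ← hl, pow_orderOf_eq_one,
      map_eq_one_iff _ (algebraMap K L).injective, Algebra.norm_apply,
      LinearMap.det_eq_sign_charpoly_coeff, hA, h2] at e1
    have : (-1 : K) ^ (k + 3) * (-1) ^ (k + 3) = 1 := by rw [← mul_pow]; simp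
    linear_combination (-1) ^ (k + 3) * e1 - (minpoly K l).coeff 0 * this
  · have e1 := linearIndependent_pow (K := K) (ζ • l)
    rw [hdeg ζ hζ] at e1
    obtain ⟨u, θ, h3, h4⟩ := exists_rank_one (T := Algebra.lmul K L (ζ • l)) (u := 1) (d := k + 2)
      (by
        have : ∀ i : ℕ, (Algebra.lmul K L (ζ • l) ^ i) 1 = (ζ • l) ^ i := fun i => by
          rw [← map_pow]; exact mul_one _
        simpa only [this] using e1) hm hd1
    refine ⟨u, θ ∘ₗ Algebra.lmul K L l⁻¹, fun h0 => h3 (LinearMap.ext fun x => ?_),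
      Algebra.lmul K L l, hA, ?_⟩
    · simpa [l0] using LinearMap.congr_fun h0 (l * x)
    · rw [← charpoly_eq_of_irreducible hi hm (hd1.trans h2.symm) one_ne_zero h4]
      congr 1
      ext x
      simp [l0]

end Good

section Comp
variable {K : Type*} [Field K] {V E : Type*} [AddCommGroup V] [Module K V] [AddCommGroup E]
  [Module K E] [FiniteDimensional K V] [FiniteDimensional K E]

omit [FiniteDimensional K V] in
theorem exists_spl (M : End K V) (i : E →ₗ[K] V) (p : V →ₗ[K] E) (hp : ∀ x, p (i x) = x)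
    {M₁ : End K E} (h : ∀ x, p (M (i x)) = M₁ x) (hd : LinearMap.det M₁ ≠ 0) :
    ∃ S : End K (LinearMap.ker p), Spl M M₁ S ∧ ∀ w : LinearMap.ker p, ∃ x, M w - S w = M (i x) := by
  let e := LinearEquiv.ofInjectiveEndo M₁ (injective_of_det hd)
  have he : ∀ x, M₁ x = e x := fun _ => rfl
  have h1 : ∀ x, p (M (i (e.symm.toLinearMap x))) = x := fun x => by simp [h, he]
  refine ⟨bsch M i p e.symm h1, ?_, fun w => ⟨_, by rw [bsch_val, sub_sub_cancel]⟩⟩
  convert spl_bsch M i p e.symm hp h1 fun x => by simp [h, he]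
  ext x; simp [h]

theorem exists_avoid [Fintype K] {ι : Type*} (s : Finset ι) (T : ι → Submodule K V)
    (hs : s.card ≤ Fintype.card K + 1) (hT : ∀ i ∈ s, finrank K (T i) + 2 ≤ finrank K V) :
    s = ∅ ∨ ∃ v, ∀ i ∈ s, v ∉ T i := by
  classical
  rcases s.eq_empty_or_nonempty with h | ⟨j, hj⟩
  · exact Or.inl h
  right
  have : Finite V := Module.finite_of_finite K
  cases nonempty_fintype V
  by_contra h
  push Not at h
  set Q := Fintype.card K with hQ'
  have hQ : 2 ≤ Q := Fintype.one_lt_card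
  obtain ⟨n, hn⟩ : ∃ n, finrank K V = n + 2 := ⟨finrank K V - 2, by have := hT j hj; omega⟩
  have h1 : (Finset.univ : Finset V) ⊆ s.biUnion fun i => Finset.univ.filter (· ∈ T i) :=
    fun v _ => by simpa using h v
  have h2 := (Finset.card_le_card h1).trans (Finset.card_biUnion_le_card_mul _ _ (Q ^ n) fun i hi => by
    rw [← Fintype.card_subtype, Module.card_eq_pow_finrank (K := K) (V := T i)]
    exact Nat.pow_le_pow_right (by omega) (by have := hT i hi; omega))
  rw [Finset.card_univ, Module.card_eq_pow_finrank (K := K), hn, ← hQ'] at h2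
  have h3 : 0 < Q ^ n := by positivity
  have h4 : s.card * Q ^ n ≤ (Q + 1) * Q ^ n := Nat.mul_le_mul_right _ hs
  have h5 : (Q + 1) * Q ^ n < (Q * Q) * Q ^ n := Nat.mul_lt_mul_of_pos_right (by nlinarith) h3
  rw [pow_add, sq, mul_comm (Q ^ n)] at h2
  omega

theorem finrank_comap_le (f : End K V) (S : Submodule K V) :
    finrank K (S.comap f) ≤ finrank K S + finrank K (LinearMap.ker f) := by
  have h1 := LinearMap.finrank_range_add_finrank_ker (f.domRestrict (S.comap f))
  have h2 : finrank K (LinearMap.range (f.domRestrict (S.comap f))) ≤ finrank K S :=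
    Submodule.finrank_mono (by rintro _ ⟨x, rfl⟩; exact x.2)
  have h3 : finrank K (LinearMap.ker (f.domRestrict (S.comap f))) ≤ finrank K (LinearMap.ker f) := by
    rw [← Submodule.finrank_map_subtype_eq]
    exact Submodule.finrank_mono (by rintro _ ⟨x, hx, rfl⟩; exact hx)
  omega

theorem exists_free [Fintype K] (N : End K V) {d : ℕ} (h3 : 3 * d ≤ finrank K V)
    (h : ∀ t : K, finrank K (LinearMap.ker (N - t • 1)) ≤ d) (j : ℕ) (hj : j ≤ d) :
    ∃ U : Submodule K V, finrank K U = j ∧ ∀ x ∈ U, ∀ y ∈ U, x = N y → y = 0 := by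
  classical
  induction j with
  | zero => exact ⟨⊥, by simp, fun _ _ y hy _ => hy⟩
  | succ j ih =>
    obtain ⟨U, h1, h2⟩ := ih (by omega)
    have hS2 : finrank K (U ⊔ U.map N : Submodule K V) ≤ 2 * j := by
      have := Submodule.finrank_add_le_finrank_add_finrank U (U.map N)
      have := Submodule.finrank_map_le N U
      omega
    set S := U ⊔ U.map N with hS
    obtain h0 | ⟨v, hv⟩ := exists_avoid (Finset.univ : Finset (Option K))
      (fun o => o.elim S fun t => S.comap (N - t • 1)) (by simp) (by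
        rintro (_ | t) -
        · change finrank K S + 2 ≤ _; omega
        · have := finrank_comap_le (N - t • 1) S
          have := h t
          have h' : finrank K (S.comap (N - t • 1)) + 2 ≤ finrank K V := by omega
          exact h')
    · exact absurd h0 Finset.univ_nonempty.ne_empty
    have v1 : v ∉ S := hv none (by simp)
    have v2 : ∀ t : K, N v - t • v ∉ S := fun t => hv (some t) (by simp)
    have hU : U ≤ S := le_sup_left
    have hN : ∀ y ∈ U, N y ∈ S := fun y hy => Submodule.mem_sup_right ⟨y, hy, rfl⟩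
    refine ⟨U ⊔ K ∙ v, ?_, fun x hx y hy hxy => ?_⟩
    · rw [Submodule.finrank_sup_span_singleton fun h => v1 (hU h), h1]
    · obtain ⟨a, ha, _, hs, rfl⟩ := Submodule.mem_sup.mp hx
      obtain ⟨b, hb, _, ht, rfl⟩ := Submodule.mem_sup.mp hy
      obtain ⟨s, rfl⟩ := Submodule.mem_span_singleton.mp hs
      obtain ⟨t, rfl⟩ := Submodule.mem_span_singleton.mp ht
      simp only [map_add, map_smul] at hxy
      by_cases ht : t = 0
      · subst ht
        by_cases hs : s = 0
        · subst hs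
          simpa using h2 a ha b hb (by simpa using hxy)
        · refine (v1 ((S.smul_mem_iff hs).mp ?_)).elim
          have : s • v = N b - a := by simp at hxy; rw [← hxy]; abel
          exact this ▸ S.sub_mem (hN b hb) (hU ha)
      · refine (v2 (s / t) ((S.smul_mem_iff ht).mp ?_)).elim
        have : t • (N v - (s / t) • v) = a - N b := by
          rw [smul_sub, smul_smul, mul_div_cancel₀ _ ht, sub_eq_sub_iff_add_eq_add, add_comm, ← hxy]
        exact this ▸ S.sub_mem (hU ha) (hN b hb)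

theorem exists_inj (C : Submodule K V) (h : finrank K E ≤ finrank K C) :
    ∃ g : E →ₗ[K] V, Function.Injective g ∧ ∀ x, g x ∈ C := by
  obtain ⟨g, hg⟩ := finrank_le_iff_exists_linearMap.mp h
  exact ⟨C.subtype ∘ₗ g, C.injective_subtype.comp hg, fun x => (g x).2⟩

theorem compress_near {M : End K V} (hM : LinearMap.det M ≠ 0) (hns : ∀ c : K, M ≠ c • 1) {ζ : K}
    (hζ : finrank K E + 1 ≤ finrank K (LinearMap.ker (M - ζ • 1))) {f : K[X]} (h0 : f.coeff 0 ≠ 0)
    (hf : ∀ ζ : K, ζ ≠ 0 → ∃ (u : E) (θ : E →ₗ[K] K), θ ≠ 0 ∧ FP (ζ • 1 + θ.smulRight u) f f) :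
    ∃ (W : Submodule K V) (M₁ : End K E) (M₂ : End K W), Spl M M₁ M₂ ∧ FP M₁ f f ∧ NS M₂ := by
  set A := LinearMap.ker (M - ζ • 1) with hA
  have mA : ∀ x, x ∈ A ↔ M x = ζ • x := fun x => by simp [hA, sub_eq_zero]
  have hζ0 : ζ ≠ 0 := by
    rintro rfl
    have : A = ⊥ := by simpa [hA] using LinearMap.ker_eq_bot.mpr (injective_of_det hM)
    rw [this, finrank_bot] at hζ
    omega
  obtain ⟨u, θ, h1, h2⟩ := hf ζ hζ0
  obtain ⟨a, ha⟩ : ∃ a, θ a = 1 := LinearMap.surjective h1 1
  obtain ⟨v, v0, hv⟩ := exists_not_eigen hns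
  set y := M v - ζ • v with hy
  have hvy : ∀ s t : K, s • y + t • v = 0 → s = 0 ∧ t = 0 := fun s t h => by
    by_cases hs : s = 0
    · simpa [hs, v0] using h
    · refine (hv (ζ - t / s) (sub_eq_zero.mp ((smul_eq_zero_iff_right hs).mp ?_))).elim
      rw [← h, hy]
      match_scalars <;> field_simp
      ring
  obtain ⟨ψ, hψ⟩ : ∃ ψ : V →ₗ[K] K, ∀ s t : K, s • y + t • v ∈ A → ψ (s • y + t • v) = 0 →
      s = 0 ∧ t = 0 := by
    by_cases h : ∃ t : K, y + t • v ∈ A
    · obtain ⟨t, ht⟩ := h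
      obtain ⟨ψ, k1, k2⟩ := exists_fun₂ (x := v) (y := y + t • v) v0 (fun s hs => by
        have := hvy 1 (t - s) (by rw [one_smul, sub_smul, ← hs]; abel)
        simp at this) (0 : K) 1
      refine ⟨ψ, fun s r hs h => ?_⟩
      simp only [map_add, map_smul, k1, smul_eq_mul, mul_zero, add_zero] at k2 h
      rw [k2, mul_one] at h
      subst h
      refine ⟨rfl, by_contra fun hr => hv ζ ((mA v).mp ?_)⟩
      simpa [A.smul_mem_iff hr] using hs
    · refine ⟨0, fun s r hs _ => ?_⟩
      have h1 : s = 0 := by_contra fun h1 => h ⟨r / s, (A.smul_mem_iff h1).mp (by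
        rwa [smul_add, smul_smul, mul_div_cancel₀ _ h1])⟩
      subst h1
      refine ⟨rfl, by_contra fun hr => hv ζ ((mA v).mp ?_)⟩
      simpa [A.smul_mem_iff hr] using hs
  obtain ⟨g, g1, g2⟩ := exists_inj (E := E) (A ⊓ LinearMap.ker ψ) (by
    have e1 := Submodule.finrank_sup_add_finrank_inf_eq A (LinearMap.ker ψ)
    have e2 := Submodule.finrank_le (A ⊔ LinearMap.ker ψ)
    have e3 := ψ.finrank_range_add_finrank_ker
    have e4 := Submodule.finrank_le (LinearMap.range ψ)
    rw [finrank_self] at e4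
    omega)
  have hg : ∀ x (s t : K), g x = s • y + t • v → x = 0 ∧ s = 0 ∧ t = 0 := fun x s t h => by
    obtain ⟨rfl, rfl⟩ := hψ s t (h ▸ (g2 x).1) (h ▸ (g2 x).2)
    exact ⟨g1 (by simpa using h), rfl, rfl⟩
  let i : E →ₗ[K] V := g + θ.smulRight (v - g a)
  have hi : ∀ x, i x = g x + θ x • (v - g a) := fun _ => rfl
  have hMi : ∀ x, M (i x) = ζ • i x + θ x • y := fun x => by
    rw [hi, map_add, map_smul, map_sub, (mA _).mp (g2 x).1, (mA _).mp (g2 a).1, hy]
    module
  obtain ⟨p, p1, p2⟩ := exists_proj (i := i) (Submodule.span K {y - i u, v + g a}) fun x hx => by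
    obtain ⟨s, t, h⟩ := Submodule.mem_span_pair.mp hx
    obtain ⟨k1, k2, k3⟩ := hg (x - θ x • a + s • (u - θ u • a) - t • a) s (t - θ x - s * θ u) (by
      rw [hi, hi] at h
      simp only [map_sub, map_add, map_smul]
      linear_combination (norm := module) -h)
    subst k2
    have := congrArg θ k1
    simp only [map_sub, map_add, map_smul, ha, smul_eq_mul, map_zero] at this
    obtain rfl : t = 0 := by linear_combination -this
    have : θ x = 0 := by linear_combination -k3
    simpa [this] using k1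
  have py : p y = u := by
    have := p2 _ (Submodule.subset_span (Set.mem_insert _ _))
    rwa [map_sub, p1, sub_eq_zero] at this
  obtain ⟨S, s1, s2⟩ := exists_spl M i p p1 (M₁ := ζ • 1 + θ.smulRight u)
    (fun x => by simp [hMi, p1, py]) (by simp [h2.det_one h0])
  refine ⟨_, _, S, s1, h2, fun c hc => ?_⟩
  obtain ⟨x, hx⟩ := s2 ⟨v + g a, p2 _ (Submodule.subset_span (by simp))⟩
  rw [hc, hMi, hi x] at hx
  simp only [map_add, (mA _).mp (g2 a).1, LinearMap.smul_apply, Module.End.one_apply,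
    Submodule.coe_smul] at hx
  obtain ⟨k1, k2, k3⟩ := hg (ζ • (x - θ x • a) - (ζ - c) • a) (1 - θ x) (ζ - c - ζ * θ x) (by
    simp only [map_sub, map_smul, hy] at hx ⊢
    linear_combination (norm := module) -hx)
  have := congrArg θ k1
  simp only [map_sub, map_smul, ha, smul_eq_mul, map_zero] at this
  exact (hζ0 (by linear_combination -k3 + ζ * k2 - this)).elim

theorem compress [Fintype K] {M : End K V} (hM : LinearMap.det M ≠ 0) (hns : ∀ c : K, M ≠ c • 1)
    (h3 : 3 * finrank K E + 1 ≤ finrank K V) {f : K[X]} (h0 : f.coeff 0 ≠ 0) (hm : f.Monic)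
    (hd : f.natDegree = finrank K E)
    (hf : ∀ ζ : K, ζ ≠ 0 → ∃ (u : E) (θ : E →ₗ[K] K), θ ≠ 0 ∧ FP (ζ • 1 + θ.smulRight u) f f) :
    ∃ (W : Submodule K V) (M₁ : End K E) (M₂ : End K W), Spl M M₁ M₂ ∧ FP M₁ f f ∧ NS M₂ := by
  by_cases h : ∃ ζ : K, finrank K E + 1 ≤ finrank K (LinearMap.ker (M - ζ • 1))
  · obtain ⟨ζ, hζ⟩ := h
    exact compress_near hM hns hζ h0 hf
  push Not at h
  obtain ⟨U, u1, u2⟩ := exists_free (M - 1) (d := finrank K E) (by omega) (fun t => by
    have := h (1 + t)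
    rw [add_smul, one_smul, ← sub_sub] at this
    omega) _ le_rfl
  obtain ⟨i, i1, i2⟩ := exists_inj (E := E) U u1.ge
  obtain ⟨p, p1, p2⟩ := exists_proj (i := i) (U.map (M - 1)) fun x ⟨y, hy, h⟩ => i1 (by
    rw [← h, u2 _ (i2 x) y hy h.symm]; simp)
  obtain ⟨S, s1, s2⟩ := exists_spl M i p p1 (M₁ := 1) (fun x => by
    have := p2 _ ⟨i x, i2 x, rfl⟩
    simpa [p1, sub_eq_zero] using this) (by simp)
  obtain ⟨B, hB⟩ := exists_charpoly hm hd
  refine ⟨_, _, S, s1, ⟨B, hB, by rw [one_mul, hB]⟩, fun c hc => ?_⟩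
  have e1 : LinearMap.range (M - c • 1) ≤ U ⊔ U.map M := by
    rintro _ ⟨x, rfl⟩
    obtain ⟨z, hz⟩ := s2 ⟨x - i (p x), by simp [p1]⟩
    have : (M - c • 1) x = -(c • i (p x)) + M (i z + i (p x)) := by
      rw [map_add, ← hz, hc]; simp [smul_sub]; abel
    rw [this]
    exact Submodule.add_mem_sup (U.neg_mem (U.smul_mem _ (i2 _)))
      ⟨_, U.add_mem (i2 _) (i2 _), rfl⟩
  have e2 := Submodule.finrank_mono e1
  have e3 := Submodule.finrank_add_le_finrank_add_finrank U (U.map M)
  have e4 := Submodule.finrank_map_le M U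
  have e5 := (M - c • 1).finrank_range_add_finrank_ker
  have := h c
  omega

end Comp

end Cfsg.Agent.Ore
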