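import Cfsg.Agent.Ore.Mix

/-!
Computations over small fields: coded vectors, polynomials and block companion matrices.
-/

set_option autoImplicit false

open Polynomial Module

namespace Cfsg.Agent.Ore

open Cfsg.Agent.GLn Cfsg.Agent.Fac Cfsg.Agent.Forms

universe u

/-- Coded arithmetic of a small field. -/
structure Ops where
  q : ℕ
  ad : ℕ → ℕ → ℕ
  mu : ℕ → ℕ → ℕ
  m1 : ℕ
  ta : ℕ → ℕ
  iv : ℕ → ℕ

namespace Ops
variable (o : Ops)

def vadd : List ℕ → List ℕ → List ℕ
  | [], y => y
  | a :: x, [] => a :: x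
  | a :: x, b :: y => o.ad a b :: vadd x y

def vsm (a : ℕ) (x : List ℕ) : List ℕ := x.map (o.mu a)

def mv : List (List ℕ) → List ℕ → List ℕ
  | c :: cs, a :: x => o.vadd (o.vsm a c) (mv cs x)
  | _, _ => []

def pev (app : List ℕ → List ℕ) : List ℕ → List ℕ → List ℕ
  | [], _ => []
  | a :: f, v => o.vadd (o.vsm a v) (pev app f (app v))

def isZ (l : List ℕ) : Bool := l.all fun a => o.mu 1 a == 0

def eqC (x y : List ℕ) : Bool := o.isZ (o.vadd x (o.vsm o.m1 y))

def pmul : List ℕ → List ℕ → List ℕ
  | [], _ => []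
  | a :: x, y => o.vadd (o.vsm a y) (0 :: pmul x y)

def allL : ℕ → List (List ℕ)
  | 0 => [[]]
  | s + 1 => (List.range o.q).flatMap fun a => (allL s).map (a :: ·)

def allB : ℕ → ℕ → List (List (List ℕ))
  | 0, _ => [[]]
  | _ + 1, 0 => [[]]
  | k + 1, d + 1 => (List.range (d + 1)).flatMap fun s => (o.allL (s + 1)).flatMap fun c =>
      (allB k (d - s)).map (c :: ·)

def dig : ℕ → ℕ → List ℕ
  | 0, _ => []
  | k + 1, n => n % o.q :: dig k (n / o.q)

def dec (d : ℕ) : ℕ → ℕ → List (List ℕ)
  | 0, _ => []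
  | k + 1, n => o.dig d n :: dec d k (n / o.q ^ d)

def dualC (f : List ℕ) : List ℕ := f.reverse.map fun c => o.mu (o.iv (o.ta (f.getD 0 0))) (o.ta c)

def irrC (l : List ℕ) : Bool := (List.range (l.length / 2)).all fun k =>
  (o.allL (k + 1)).all fun a => (o.allL (l.length - (k + 1))).all fun b =>
    !o.eqC (o.pmul (a ++ [1]) (b ++ [1])) (l ++ [1])

def sgn : ℕ → ℕ
  | 0 => 1
  | k + 1 => o.mu o.m1 (sgn k)

def detC : List (List ℕ) → ℕ
  | [] => 1
  | c :: L => o.mu (o.mu (o.sgn (c.length + 1)) (c.getD 0 0)) (detC L)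

end Ops

def unitC (j a : ℕ) : List ℕ := List.replicate j 0 ++ [a]

def compC (c : List ℕ) : List (List ℕ) :=
  (List.range (c.length - 1)).map (fun j => unitC (j + 1) 1) ++ [c]

def colsC : List (List ℕ) → List (List ℕ)
  | [] => []
  | c :: L => compC c ++ (colsC L).map (List.replicate c.length 0 ++ ·)

namespace Ops
variable (o : Ops)

def skip (d : ℕ) (L : List (List ℕ)) : Bool :=
  !(o.mu 1 (o.detC L) == 1) || (List.range o.q).any fun a =>
    a != 1 && colsC L == (List.range d).map fun j => unitC j a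

def ok (f g : List ℕ) (d : ℕ) (L : List (List ℕ)) (n : ℕ) : Bool :=
  o.isZ (o.pev (fun x => o.mv (colsC L) (o.mv (o.dec d d n) x)) f [1]) &&
    (o.isZ (o.pev (o.mv (o.dec d d n)) f [1]) || o.isZ (o.pev (o.mv (o.dec d d n)) g [1]))

def chk (f g : List ℕ) (d : ℕ) : List (List (List ℕ)) → List ℕ → Bool
  | [], _ => true
  | L :: Ls, cs => if o.skip d L then chk f g d Ls cs else
      match cs with
      | [] => false
      | n :: cs => o.ok f g d L n && chk f g d Ls cs

def base (l cs : List ℕ) : Bool :=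
  o.irrC l && o.chk (l ++ [1]) (o.dualC (l ++ [1])) l.length (o.allB l.length l.length) cs

theorem chk_spec {f g : List ℕ} {d : ℕ} {Ls : List (List (List ℕ))} {cs : List ℕ}
    (h : o.chk f g d Ls cs = true) : ∀ L ∈ Ls, o.skip d L = true ∨ ∃ n, o.ok f g d L n = true := by
  induction Ls generalizing cs with
  | nil => simp
  | cons L Ls ih =>
    unfold chk at h
    intro L' hL'
    split_ifs at h with h1
    · rcases List.mem_cons.mp hL' with rfl | h2
      · exact Or.inl h1
      · exact ih h L' h2
    · rcases cs with _ | ⟨n, cs⟩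
      · simp at h
      · simp only [Bool.and_eq_true] at h
        rcases List.mem_cons.mp hL' with rfl | h2
        · exact Or.inr ⟨n, h.1⟩
        · exact ih h.2 L' h2

theorem mem_allL {l : List ℕ} (h : ∀ a ∈ l, a < o.q) : l ∈ o.allL l.length := by
  induction l with
  | nil => simp [allL]
  | cons a l ih =>
    simp only [List.length_cons, allL, List.mem_flatMap, List.mem_range, List.mem_map]
    exact ⟨a, h a (by simp), l, ih fun b hb => h b (by simp [hb]), rfl⟩

theorem mem_allB {L : List (List ℕ)} (h : ∀ c ∈ L, c ≠ [] ∧ ∀ a ∈ c, a < o.q) (k : ℕ)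
    (hk : (L.map List.length).sum ≤ k) : L ∈ o.allB k (L.map List.length).sum := by
  induction L generalizing k with
  | nil => cases k <;> simp [allB]
  | cons c L ih =>
    obtain ⟨h1, h2⟩ := h c (by simp)
    obtain ⟨s, hs⟩ : ∃ s, c.length = s + 1 := ⟨c.length - 1, by
      have := List.length_pos_iff.mpr h1; omega⟩
    simp only [List.map_cons, List.sum_cons, hs] at hk ⊢
    obtain ⟨k, rfl⟩ : ∃ k', k = k' + 1 := ⟨k - 1, by omega⟩
    rw [show s + 1 + (L.map List.length).sum = (s + (L.map List.length).sum) + 1 by omega, allB]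
    simp only [List.mem_flatMap, List.mem_range, List.mem_map]
    refine ⟨s, by omega, c, hs ▸ o.mem_allL h2, L, ?_, rfl⟩
    rw [Nat.add_sub_cancel_left]
    exact ih (fun c hc => h c (by simp [hc])) k (by omega)

theorem length_dec (d k n : ℕ) : (o.dec d k n).length = k := by
  induction k generalizing n <;> simp [dec, *]

end Ops

/-- An interpretation of the codes in a field. -/
structure Enc (o : Ops) {K : Type*} [Field K] (τ : K →+* K) where
  ev : ℕ → K
  ev_zero : ev 0 = 0
  ev_one : ev 1 = 1
  ev_ad : ∀ a b, ev (o.ad a b) = ev a + ev b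
  ev_mu : ∀ a b, ev (o.mu a b) = ev a * ev b
  ev_m1 : ev o.m1 = -1
  ev_ta : ∀ a, ev (o.ta a) = τ (ev a)
  ev_iv : ∀ a, ev (o.iv a) = (ev a)⁻¹
  mu_lt : ∀ a b, o.mu a b < o.q
  one_lt : 1 < o.q
  surj : ∀ x, ∃ a < o.q, ev a = x
  inj : ∀ a < o.q, ∀ b < o.q, ev a = ev b → a = b

namespace Enc
variable {o : Ops} {K : Type u} [Field K] {τ : K →+* K} (c : Enc o τ)
variable {V W : Type*} [AddCommGroup V] [Module K V] [AddCommGroup W] [Module K W]

theorem norm_eq {a b : ℕ} (hb : b < o.q) : o.mu 1 a = b ↔ c.ev a = c.ev b := by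
  refine ⟨fun h => by rw [← h, c.ev_mu, c.ev_one, one_mul], fun h => c.inj _ (c.mu_lt _ _) _ hb ?_⟩
  rw [c.ev_mu, c.ev_one, one_mul, h]

theorem isZ_iff {l : List ℕ} : o.isZ l = true ↔ ∀ a ∈ l, c.ev a = 0 := by
  have := c.one_lt
  simp [Ops.isZ, c.norm_eq (show 0 < o.q by omega), c.ev_zero]

theorem ev_sgn (k : ℕ) : c.ev (o.sgn k) = (-1) ^ k := by
  induction k with
  | zero => simp [Ops.sgn, c.ev_one]
  | succ k ih => simp [Ops.sgn, c.ev_mu, c.ev_m1, ih, pow_succ]

/-- Linear combinations with coded coefficients. -/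
def comb : List V → List ℕ → V
  | v :: bs, a :: l => c.ev a • v + comb bs l
  | _, _ => 0

@[simp] theorem comb_nil (bs : List V) : c.comb bs [] = 0 := by cases bs <;> rfl
@[simp] theorem nil_comb (l : List ℕ) : c.comb ([] : List V) l = 0 := rfl
@[simp] theorem comb_cons (v : V) (bs : List V) (a : ℕ) (l : List ℕ) :
    c.comb (v :: bs) (a :: l) = c.ev a • v + c.comb bs l := rfl

theorem comb_vadd (bs : List V) (x y : List ℕ) :
    c.comb bs (o.vadd x y) = c.comb bs x + c.comb bs y := by
  induction bs generalizing x y with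
  | nil => simp
  | cons v bs ih =>
    rcases x with _ | ⟨a, x⟩ <;> rcases y with _ | ⟨b, y⟩ <;> simp [Ops.vadd, ih, c.ev_ad, add_smul]
    abel

theorem comb_vsm (bs : List V) (a : ℕ) (x : List ℕ) :
    c.comb bs (o.vsm a x) = c.ev a • c.comb bs x := by
  induction bs generalizing x with
  | nil => simp
  | cons v bs ih =>
    rcases x with _ | ⟨b, x⟩
    · simp [Ops.vsm]
    · have := ih x
      simp only [Ops.vsm] at this
      simp [Ops.vsm, this, c.ev_mu, mul_smul]

theorem comb_map (T : V →ₗ[K] W) (bs : List V) (x : List ℕ) :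
    c.comb (bs.map T) x = T (c.comb bs x) := by
  induction bs generalizing x with
  | nil => simp
  | cons v bs ih => rcases x with _ | ⟨b, x⟩ <;> simp [ih]

theorem comb_mv (bs : List V) (cs : List (List ℕ)) (x : List ℕ) :
    c.comb bs (o.mv cs x) = c.comb (cs.map (c.comb bs)) x := by
  induction cs generalizing x with
  | nil => simp [Ops.mv]
  | cons v cs ih => rcases x with _ | ⟨b, x⟩ <;> simp [Ops.mv, comb_vadd, comb_vsm, ih]

theorem comb_of_isZ (bs : List V) {x : List ℕ} (h : o.isZ x = true) : c.comb bs x = 0 := by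
  rw [c.isZ_iff] at h
  induction bs generalizing x with
  | nil => simp
  | cons v bs ih =>
    rcases x with _ | ⟨b, x⟩
    · simp
    · simp [h b (by simp), ih (x := x) fun a ha => h a (List.mem_cons_of_mem _ ha)]

theorem comb_append (as bs : List V) (x y : List ℕ) (h : x.length = as.length) :
    c.comb (as ++ bs) (x ++ y) = c.comb as x + c.comb bs y := by
  induction as generalizing x with
  | nil => simp_all
  | cons v as ih =>
    rcases x with _ | ⟨b, x⟩
    · simp at h
    · simp [ih x (by simpa using h), add_assoc]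

theorem comb_append_left (as bs : List V) (x : List ℕ) (h : x.length ≤ as.length) :
    c.comb (as ++ bs) x = c.comb as x := by
  induction as generalizing x with
  | nil => simp_all
  | cons v as ih =>
    rcases x with _ | ⟨b, x⟩
    · simp
    · simp [ih x (by simpa using h)]

theorem comb_replicate (as : List V) (k : ℕ) : c.comb as (List.replicate k 0) = 0 :=
  c.comb_of_isZ _ (c.isZ_iff.mpr fun a ha => by rw [List.eq_of_mem_replicate ha, c.ev_zero])

theorem comb_unitC (bs : List V) (j a : ℕ) (h : j < bs.length) :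
    c.comb bs (unitC j a) = c.ev a • bs[j] := by
  induction bs generalizing j with
  | nil => simp at h
  | cons v bs ih =>
    rcases j with _ | j
    · simp [unitC]
    · have := ih j (by simpa using h)
      simp only [unitC] at this
      simp [unitC, List.replicate_succ, c.ev_zero, this]

theorem comb_mem (S : Submodule K V) (bs : List V) (h : ∀ v ∈ bs, v ∈ S) (x : List ℕ) :
    c.comb bs x ∈ S := by
  induction bs generalizing x with
  | nil => simp
  | cons v bs ih =>
    rcases x with _ | ⟨b, x⟩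
    · simp
    · exact S.add_mem (S.smul_mem _ (h v (by simp))) (ih (fun w hw => h w (by simp [hw])) x)

/-- The polynomial with the given coded coefficients. -/
noncomputable def poly : List ℕ → K[X]
  | [] => 0
  | a :: l => C (c.ev a) + X * poly l

theorem coeff_poly (l : List ℕ) (i : ℕ) : (c.poly l).coeff i = c.ev (l.getD i 0) := by
  induction l generalizing i with
  | nil => simp [poly, c.ev_zero]
  | cons a l ih => rcases i with _ | i <;> simp [poly, ih, coeff_C]

theorem monic_poly (l : List ℕ) :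
    (c.poly (l ++ [1])).Monic ∧ (c.poly (l ++ [1])).natDegree = l.length := by
  refine monic_of_coeff (by simp [coeff_poly, c.ev_one]) fun i hi => ?_
  rw [coeff_poly, List.getD_eq_default _ _ (by simpa using hi), c.ev_zero]

theorem exists_poly (k : ℕ) {p : K[X]} (hp : p.Monic) (hk : p.natDegree = k) :
    ∃ l : List ℕ, l.length = k ∧ (∀ a ∈ l, a < o.q) ∧ p = c.poly (l ++ [1]) := by
  induction k generalizing p with
  | zero => exact ⟨[], rfl, by simp, by simp [poly, c.ev_one, hp.natDegree_eq_zero.mp hk]⟩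
  | succ k ih =>
    have hd : p.divX.natDegree = k := by rw [natDegree_divX_eq_natDegree_tsub_one, hk]; rfl
    obtain ⟨l, h1, h2, h3⟩ := ih (p := p.divX) (by
      rw [Monic, leadingCoeff, hd, coeff_divX, ← hk]; exact hp) hd
    obtain ⟨a, ha, ha'⟩ := c.surj (p.coeff 0)
    refine ⟨a :: l, by simp [h1], by simpa [ha] using h2, ?_⟩
    rw [List.cons_append, poly, ← h3, ha', add_comm, X_mul_divX_add]

theorem aeval_pev (bs : List V) (T : End K V) {app : List ℕ → List ℕ}
    (h : ∀ x, c.comb bs (app x) = T (c.comb bs x)) (f v : List ℕ) :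
    c.comb bs (o.pev app f v) = aeval T (c.poly f) (c.comb bs v) := by
  induction f generalizing v with
  | nil => simp [Ops.pev, poly]
  | cons a f ih =>
    rw [Ops.pev, comb_vadd, comb_vsm, ih, h, poly, mul_comm X]
    simp [Module.algebraMap_end_apply]

theorem poly_vadd (x y : List ℕ) : c.poly (o.vadd x y) = c.poly x + c.poly y := by
  induction x generalizing y with
  | nil => simp [Ops.vadd, poly]
  | cons a x ih => rcases y with _ | ⟨b, y⟩ <;> simp [Ops.vadd, poly, ih, c.ev_ad]; ring

theorem poly_vsm (a : ℕ) (x : List ℕ) : c.poly (o.vsm a x) = C (c.ev a) * c.poly x := by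
  induction x with
  | nil => simp [Ops.vsm, poly]
  | cons b x ih =>
    simp only [Ops.vsm] at ih
    simp [Ops.vsm, poly, ih, c.ev_mu]; ring

theorem poly_pmul (x y : List ℕ) : c.poly (o.pmul x y) = c.poly x * c.poly y := by
  induction x with
  | nil => simp [Ops.pmul, poly]
  | cons b x ih => simp [Ops.pmul, poly, ih, poly_vadd, poly_vsm, c.ev_zero]; ring

theorem eqC_of_eq {x y : List ℕ} (h : c.poly x = c.poly y) : o.eqC x y = true := by
  rw [Ops.eqC, c.isZ_iff]
  intro a ha
  obtain ⟨i, hi, rfl⟩ := List.getElem_of_mem ha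
  rw [← List.getD_eq_getElem _ 0, ← coeff_poly, poly_vadd, poly_vsm, h, c.ev_m1]
  simp

theorem irreducible_poly {l : List ℕ} (h : o.irrC l = true) (hl : l ≠ []) :
    Irreducible (c.poly (l ++ [1])) := by
  obtain ⟨h1, h2⟩ := c.monic_poly l
  refine h1.irreducible_iff_natDegree'.mpr ⟨fun h3 => hl ?_, fun f g hf hg hfg hd => ?_⟩
  · rw [h3] at h2; simpa using h2.symm
  · rw [h2, Finset.mem_Ioc] at hd
    have h4 := hf.natDegree_mul hg
    rw [hfg, h2] at h4
    obtain ⟨a, a1, a2, rfl⟩ := c.exists_poly _ hg rfl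
    obtain ⟨b, b1, b2, rfl⟩ := c.exists_poly _ hf rfl
    simp only [Ops.irrC, List.all_eq_true, List.mem_range] at h
    have := h (a.length - 1) (by omega) a (by
      rw [show a.length - 1 + 1 = a.length by omega]; exact o.mem_allL a2) b (by
      rw [show l.length - (a.length - 1 + 1) = b.length by omega]; exact o.mem_allL b2)
    rw [c.eqC_of_eq (by rw [poly_pmul, mul_comm, hfg])] at this
    simp at this

theorem poly_dualC (l : List ℕ) : c.poly (o.dualC (l ++ [1])) = dualP τ (c.poly (l ++ [1])) := by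
  ext i
  rw [coeff_dualP, (c.monic_poly l).2, coeff_poly, coeff_poly, coeff_poly, Ops.dualC]
  by_cases hi : i ≤ l.length
  · rw [revAt_le hi, List.getD_eq_getElem _ _ (by simp; omega), List.getElem_map,
      List.getElem_reverse, c.ev_mu, c.ev_iv, c.ev_ta, c.ev_ta,
      List.getD_eq_getElem _ _ (n := l.length - i) (by simp)]
    simp
  · rw [revAt_eq_self_of_lt (by omega), List.getD_eq_default _ _ (by simp; omega),
      List.getD_eq_default _ _ (n := i) (by simp; omega), c.ev_zero]
    simp

end Enc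

end Cfsg.Agent.Ore
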