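import Cfsg.Agent.Ore.Levi
import Cfsg.Agent.Polar.Pts

/-!
Gauss decomposition with trivial torus part.
-/

set_option autoImplicit false

open Module

namespace Cfsg.Agent.Ore

open Cfsg.Agent.Forms Cfsg.Agent.Polar Cfsg.Agent.Polar.PQ

universe u

section
variable {F : Type*} [Field F] {τ : F →+* F}
variable {π : Polar.FP F τ} {V : Type*} [AddCommGroup V] [Module F V] {P : PQ π V}

variable (P) in
/-- Gauss decomposition along a hyperbolic family of size `m`. -/
def GD (g : P.Iso) (m : ℕ) : Prop :=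
  ∃ e f : Fin m → V, HF P e f ∧ (∃ a ∈ ⨆ i, P.U (f i), ∃ b ∈ ⨆ i, P.U (e i), g = a * b) ∧
    ∀ h : 0 < m, P.B (g • e ⟨0, h⟩) (f ⟨0, h⟩) = 1

variable (P) in
/-- Trivial or not scalar. -/
def NSi (g : P.Iso) : Prop := g = 1 ∨ ∀ ζ : F, ¬ ∀ x : V, g • x = ζ • x

theorem gd_zero : GD P 1 0 :=
  ⟨Fin.elim0, Fin.elim0, ⟨fun i => i.elim0, fun i => i.elim0, fun i => i.elim0, fun i => i.elim0,
    fun i => i.elim0⟩, ⟨1, one_mem _, 1, one_mem _, by simp⟩, fun h => absurd h (by simp)⟩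

theorem ext_mem_U {V' : Type*} [AddCommGroup V'] [Module F V'] {P' : PQ π V'} (E : Emb P' P)
    {e : V'} {u : P'.Iso} (hu : u ∈ P'.U e) : E.ext u ∈ P.U (E.i e) :=
  ⟨by rw [E.ext_smul_i, hu.1], fun x hx => by
    obtain ⟨a, ha⟩ := hu.2 (E.r x) (by rwa [← E.B_i])
    exact ⟨a, by rw [E.ext_smul, ha]; simp; abel⟩⟩

theorem dec_smul {e f : V} (h : P.Hyp e f) {u v : P.Iso} (hv : v ∈ P.U e)
    (g' : (P.res (P.perp {e, f})).Iso) : (u * h.emb.ext g' * v) • e = u • e := by
  rw [mul_smul, mul_smul, hv.1, h.emb.ext_smul_ker _ h.emb_r_left]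

theorem GD.cons {e f : V} (h : P.Hyp e f) {u v : P.Iso} (hu : u ∈ P.U f) (hv : v ∈ P.U e)
    {g' : (P.res (P.perp {e, f})).Iso} {m : ℕ} (hg : GD _ g' m) :
    GD P (u * h.emb.ext g' * v) (m + 1) := by
  obtain ⟨e', f', h', ⟨a, ha, b, hb, rfl⟩, -⟩ := hg
  have k1 := fun i => mem_perp_pair.mp (e' i).2
  have k2 := fun i => mem_perp_pair.mp (f' i).2
  have key : ∀ (x : V) (e' : Fin m → P.perp {e, f}) {a}, a ∈ ⨆ i, (P.res _).U (e' i) →
      h.emb.ext a ∈ ⨆ i, P.U ((Fin.cons x fun i => (e' i : V) : Fin (m + 1) → V) i) := by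
    intro x e' a ha
    induction ha using Subgroup.iSup_induction' with
    | hp i u hu => exact Subgroup.mem_iSup_of_mem i.succ (ext_mem_U h.emb hu)
    | h1 => simp
    | hmul a b _ _ ha hb => rw [map_mul]; exact mul_mem ha hb
  refine ⟨Fin.cons e fun i => e' i, Fin.cons f fun i => f' i, ⟨?_, ?_, ?_, ?_, ?_⟩,
    ⟨u * h.emb.ext a, mul_mem (Subgroup.mem_iSup_of_mem 0 hu) (key _ _ ha), h.emb.ext b * v,
      mul_mem (key _ _ hb) (Subgroup.mem_iSup_of_mem 0 hv), by simp [mul_assoc]⟩, fun _ => ?_⟩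
  · exact Fin.forall_fin_succ.mpr ⟨h.left, h'.se⟩
  · exact Fin.forall_fin_succ.mpr ⟨h.right, h'.sf⟩
  · simp only [Fin.forall_fin_succ, Fin.cons_zero, Fin.cons_succ]
    exact ⟨⟨h.left.B_self, fun i => B_swap_zero (k1 i).1⟩, fun i => ⟨(k1 i).1, h'.ee i⟩⟩
  · simp only [Fin.forall_fin_succ, Fin.cons_zero, Fin.cons_succ]
    exact ⟨⟨h.right.B_self, fun i => B_swap_zero (k2 i).2⟩, fun i => ⟨(k2 i).2, h'.ff i⟩⟩
  · simp only [Fin.forall_fin_succ, Fin.cons_zero, Fin.cons_succ, Fin.succ_inj]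
    exact ⟨⟨h.pair, fun i => by simpa [(Fin.succ_ne_zero i).symm] using B_swap_zero (k2 i).1⟩,
      fun i => ⟨by simpa using (k1 i).2, h'.ef i⟩⟩
  · change P.B (_ • e) f = 1
    rw [dec_smul h hv, B_act_left, (inv_mem hu).1, h.pair]

theorem exists_dec_fix {e f : V} (h : P.Hyp e f) (hP : P.ND) {k : P.Iso} (hk : k • e = e) :
    ∃ v ∈ P.U e, ∃ g', k = h.emb.ext g' * v := by
  obtain ⟨v, hv, h1⟩ := exists_U_smul (y := k⁻¹ • f) (y' := f) h.left
    (by rw [B_act_left, inv_inv, hk, h.pair']; exact π.eps_ne_zero)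
    (by rw [B_act_left, inv_inv, hk]) (h.right.act _) h.right
  obtain ⟨g', hg'⟩ := h.mem_range_ext hP (g := k * v⁻¹) (by rw [mul_smul, (inv_mem hv).1, hk])
    (by rw [mul_smul, inv_smul_eq_iff.mpr h1.symm, smul_inv_smul])
  exact ⟨v, hv, g', by rw [hg']; group⟩

theorem exists_dec {e f : V} (h : P.Hyp e f) (hP : P.ND) {g : P.Iso} (hg : P.B (g • e) f = 1) :
    ∃ u ∈ P.U f, ∃ v ∈ P.U e, ∃ g', g = u * h.emb.ext g' * v := by
  obtain ⟨u, hu, h1⟩ := exists_U_smul (y := e) (y' := g • e) h.right (by simp [h.pair])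
    (by rw [hg, h.pair]) h.left (h.left.act g)
  obtain ⟨v, hv, g', h2⟩ := exists_dec_fix h hP (k := u⁻¹ * g)
    (by rw [mul_smul, ← h1, inv_smul_smul])
  exact ⟨u, hu, v, hv, g', by rw [mul_assoc, ← h2]; group⟩

theorem exists_not_fix (hr : P.Rich) {e f : V} (h : P.Hyp e f) {z : P.Iso}
    (hz : ∀ ζ : F, ¬ ∀ x : V, z • x = ζ • x) : ∃ x, P.Sing x ∧ ∀ t : F, z • x ≠ t • x := by
  by_contra key
  push Not at key
  obtain ⟨s, hs⟩ := key e h.left
  obtain ⟨t, ht⟩ := key f h.right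
  have hs0 : s ≠ 0 := fun h0 => act_ne_zero z h.left_ne_zero (by rw [hs, h0, zero_smul])
  have ht0 : t ≠ 0 := fun h0 => act_ne_zero z h.right_ne_zero (by rw [ht, h0, zero_smul])
  have key2 : ∀ w ∈ P.perp {e, f}, ∀ c, P.QEq w c → z • w = t • w ∧ c * s = c * t := by
    intro w hw c hc
    obtain ⟨r, hr⟩ := key _ ((h.QEq_combo hw hc (-c) 1).congr (by simp))
    have hw' := mem_perp_pair.1 hw
    have hz' := mem_perp_pair.1 (Hyp.smul_mem_perp hs0 ht0 hs ht hw)
    rw [smul_add, smul_add, act_smul, act_smul, hs, ht] at hr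
    have h1 := congrArg (P.B · e) hr
    have h2 := congrArg (P.B · f) hr
    simp only [map_add, LinearMap.add_apply, B_smul_left, smul_add, hw'.1, hw'.2, hz'.1, hz'.2,
      h.left.B_self, h.right.B_self, h.pair, h.pair'] at h1 h2
    have h3 : r = t := mul_right_cancel₀ π.eps_ne_zero (by linear_combination -h1)
    subst h3
    have h4 : c * s = c * r := by linear_combination -h2
    refine ⟨?_, h4⟩
    rw [smul_smul, neg_mul, h4] at hr
    generalize z • w = y at hr ⊢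
    linear_combination (norm := module) hr
  obtain ⟨w, hw, c, hc0, hc⟩ := hr e f h
  have hst : s = t := mul_left_cancel₀ hc0 (key2 w hw c hc).2
  refine hz t fun x => ?_
  conv_lhs => rw [hyp_decomp (P := P) e f x]
  conv_rhs => rw [hyp_decomp (P := P) e f x]
  rw [smul_add, smul_add, act_smul, act_smul, hs, ht, (key2 _ (h.hproj_mem x) _ (QEq.self _)).1,
    hst]
  module

theorem sc_of_dec {e f : V} (h : P.Hyp e f) {u v : P.Iso} (hu : u ∈ P.U f) (hv : v ∈ P.U e)
    {g' : (P.res (P.perp {e, f})).Iso} {ζ : F} (hζ : ∀ x : P.perp {e, f}, g' • x = ζ • x)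
    {g : P.Iso} (hg : g = u * h.emb.ext g' * v) (x : V) (hx : x ∈ P.perp {e, f}) :
    ∃ a b : F, g • x = ζ • x + a • f + b • g • e := by
  obtain ⟨a, ha⟩ := hv.2 x (mem_perp_pair.mp hx).1
  obtain ⟨b, hb⟩ := hu.2 x (mem_perp_pair.mp hx).2
  have h1 : h.emb.ext g' • x = ζ • x := by
    have := h.emb.ext_smul_i g' ⟨x, hx⟩
    rwa [hζ] at this
  refine ⟨ζ * b, a, ?_⟩
  rw [hg, dec_smul h hv, mul_smul, mul_smul, ha, smul_add, act_smul, h1,
    h.emb.ext_smul_ker _ h.emb_r_left, smul_add, act_smul, act_smul, hb]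
  generalize u • e = y
  module

theorem ne_comb {e : V} {g : P.Iso} (he : ∀ t : F, g • e ≠ t • e) (c : F) : e ≠ c • g • e :=
  fun h => by
    by_cases h0 : c = 0
    · rw [h0, zero_smul] at h; exact he 0 (by simp [h])
    · exact he c⁻¹ ((eq_inv_smul_iff₀ h0).mpr h.symm)

theorem li_of_ne {e : V} {g : P.Iso} (he : ∀ t : F, g • e ≠ t • e) :
    LinearIndependent F ![e, g • e] :=
  linearIndependent_pair_of_ne (by rintro rfl; exact he 0 (by simp)) he

variable [FiniteDimensional F V]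

theorem exists_valid (hP : P.ND) {e : V} (hs : P.Sing e) {g : P.Iso} (he : ∀ t : F, g • e ≠ t • e)
    (h : P.B (g • e) e ≠ 0 → ∃ w, P.B w e = 0 ∧ P.B w (g • e) = 0 ∧
      P.QEq w (-τ (P.B (g • e) e)⁻¹)) : ∃ f, P.Hyp e f ∧ P.B (g • e) f = 1 := by
  by_cases h0 : P.B (g • e) e = 0
  · obtain ⟨f, h1, h2, h3⟩ := hP.exists_sing_common hs h0 (li_of_ne he) 1 1 one_ne_zero
    exact ⟨f, ⟨hs, h1, h2⟩, h3⟩
  obtain ⟨w, w1, w2, w3⟩ := h h0
  have h1 := hyp_of_ne hs (hs.act g) (B_swap_ne h0)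
  refine ⟨τ (P.B (g • e) e)⁻¹ • e + w + (1 : F) • _, ⟨hs, (h1.QEq_combo (mem_perp_pair.mpr
    ⟨w1, by simp [w2]⟩) w3 _ 1).congr (by simp), ?_⟩, ?_⟩
  · simp [hs.B_self, B_swap_zero w1, π.tau_tau, B_swap_ne h0]
  · simp [hs.B_self, B_swap_zero w2, π.tau_tau, h0]

theorem exists_two_valid (hP : P.ND) {e : V} (hs : P.Sing e) {g : P.Iso}
    (he : ∀ t : F, g • e ≠ t • e) {k : ℕ} (hk : k + 2 ≤ finrank F V)
    (hS : ∀ S : Submodule F V, k ≤ finrank F S → ∃ x ∈ S, x ≠ 0 ∧ P.Sing x)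
    (h5 : 5 ≤ finrank F V ∨ ∃ l ∈ π.Λ, l ≠ 0) :
    ∃ f₁ f₂, P.Hyp e f₁ ∧ P.Hyp e f₂ ∧ P.B (g • e) f₁ = 1 ∧ P.B (g • e) f₂ = 1 ∧
      (∃ x ∈ P.perp {e, f₁}, P.B x f₂ ≠ 0) ∧ ∀ α β γ : F, e ≠ α • f₁ + β • f₂ + γ • g • e := by
  have hg := hs.act g
  by_cases h0 : P.B (g • e) e = 0
  · obtain ⟨f, h1, h2⟩ := exists_valid hP hs he fun h => (h h0).elim
    have z1 : g • e - e ∈ P.perp {e, f} := mem_perp_pair.mpr
      ⟨by simp [h0, hs.B_self], by simp [h1.pair, h2]⟩
    have z0 : g • e - e ≠ 0 := fun h => he 1 (by simpa [sub_eq_zero] using h)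
    rcases h5 with h5 | ⟨l, hl, l0⟩
    · have := h1.finrank_perp
      have h3 := finrank_le_inf_ker_add_one (P.perp {e, f}) (P.B.flip (g • e))
      obtain ⟨w, ⟨w1, w2⟩, w3⟩ := exists_mem_notMem_span (W := P.perp {e, f} ⊓
        LinearMap.ker (P.B.flip (g • e))) (by omega) (g • e - e)
      have w4 := mem_perp_pair.mp w1
      have w5 : P.B (g • e) w = 0 := B_swap_zero w2
      have ok := EOk.of_perp hs w4.1
      have h4 := h1.act (P.eich e w (P.Q w))
      rw [ok.eich_smul_e, h1.eich_smul_f ok w4.2] at h4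
      obtain ⟨x, x1, x2⟩ := h1.exists_ne_perp hP w1 (by rintro rfl; simp at w3) 1
      refine ⟨f, _, h1, h4, h2, by simp [h2, h0, w5], ⟨x, x1, ?_⟩, fun α β γ h => ?_⟩
      · simpa [mem_perp_pair.mp x1, π.tau_eps, π.eps_ne_zero] using B_swap_ne (x2 ▸ one_ne_zero)
      · have e1 := congrArg (P.B · e) h
        have e2 := congrArg (P.B · f) h
        simp only [map_add, map_sub, map_smul, LinearMap.add_apply, LinearMap.sub_apply,
          LinearMap.smul_apply, hs.B_self, h0, h1.pair, h1.pair', w4, h1.right.B_self, h2,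
          smul_eq_mul] at e1 e2
        have e3 : α = -β := mul_right_cancel₀ π.eps_ne_zero (by linear_combination -e1)
        have e4 : γ = 1 + β * P.Q w := by linear_combination -e2
        by_cases hβ : β = 0
        · exact z0 (by rw [e3, e4, hβ] at h; simpa [sub_eq_zero] using h.symm)
        · refine w3 ((Submodule.smul_mem_iff _ (mul_ne_zero hβ π.eps_ne_zero)).mp
            (Submodule.mem_span_singleton.mpr ⟨-γ, ?_⟩))
          rw [e3] at h
          have : e = γ • e - (β * P.Q w) • e := by rw [e4]; module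
          generalize g • e = y at h ⊢
          linear_combination (norm := module) h - this
    · obtain ⟨x, x1, x2⟩ := h1.exists_ne_perp hP z1 z0 1
      have x3 := mem_perp_pair.mp x1
      refine ⟨f, f + τ l • g • e, h1, ⟨hs, ?_, ?_⟩, h2, ?_, ⟨x, x1, ?_⟩, fun α β γ h => ?_⟩
      · refine (QEq.add_sing h1.right hg _).of_sub_mem ?_
        rw [P.symm, h2, π.tau_tau]
        simpa [mul_comm] using lam_eps hl
      · simp [h1.pair, B_swap_zero h0]
      · simp [h2, hs.B_self]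
      · have := B_swap_ne (x2 ▸ one_ne_zero)
        simpa [x3, π.tau_tau, l0] using this
      · have e1 := congrArg (P.B · e) h
        simp only [map_add, map_smul, LinearMap.add_apply, LinearMap.smul_apply, hs.B_self, h0,
          h1.pair', smul_eq_mul] at e1
        have e3 : α = -β := mul_right_cancel₀ π.eps_ne_zero (by linear_combination -e1)
        refine ne_comb he (β * τ l + γ) ?_
        rw [e3] at h
        generalize g • e = y at h ⊢
        linear_combination (norm := module) h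
  · have h1 := hyp_of_ne hs hg (B_swap_ne h0)
    have b0 : τ (P.B e (g • e))⁻¹ ≠ 0 := by simpa using B_swap_ne h0
    set f₀ := τ (P.B e (g • e))⁻¹ • g • e with hf₀
    have hW : ∀ w ∈ P.perp {e, f₀}, P.B w e = 0 ∧ P.B w (g • e) = 0 := fun w hw =>
      ⟨(mem_perp_pair.mp hw).1, by
        simpa [hf₀, π.tau_tau, B_swap_ne h0] using (mem_perp_pair.mp hw).2⟩
    have d1 := h1.finrank_perp
    obtain ⟨e₀, e1, e2, e3⟩ := hS (P.perp {e, f₀}) (by omega)
    obtain ⟨y₀, h2⟩ := (h1.emb.nd hP).exists_hyp (e := ⟨e₀, e1⟩) e3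
      (fun h => e2 (congrArg Subtype.val h))
    obtain ⟨y, y1, c, y2, y3⟩ : ∃ y ∈ (P.res _).perp {⟨e₀, e1⟩, y₀}, ∃ c, (P.res _).QEq y c ∧
        (y ≠ 0 ∨ c ≠ 0) := by
      rcases h5 with h5 | ⟨l, hl, l0⟩
      · have := h2.finrank_perp
        have : Nontrivial ((P.res _).perp {⟨e₀, e1⟩, y₀}) :=
          Module.nontrivial_of_finrank_pos (R := F) (by omega)
        obtain ⟨y, hy⟩ := exists_ne (0 : (P.res _).perp {⟨e₀, e1⟩, y₀})
        exact ⟨y, y.2, _, QEq.self _, Or.inl (by simpa using hy)⟩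
      · exact ⟨0, zero_mem _, l, (EOk.lam h2.left hl).val, Or.inr l0⟩
    set a := τ (P.B (g • e) e)⁻¹ with ha
    have key : ∀ w : P.perp {e, f₀}, P.QEq w (-a) → P.Hyp e (a • e + w + (1 : F) • f₀) ∧
        P.B (g • e) (a • e + w + (1 : F) • f₀) = 1 := fun w hw =>
      ⟨⟨hs, (h1.QEq_combo w.2 hw _ 1).congr (by simp), by
        simp [hs.B_self, B_swap_zero (hW w w.2).1, h1.pair]⟩, by
        simp [ha, hf₀, hs.B_self, B_swap_zero (hW w w.2).2, π.tau_tau, h0]⟩
    obtain ⟨k1, k2⟩ := key _ ((h2.QEq_combo (zero_mem _) sing_zero (-a) 1).congr (by simp))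
    obtain ⟨k3, k4⟩ := key _ ((h2.QEq_combo y1 y2 (-a - c) 1).congr (by simp))
    have y4 := mem_perp_pair.mp y1
    obtain ⟨x, hx⟩ := (h1.emb.nd hP).exists_eq' (x := y - c • ⟨e₀, e1⟩) (fun h => by
      have h3 := congrArg ((P.res _).B · y₀) h
      simp only [map_sub, map_smul, LinearMap.sub_apply, LinearMap.smul_apply, y4, h2.pair] at h3
      obtain rfl : c = 0 := by simpa using h3
      simpa using y3.resolve_right (by simp) (by simpa using h)) 1
    refine ⟨_, _, k1, k3, k2, k4, ⟨x - P.B x _ • e, mem_perp_pair.mpr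
      ⟨by simp [hW x x.2, hs.B_self], by rw [map_sub, LinearMap.sub_apply, B_smul_left, k1.pair,
        mul_one, sub_self]⟩, ?_⟩, fun α β γ h => ?_⟩
    · rw [map_sub, LinearMap.sub_apply, B_smul_left, k3.pair, mul_one, ← map_sub]
      have hx' : P.B x ((y : V) - c • e₀) = 1 := hx
      convert one_ne_zero (α := F)
      rw [← hx']
      congr 1
      push_cast
      rw [sub_smul]
      abel
    · have p1 : P.B y₀ e₀ = π.ε := h2.pair'
      have p2 : P.B y e₀ = 0 := y4.1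
      have p3 := hW _ e1
      have p4 := mem_perp_pair.mp e1
      have p5 := mem_perp_pair.mp y.2
      have p6 := mem_perp_pair.mp y₀.2
      have q1 := congrArg (P.B · e₀) h
      have q2 := congrArg (P.B · e) h
      have q3 := congrArg (P.B · f₀) h
      have q4 : P.B (g • e) f₀ = 0 := by simp [hf₀, hs.B_self]
      simp only [Submodule.coe_add, Submodule.coe_smul, Submodule.coe_zero, map_add, map_smul,
        LinearMap.add_apply, LinearMap.smul_apply, smul_eq_mul, p1, p2, p4, p5, p6, q4,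
        e3.B_self, hs.B_self, h1.pair, h1.pair', h1.right.B_self, B_swap_zero p3.1,
        B_swap_zero p3.2, B_swap_zero p4.2, map_zero, LinearMap.zero_apply] at q1 q2 q3
      have e3 : α = -β := mul_right_cancel₀ π.eps_ne_zero (by linear_combination -q1)
      rw [e3] at q3
      exact one_ne_zero (α := F) (by linear_combination q3)

theorem exists_step (hP : P.ND) {g : P.Iso} (hg : NSi P g) {k : ℕ} (hk : k + 2 ≤ finrank F V)
    (hS : ∀ S : Submodule F V, k ≤ finrank F S → ∃ x ∈ S, x ≠ 0 ∧ P.Sing x)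
    (h5 : 5 ≤ finrank F V ∨ finrank F V = 4 ∧ P.det g = 1 ∧ ∃ l ∈ π.Λ, l ≠ 0) :
    ∃ (e f : V) (h : P.Hyp e f), ∃ u ∈ P.U f, ∃ v ∈ P.U e, ∃ g', g = u * h.emb.ext g' * v ∧
      NSi _ g' := by
  obtain ⟨e, -, e0, e1⟩ := hS ⊤ (by rw [finrank_top]; omega)
  obtain ⟨f, h⟩ := hP.exists_hyp e1 e0
  rcases hg with rfl | hg
  · exact ⟨e, f, h, 1, one_mem _, 1, one_mem _, 1, by simp, Or.inl rfl⟩
  obtain ⟨e, hs, he⟩ := exists_not_fix (hP.rich (by omega)) h hg
  obtain ⟨f₁, f₂, h1, h2, b1, b2, ⟨x, x1, x2⟩, hne⟩ := exists_two_valid hP hs he hk hS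
    (h5.imp_right fun h => h.2.2)
  obtain ⟨u₁, hu₁, v₁, hv₁, g₁, d1⟩ := exists_dec h1 hP b1
  obtain ⟨u₂, hu₂, v₂, hv₂, g₂, d2⟩ := exists_dec h2 hP b2
  by_contra hc
  have n1 : ¬ NSi _ g₁ := fun h => hc ⟨e, f₁, h1, u₁, hu₁, v₁, hv₁, g₁, d1, h⟩
  have n2 : ¬ NSi _ g₂ := fun h => hc ⟨e, f₂, h2, u₂, hu₂, v₂, hv₂, g₂, d2, h⟩
  rw [NSi, not_or] at n1 n2
  push Not at n1 n2
  obtain ⟨n1, s, hs₁⟩ := n1
  obtain ⟨n2, t, hs₂⟩ := n2
  have c1 := sc_of_dec h1 hu₁ hv₁ hs₁ d1
  have c2 := sc_of_dec h2 hu₂ hv₂ hs₂ d2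
  by_cases hst : s = t
  · subst hst
    have s0 : s ≠ 0 := by
      rintro rfl
      exact n1 (PQ.iso_ext fun x => by
        obtain rfl : x = 0 := by_contra fun h => act_ne_zero g₁ h (by simp [hs₁])
        simp)
    obtain ⟨a, b, hab⟩ := c1 x x1
    obtain ⟨a', b', hab'⟩ := c2 (x - P.B x f₂ • e) (mem_perp_pair.mpr
      ⟨by simp [mem_perp_pair.mp x1, hs.B_self], by simp [h2.pair]⟩)
    rw [smul_sub, act_smul, hab] at hab'
    set r := P.B x f₂
    have r0 := mul_ne_zero s0 x2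
    refine hne (-a / (s * r)) (a' / (s * r)) ((r - b + b') / (s * r)) ((smul_right_inj r0).mp ?_)
    simp only [smul_add, smul_smul, mul_div_cancel₀ _ r0]
    generalize g • e = y at hab' ⊢
    linear_combination (norm := module) hab'
  rcases h5 with h5 | ⟨h4, hd, -⟩
  · set T := Submodule.span F {f₁, f₂, g • e}
    have t1 : finrank F T ≤ 3 := by
      classical
      exact (finrank_span_le_card _).trans (by simpa using Finset.card_le_three)
    have t2 := finrank_inf_ker_add_one T (P.B.flip f₁) fun h => by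
      simpa [b1] using h (Submodule.subset_span (by simp : g • e ∈ _))
    have t3 := finrank_inf_ker_add_one (T ⊓ LinearMap.ker (P.B.flip f₁)) (P.B.flip e) fun h => by
      simpa [h1.pair', π.eps_ne_zero] using h (x := f₁)
        ⟨Submodule.subset_span (by simp), h1.right.B_self⟩
    have t4 := finrank_le_inf_ker_add_one (P.perp {e, f₁}) (P.B.flip f₂)
    have t5 := h1.finrank_perp
    have t6 := Submodule.finrank_mono (s := P.perp {e, f₁} ⊓ LinearMap.ker (P.B.flip f₂))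
      (t := T ⊓ LinearMap.ker (P.B.flip f₁) ⊓ LinearMap.ker (P.B.flip e)) fun x ⟨x1, x2⟩ => by
        have x3 := mem_perp_pair.mp x1
        obtain ⟨a, b, hab⟩ := c1 x x1
        obtain ⟨a', b', hab'⟩ := c2 x (mem_perp_pair.mpr ⟨x3.1, x2⟩)
        refine ⟨⟨(T.smul_mem_iff (sub_ne_zero.mpr hst)).mp
          (Submodule.mem_span_triple.mpr ⟨-a, a', b' - b, ?_⟩), x3.2⟩, x3.1⟩
        rw [hab] at hab'
        generalize g • e = y at hab' ⊢
        linear_combination (norm := module) -hab'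
    omega
  · have key : ∀ {f} (h : P.Hyp e f) {u v} (g' : (P.res (P.perp {e, f})).Iso) (s : F), u ∈ P.U f →
        v ∈ P.U e → g = u * h.emb.ext g' * v → g' ≠ 1 → (∀ x : P.perp {e, f}, g' • x = s • x) →
        s = -1 := by
      intro f h u v g' s hu hv d n hs
      have e1 := congrArg P.det d
      rw [hd, map_mul, map_mul, EG_le_ker_det (h.swap.U_le_EG hu), EG_le_ker_det (h.U_le_EG hv),
        one_mul, mul_one, Emb.det_ext] at e1
      have e2 := congrArg Units.val e1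
      have e3 := h.finrank_perp
      have e4 : g'.1.toLinearMap = s • LinearMap.id := LinearMap.ext hs
      rw [coe_det, e4, LinearMap.det_smul, show finrank F (P.perp {e, f}) = 2 by omega] at e2
      refine (sq_eq_one_iff.mp (by simpa using e2.symm)).resolve_left ?_
      rintro rfl
      exact n (PQ.iso_ext fun x => by simp [hs])
    exact hst ((key h1 g₁ s hu₁ hv₁ d1 n1 hs₁).trans (key h2 g₂ t hu₂ hv₂ d2 n2 hs₂).symm)

theorem det_of_dec {e f : V} (h : P.Hyp e f) {u v : P.Iso} (hu : u ∈ P.U f) (hv : v ∈ P.U e)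
    (g' : (P.res (P.perp {e, f})).Iso) : P.det (u * h.emb.ext g' * v) = (P.res _).det g' := by
  rw [map_mul, map_mul, EG_le_ker_det (h.swap.U_le_EG hu), EG_le_ker_det (h.U_le_EG hv),
    one_mul, mul_one, Emb.det_ext]

theorem eq_one_of_finrank_le (h : finrank F V ≤ 1) {g : P.Iso} (hg : P.det g = 1) : g = 1 := by
  obtain ⟨v, hv⟩ := finrank_le_one_iff.mp h
  obtain ⟨c, hc⟩ := hv (g • v)
  have e1 : ((g : V ≃ₗ[F] V) : V →ₗ[F] V) = c • LinearMap.id := LinearMap.ext fun x => by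
    obtain ⟨d, rfl⟩ := hv x
    change g • d • v = _
    simp [act_smul, ← hc, smul_comm d]
  have e2 := congrArg Units.val hg
  rw [coe_det, e1, LinearMap.det_smul] at e2
  refine PQ.iso_ext fun x => ?_
  rcases Nat.le_one_iff_eq_zero_or_eq_one.mp h with h | h
  · exact (finrank_zero_iff.mp h).elim _ _
  · obtain rfl : c = 1 := by simpa [h] using e2
    exact (LinearMap.congr_fun e1 x).trans (by simp)

end

/-- Gauss decomposition for symplectic and unitary spaces. -/
theorem gd_lam {F : Type*} [Field F] {τ : F →+* F} {π : Polar.FP F τ} (hl : ∃ l ∈ π.Λ, l ≠ 0)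
    (hS : ∀ (V : Type u) [AddCommGroup V] [Module F V] [FiniteDimensional F V] (P : PQ π V),
      2 ≤ finrank F V → ∃ x : V, x ≠ 0 ∧ P.Sing x)
    (h3 : ∀ (V : Type u) [AddCommGroup V] [Module F V] (P : PQ π V) [Nontrivial V], P.ND →
      ∀ c, ∃ w, P.QEq w c)
    (h2 : ∀ c : F, c + π.ε * τ c = 0 → c ∈ π.Λ)
    (m : ℕ) : ∀ (V : Type u) [AddCommGroup V] [Module F V] [FiniteDimensional F V] (P : PQ π V)
      (g : P.Iso), P.ND → finrank F V / 2 = m → P.det g = 1 → NSi P g → GD P g m := by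
  induction m with
  | zero => exact fun V _ _ _ P g _ hd hg _ => eq_one_of_finrank_le (by omega) hg ▸ gd_zero
  | succ m ih =>
    intro V _ _ _ P g hP hd hg hn
    obtain ⟨e, f, h, u, hu, v, hv, g', d, n⟩ : ∃ (e f : V) (h : P.Hyp e f), ∃ u ∈ P.U f,
        ∃ v ∈ P.U e, ∃ g', g = u * h.emb.ext g' * v ∧ NSi _ g' := by
      by_cases h4 : 4 ≤ finrank F V
      · exact exists_step hP hn (k := 2) h4 (fun S h => by
          obtain ⟨x, h1, h2⟩ := hS S (P.res S) h
          exact ⟨x, x.2, by simpa using h1, h2⟩) (by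
          rcases h4.eq_or_lt with h | h
          exacts [Or.inr ⟨h.symm, hg, hl⟩, Or.inl h])
      obtain ⟨e, e0, e1⟩ := hS V P (by omega)
      obtain ⟨f, h⟩ := hP.exists_hyp e1 e0
      rcases hn with rfl | hn
      · exact ⟨e, f, h, 1, one_mem _, 1, one_mem _, 1, by simp, Or.inl rfl⟩
      obtain ⟨e, hs, he⟩ := exists_not_fix (rich_of_lam hl) h hn
      obtain ⟨f, h, hf⟩ := exists_valid hP hs he fun h0 => by
        have h1 := hyp_of_ne hs (hs.act g) (B_swap_ne h0)
        have := h1.finrank_perp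
        by_cases h5 : finrank F V = 3
        · have : Nontrivial (P.perp {e, τ (P.B e (g • e))⁻¹ • g • e}) :=
            Module.nontrivial_of_finrank_pos (R := F) (by omega)
          obtain ⟨w, hw⟩ := h3 _ _ (h1.emb.nd hP) (-τ (P.B (g • e) e)⁻¹)
          exact ⟨w, (mem_perp_pair.mp w.2).1, by
            simpa [π.tau_tau, B_swap_ne h0] using (mem_perp_pair.mp w.2).2, hw⟩
        · refine ⟨0, by simp, by simp, (EOk.lam hs (neg_mem (h2 _ ?_))).val⟩
          have e1 := Fac.cayley_two (by omega) ((g : V ≃ₗ[F] V) : V →ₗ[F] V) (g⁻¹ • e)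
          rw [← coe_det, hg] at e1
          have e2 : g • g • g⁻¹ • e = _ • g • g⁻¹ • e - _ := e1
          have e3 := congrArg (P.B · e) e2
          simp only [smul_inv_smul, map_sub, map_smul, LinearMap.sub_apply, LinearMap.smul_apply,
            hs.B_self, ← B_act_right, P.symm (g • e) e, smul_eq_mul, Units.val_one] at e3
          have e4 : τ (P.B (g • e) e) ≠ 0 := by simpa using h0
          rw [π.tau_tau, map_inv₀]
          field_simp
          linear_combination e3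
      obtain ⟨u, hu, v, hv, g', d⟩ := exists_dec h hP hf
      have := h.finrank_perp
      exact ⟨e, f, h, u, hu, v, hv, g', d, Or.inl (eq_one_of_finrank_le (by omega)
        (by rw [← det_of_dec h hu hv, ← d, hg]))⟩
    have := h.finrank_perp
    exact d ▸ (ih _ _ g' (h.emb.nd hP) (by omega) (by rw [← det_of_dec h hu hv, ← d, hg]) n).cons
      h hu hv

end Cfsg.Agent.Ore
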