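import Cfsg.Agent.Ore.Comp

/-!
Factorisations `M = X B⁻¹` with `X`, `B` non-derogatory with one repeated eigenvalue.
-/

set_option autoImplicit false

open Polynomial Module

namespace Cfsg.Agent.Ore

open Cfsg.Agent.GLn Cfsg.Agent.Fac

universe u

section Step
variable {K : Type*} [Field K] {V : Type*} [AddCommGroup V] [Module K V]

theorem exists_avoid₄ (h : Big K 4) {S₁ S₂ S₃ S₄ : Submodule K V} (h1 : S₁ ≠ ⊤) (h2 : S₂ ≠ ⊤)
    (h3 : S₃ ≠ ⊤) (h4 : S₄ ≠ ⊤) : ∃ v, v ∉ S₁ ∧ v ∉ S₂ ∧ v ∉ S₃ ∧ v ∉ S₄ := by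
  obtain ⟨f1, a1, b1⟩ := S₁.exists_le_ker_of_lt_top h1.lt_top
  obtain ⟨f2, a2, b2⟩ := S₂.exists_le_ker_of_lt_top h2.lt_top
  obtain ⟨f3, a3, b3⟩ := S₃.exists_le_ker_of_lt_top h3.lt_top
  obtain ⟨f4, a4, b4⟩ := S₄.exists_le_ker_of_lt_top h4.lt_top
  obtain ⟨v, c1, c2, c3, c4⟩ := exists_lin₄ h a1 a2 a3 a4
  exact ⟨v, fun h => c1 (b1 h), fun h => c2 (b2 h), fun h => c3 (b3 h), fun h => c4 (b4 h)⟩

theorem exists_phi (h : Big K 4) {v y y₁ y₂ y₃ : V} (hv : v ≠ 0) (hy : ∀ s : K, y ≠ s • v)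
    (h1 : ∀ s : K, y₁ ≠ s • y) (h2 : ∀ s : K, y₂ ≠ s • y) (h3 : ∀ s : K, y₃ ≠ s • y) :
    ∃ φ : V →ₗ[K] K, φ v = 1 ∧ φ y = 0 ∧ φ y₁ ≠ 0 ∧ φ y₂ ≠ 0 ∧ φ y₃ ≠ 0 := by
  obtain ⟨φ, a, b⟩ := exists_fun₂ hv hy (1 : K) 0
  set S := Submodule.span K {v, y} with hS
  have key : ∀ x, (∀ s : K, x ≠ s • y) →
      (LinearMap.applyₗ (S.mkQ x) : ((V ⧸ S) →ₗ[K] K) →ₗ[K] K) ≠ 0 ∨ φ x ≠ 0 := fun x hx => by
    by_cases h0 : x ∈ S
    · obtain ⟨s, t, rfl⟩ := Submodule.mem_span_pair.mp h0
      refine Or.inr fun h => hx t ?_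
      simp only [map_add, map_smul, a, b, smul_eq_mul, mul_one, mul_zero, add_zero] at h
      simp [h]
    · refine Or.inl fun h => h0 ((Submodule.Quotient.mk_eq_zero S).mp ?_)
      exact (Module.forall_dual_apply_eq_zero_iff K _).mp fun z => LinearMap.congr_fun h z
  obtain ⟨z, c1, c2, c3⟩ := exists_aff₃ h (key _ h1) (key _ h2) (key _ h3)
  have e1 : S.mkQ v = 0 := (Submodule.Quotient.mk_eq_zero S).mpr (Submodule.subset_span (by simp))
  have e2 : S.mkQ y = 0 := (Submodule.Quotient.mk_eq_zero S).mpr (Submodule.subset_span (by simp))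
  exact ⟨z ∘ₗ S.mkQ + φ, by rw [LinearMap.add_apply, LinearMap.comp_apply, e1, a]; simp,
    by rw [LinearMap.add_apply, LinearMap.comp_apply, e2, b]; simp, c1, c2, c3⟩

variable [FiniteDimensional K V]

theorem comap_span_ne_top {N : End K V} (hN : finrank K (LinearMap.ker N) + 2 ≤ finrank K V)
    (t : V) : (K ∙ t).comap N ≠ ⊤ := fun h => by
  have h1 := finrank_comap_le N (K ∙ t)
  have h2 : finrank K (K ∙ t) ≤ 1 := by
    simpa using finrank_span_le_card (R := K) ({t} : Set V)
  rw [h, finrank_top] at h1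
  omega

theorem eigen_one_of_three (hd : finrank K V = 3) {M : End K V} (hM : LinearMap.det M = 1) {v : V}
    (hv : v ≠ 0) (h : ∀ s : K, M v ≠ s • v) {β : K} (hβ : M (M v) = β • M v - v) :
    ∃ u, u ≠ 0 ∧ M u = (1 : K) • u := by
  have hg := monic_quad β (1 : K)
  have e1 := modByMonic_add_div M.charpoly (quad β 1)
  have e2 : (M.charpoly %ₘ quad β 1).natDegree ≤ 1 := by
    have := natDegree_modByMonic_lt M.charpoly hg (fun h => by
      have := natDegree_quad β (1 : K); rw [h] at this; simp at this)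
    rw [natDegree_quad] at this; omega
  have e3 : aeval M (quad β 1) v = 0 := by simp [quad, sq, hβ]
  have e4 : aeval M (M.charpoly %ₘ quad β 1) v = 0 := by
    have := LinearMap.congr_fun (congrArg (aeval M) e1) v
    rw [LinearMap.aeval_self_charpoly, map_add, mul_comm, map_mul] at this
    simpa [e3] using this
  rw [eq_X_add_C_of_natDegree_le_one e2] at e1 e4
  generalize (M.charpoly %ₘ quad β 1).coeff 1 = r₁ at *
  generalize (M.charpoly %ₘ quad β 1).coeff 0 = r₀ at *
  simp only [map_add, map_mul, aeval_C, aeval_X, LinearMap.add_apply, Module.End.mul_apply,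
    Module.algebraMap_end_apply] at e4
  obtain rfl : r₁ = 0 := by
    by_contra h1
    refine h (-(r₀ / r₁)) ((smul_right_inj h1).mp ?_)
    rw [smul_smul, mul_neg, mul_div_cancel₀ _ h1, neg_smul, eq_neg_iff_add_eq_zero, e4]
  obtain rfl : r₀ = 0 := by simpa [hv] using e4
  simp only [map_zero, zero_mul, zero_add] at e1
  have m1 : (M.charpoly /ₘ quad β 1).Monic := hg.of_mul_monic_left (by rw [e1]; exact M.charpoly_monic)
  have m2 : (M.charpoly /ₘ quad β 1).natDegree = 1 := by
    rw [natDegree_divByMonic _ hg, LinearMap.charpoly_natDegree, hd, natDegree_quad]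
  have m3 := m1.eq_X_add_C m2
  have m4 := LinearMap.det_eq_sign_charpoly_coeff M
  rw [← e1, mul_coeff_zero, coeff_zero_quad, hd, hM] at m4
  refine exists_eigen_of_isRoot ?_
  rw [← e1, m3]
  simp only [eval_mul, eval_add, eval_X, eval_C]
  refine mul_eq_zero_of_right _ ?_
  linear_combination m4

/-- The scalars that a Schur complement could be equal to. -/
def Bad (M : End K V) (c : K) : Prop :=
  c ≠ 1 ∧ c ^ (finrank K V - 1) = 1 ∧ finrank K (LinearMap.range (M - c • 1)) ≤ 2

theorem Bad.le {M : End K V} (hd : 3 ≤ finrank K V) {c c' : K} (h : Bad M c) (h' : Bad M c')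
    (hne : c ≠ c') : LinearMap.range (M - c' • 1) ≤ LinearMap.ker (M - c • 1) := by
  rcases hd.eq_or_lt with hd | hd
  · have key : ∀ c, Bad M c → c = -1 := fun c h => by
      have := h.2.1
      rw [← hd] at this
      exact (sq_eq_one_iff.mp this).resolve_left h.1
    exact (hne ((key c h).trans (key c' h').symm)).elim
  have e1 := (M - c • 1).finrank_range_add_finrank_ker
  have e2 := (M - c' • 1).finrank_range_add_finrank_ker
  have e3 := Submodule.finrank_sup_add_finrank_inf_eq (LinearMap.ker (M - c • 1))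
    (LinearMap.ker (M - c' • 1))
  have e4 : LinearMap.ker (M - c • 1) ⊓ LinearMap.ker (M - c' • 1) = ⊥ := by
    refine eq_bot_iff.mpr fun x ⟨h1, h2⟩ => ?_
    simp only [SetLike.mem_coe, LinearMap.mem_ker, LinearMap.sub_apply, LinearMap.smul_apply,
      Module.End.one_apply, sub_eq_zero] at h1 h2
    have : (c - c') • x = 0 := by rw [sub_smul, ← h1, ← h2, sub_self]
    exact (smul_eq_zero.mp this).resolve_left (sub_ne_zero.mpr hne)
  rw [e4, finrank_bot] at e3
  have e5 := Submodule.eq_top_of_finrank_eq (S := LinearMap.ker (M - c • 1) ⊔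
    LinearMap.ker (M - c' • 1)) (le_antisymm (Submodule.finrank_le _) (by
      have := h.2.2; have := h'.2.2; omega))
  rintro _ ⟨x, rfl⟩
  obtain ⟨y, h1, z, h2, rfl⟩ := Submodule.mem_sup.mp (e5 ▸ Submodule.mem_top (x := x))
  rw [map_add, LinearMap.mem_ker.mp h2, add_zero]
  simp only [LinearMap.mem_ker, LinearMap.sub_apply, LinearMap.smul_apply,
      Module.End.one_apply, sub_eq_zero] at h1 ⊢
  simp [h1, smul_sub, smul_comm c c']

omit [FiniteDimensional K V] in
theorem Bad.ne_top {M : End K V} (hd : 3 ≤ finrank K V) {c : K} (h : Bad M c) :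
    LinearMap.range (M - c • 1) ≠ ⊤ := fun h1 => by
  have := h.2.2
  rw [h1, finrank_top] at this
  omega

theorem lev_step (h : Big K 4) (hd : 3 ≤ finrank K V) {M : End K V}
    (hM : LinearMap.det M = 1) (hns : ∀ c : K, M ≠ c • 1)
    (hN : finrank K (LinearMap.ker (M - 1)) + 2 ≤ finrank K V) {ψ : V →ₗ[K] K} (hψ : ψ ≠ 0)
    {t : V} (ht : t ≠ 0) :
    ∃ (v : V) (φ : V →ₗ[K] K) (_ : φ v = 1) (h0 : φ (M v) ≠ 0), φ (M v) = 1 ∧ ψ v ≠ 0 ∧ φ t ≠ 0 ∧
      φ ∘ₗ M ∘ₗ (LinearMap.ker φ).subtype ≠ 0 ∧ M v ≠ v ∧ (∀ c : K, schur M v φ h0 ≠ c • 1) ∧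
      finrank K (LinearMap.ker (schur M v φ h0 - 1)) + 2 ≤ finrank K (LinearMap.ker φ) := by
  set N := M - 1 with hNd
  have hNa : ∀ x, N x = M x - x := fun _ => rfl
  have hψ' : LinearMap.ker ψ ≠ ⊤ := by simpa using hψ
  have hker : ∀ c : K, LinearMap.ker (M - c • 1) ≠ ⊤ := fun c h => hns c (by
    rwa [LinearMap.ker_eq_top, sub_eq_zero] at h)
  have hinj := injective_of_det (M := M) (by simp [hM])
  have ht' : ∀ v, N v ∉ K ∙ t → ∀ s : K, t ≠ s • N v := fun v hv s hs => hv (by
    have : s ≠ 0 := by rintro rfl; exact ht (by simpa using hs)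
    exact Submodule.mem_span_singleton.mpr ⟨s⁻¹, by rw [hs, smul_smul]; simp [this]⟩)
  obtain ⟨v, φ, h1, h2, h3, h4, ⟨x, h5⟩, h6, h7, h8⟩ : ∃ (v : V) (φ : V →ₗ[K] K), φ v = 1 ∧
      φ (N v) = 0 ∧ ψ v ≠ 0 ∧ φ t ≠ 0 ∧ (∃ x, φ (N x) ≠ 0) ∧ N v ≠ 0 ∧
      (∀ c, Bad M c → v ∉ LinearMap.range (M - c • 1)) ∧ ∃ S : Submodule K V,
        finrank K S + 3 ≤ finrank K V ∧ ∀ w (s : K), φ w = 0 → N w = s • M v → w ∈ S := by
    by_cases hk : ∃ k, k ≠ 0 ∧ N k = 0
    · obtain ⟨k, k0, hk⟩ := hk
      have hMk : M k = k := sub_eq_zero.mp hk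
      obtain ⟨R, r1, r2, r3⟩ : ∃ R : Submodule K V, R ≠ ⊤ ∧ (K ∙ k).comap N ≤ R ∧
          ∀ c, Bad M c → LinearMap.range (M - c • 1) ≤ R := by
        by_cases hb : ∃ c, Bad M c
        · obtain ⟨c, hc⟩ := hb
          have c1 : 1 - c ≠ 0 := sub_ne_zero.mpr hc.1.symm
          refine ⟨_, hc.ne_top hd, fun x hx => ?_, fun c' hc' => ?_⟩
          · obtain ⟨s, hs⟩ := Submodule.mem_span_singleton.mp hx
            refine ⟨(1 - c)⁻¹ • x - ((1 - c)⁻¹ * (1 - c)⁻¹ * s) • k, ?_⟩
            have : M x = x + s • k := by rw [hs, hNa]; abel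
            simp only [LinearMap.sub_apply, map_sub, map_smul, this, hMk, LinearMap.smul_apply,
              Module.End.one_apply]
            match_scalars <;> field_simp <;> ring
          · by_cases he : c = c'
            · exact he ▸ le_rfl
            · have := hc.le hd hc' he ⟨k, rfl⟩
              simp only [LinearMap.mem_ker, LinearMap.sub_apply, map_sub, map_smul, hMk,
                LinearMap.smul_apply, Module.End.one_apply] at this
              have : ((1 - c) * (1 - c')) • k = 0 := by rw [← this]; module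
              exact absurd this (smul_ne_zero (mul_ne_zero c1 (sub_ne_zero.mpr hc'.1.symm)) k0)
        · exact ⟨_, comap_span_ne_top hN k, le_rfl, fun c hc => (hb ⟨c, hc⟩).elim⟩
      have hr : LinearMap.range N ≠ ⊤ := fun h => k0
        ((LinearMap.injective_iff_surjective.mpr (LinearMap.range_eq_top.mp h)) (by simp [hk]))
      obtain ⟨v, v1, v2, v3, v4⟩ := exists_avoid₄ h hψ' (comap_span_ne_top hN t) hr r1
      have v5 : N v ≠ 0 := fun h => v2 (by simp [h])
      obtain ⟨x, hx⟩ : ∃ x, x ∉ (K ∙ N v).comap N := by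
        by_contra h; push Not at h
        exact comap_span_ne_top hN _ (eq_top_iff.mpr fun x _ => h x)
      obtain ⟨φ, a1, a2, a3, a4, a5⟩ := exists_phi h (v := v) (y := N v) (y₁ := t) (y₂ := k)
        (y₃ := N x) (by rintro rfl; simp at v1) (fun s hs => by
          have : s ≠ 0 := by rintro rfl; exact v5 (by simpa using hs)
          exact v3 ⟨s⁻¹ • v, by rw [map_smul, hs, smul_smul]; simp [this]⟩) (ht' v v2)
        (fun s hs => v4 (r2 (by
          have : s ≠ 0 := by rintro rfl; exact k0 (by simpa using hs)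
          exact Submodule.mem_span_singleton.mpr ⟨s⁻¹, by rw [hs, smul_smul]; simp [this]⟩)))
        (fun s hs => hx (Submodule.mem_span_singleton.mpr ⟨s, hs.symm⟩))
      refine ⟨v, φ, a1, a2, v1, a3, ⟨x, a5⟩, v5, fun c hc h => v4 (r3 c hc h),
        LinearMap.ker N ⊓ LinearMap.ker φ, ?_, fun w s h1 h2 => ⟨?_, h1⟩⟩
      · have := Submodule.finrank_lt_finrank_of_lt (s := LinearMap.ker N ⊓ LinearMap.ker φ)
          (t := LinearMap.ker N) (lt_of_le_of_ne inf_le_left fun h => a4 (h.ge hk).2)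
        omega
      · by_contra hw
        have : s ≠ 0 := by rintro rfl; exact hw (by simpa using h2)
        exact v3 ⟨s⁻¹ • w - v, by rw [map_sub, map_smul, h2, smul_smul, hNa]; simp [this]⟩
    · have hNi : Function.Injective N := (injective_iff_map_eq_zero N).mpr fun k h =>
        by_contra fun h0 => hk ⟨k, h0, h⟩
      have hNs := LinearMap.injective_iff_surjective.mp hNi
      obtain ⟨R, Z, r1, r2, r3, r4⟩ : ∃ R Z : Submodule K V, R ≠ ⊤ ∧ Z ≠ ⊤ ∧
          (∀ c, Bad M c → LinearMap.range (M - c • 1) ≤ R ∨ LinearMap.range (M - c • 1) ≤ Z) ∧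
          ∀ v (s : K), M v = s • v → v ∈ R ∨ v ∈ Z := by
        have key : ∀ (c : K) v (s : K), M v = s • v →
            v ∈ LinearMap.range (M - c • 1) ∨ v ∈ LinearMap.ker (M - c • 1) := fun c v s hs => by
          by_cases he : s = c
          · exact Or.inr (by simp [hs, he])
          · exact Or.inl ⟨(s - c)⁻¹ • v, by
              simp [hs, ← sub_smul, smul_smul, sub_ne_zero.mpr he]⟩
        by_cases hb : ∃ c, Bad M c
        · obtain ⟨c, hc⟩ := hb
          refine ⟨_, _, hc.ne_top hd, hker c, fun c' hc' => ?_, key c⟩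
          by_cases he : c = c'
          · exact Or.inl (he ▸ le_rfl)
          · exact Or.inr (hc.le hd hc' he)
        by_cases hb' : ∃ (c : K) (u : V), u ≠ 0 ∧ M u = c • u
        · obtain ⟨c, u, u0, hu⟩ := hb'
          exact ⟨_, _, fun h => u0 ((LinearMap.injective_iff_surjective.mpr
            (LinearMap.range_eq_top.mp h)) (by simp [hu])), hker c,
            fun c hc => (hb ⟨c, hc⟩).elim, key c⟩
        · exact ⟨LinearMap.ker ψ, LinearMap.ker ψ, hψ', hψ', fun c hc => (hb ⟨c, hc⟩).elim,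
            fun v s hs => Or.inl (by
              obtain rfl : v = 0 := by_contra fun h0 => hb' ⟨s, v, h0, hs⟩
              simp)⟩
      obtain ⟨v, v1, v2, v3, v4⟩ := exists_avoid₄ h hψ' (comap_span_ne_top hN t) r1 r2
      have v0 : v ≠ 0 := by rintro rfl; simp at v1
      have v5 : ∀ s : K, M v ≠ s • v := fun s hs => (r4 v s hs).elim v3 v4
      obtain ⟨y, hy⟩ := hNs (M v)
      obtain ⟨y', y1, y2⟩ : ∃ y', (∀ s : K, y' ≠ s • N v) ∧ (finrank K V = 3 → y' = y) := by
        by_cases h3 : finrank K V = 3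
        · refine ⟨y, fun s hs => ?_, fun _ => rfl⟩
          have s0 : s ≠ 0 := by
            rintro rfl
            exact v5 0 (by rw [← hy, hs]; simp)
          rw [hs, map_smul, hNa, hNa, map_sub] at hy
          obtain ⟨u, u0, hu⟩ := eigen_one_of_three h3 hM v0 v5 (β := 2 + s⁻¹) (by
            refine (smul_right_inj s0).mp ?_
            have : s • ((2 + s⁻¹) • M v) = (2 * s) • M v + M v := by
              match_scalars; field_simp
            rw [smul_sub, this]
            linear_combination (norm := module) hy)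
          exact hk ⟨u, u0, by simp [hNa, hu]⟩
        · exact ⟨t, ht' v v2, fun h => (h3 h).elim⟩
      obtain ⟨φ, a1, a2, a3, a4, -⟩ := exists_phi h v0 (y := N v) (fun s hs => v5 (s + 1) (by
        rw [add_smul, ← hs, hNa]; simp)) (ht' v v2) y1 y1
      obtain ⟨x, hx⟩ := hNs v
      refine ⟨v, φ, a1, a2, v1, a3, ⟨x, by simp [hx, a1]⟩, fun h => v0 (hNi (by simp [h])),
        fun c hc h => (r3 c hc).elim (fun r => v3 (r h)) fun r => v4 (r h), ?_⟩
      have hw : ∀ w (s : K), N w = s • M v → w = s • y := fun w s h => hNi (by simp [h, hy])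
      by_cases h3 : finrank K V = 3
      · refine ⟨⊥, by simp [h3], fun w s h1 h2 => ?_⟩
        rw [hw w s h2] at h1 ⊢
        rw [y2 h3] at a4
        obtain rfl : s = 0 := by simpa [a4] using h1
        simp
      · refine ⟨K ∙ y, ?_, fun w s _ h2 => Submodule.mem_span_singleton.mpr ⟨s, (hw w s h2).symm⟩⟩
        have h2 : finrank K (K ∙ y) ≤ 1 := by
          simpa using finrank_span_le_card (R := K) ({y} : Set V)
        omega
  have e1 : φ (M v) = 1 := by rw [hNa, map_sub, h1, sub_eq_zero] at h2; exact h2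
  have h0 : φ (M v) ≠ 0 := by simp [e1]
  have e2 := finrank_ker_add_one v φ h1
  have e3 : φ (M (sproj v φ h1 x)) ≠ 0 := by
    rw [hNa, map_sub] at h5
    simpa [e1] using h5
  have e4 : finrank K (LinearMap.ker (schur M v φ h0 - 1)) + 2 ≤ finrank K (LinearMap.ker φ) := by
    obtain ⟨S, s1, s2⟩ := h8
    have := Submodule.finrank_mono (s := (LinearMap.ker (schur M v φ h0 - 1)).map
      (LinearMap.ker φ).subtype) (t := S) (by
        rintro _ ⟨w, hw, rfl⟩
        have := congrArg Subtype.val (sub_eq_zero.mp (LinearMap.mem_ker.mp hw))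
        rw [schur_val] at this
        exact s2 w _ w.2 (by rw [hNa, sub_eq_iff_eq_add']; exact sub_eq_iff_eq_add.mp this))
    rw [Submodule.finrank_map_subtype_eq] at this
    omega
  refine ⟨v, φ, h1, h0, e1, h3, h4, fun h => e3 (LinearMap.congr_fun h (sproj v φ h1 x)),
    fun h => h6 (by simp [hNa, h]), fun c hc => ?_, e4⟩
  have e5 : ∀ w : LinearMap.ker φ, (M - c • 1) w = φ (M w) • M v := fun w => by
    have := congrArg Subtype.val (LinearMap.congr_fun hc w)
    rw [schur_val, e1] at this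
    simp only [LinearMap.smul_apply, Module.End.one_apply, Submodule.coe_smul] at this
    simp [← this]
  have e6 : c ^ (finrank K V - 1) = 1 := by
    have := det_schur M v φ h1 h0
    rw [hM, e1, hc, one_mul, LinearMap.det_smul] at this
    simpa [e2] using this.symm
  have c0 : c ≠ 0 := by rintro rfl; rw [zero_pow (by omega)] at e6; simp at e6
  refine h7 c ⟨?_, e6, ?_⟩ ⟨(c * φ (M (sproj v φ h1 x)))⁻¹ • sproj v φ h1 x - c⁻¹ • v, ?_⟩
  · rintro rfl
    rw [hc, one_smul, sub_self, LinearMap.ker_zero, finrank_top] at e4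
    omega
  · refine le_trans (Submodule.finrank_mono ?_) (finrank_span_pair_le ((M - c • 1) v) (M v))
    rintro _ ⟨x, rfl⟩
    refine Submodule.mem_span_pair.mpr ⟨φ x, φ (M (sproj v φ h1 x)), ?_⟩
    rw [← e5, ← map_smul, ← map_add]; simp
  · rw [map_sub, map_smul, map_smul, e5]
    simp only [LinearMap.sub_apply, LinearMap.smul_apply, Module.End.one_apply]
    match_scalars <;> field_simp <;> ring

end Step

section Ind
variable {K : Type u} [Field K]

theorem lev_ind [Finite K] (h : Big K 4) {a s δ : K} (ha : a ≠ 0) (he : SL2.Ell s δ) (hs : s ≠ 0)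
    (k : ℕ) : ∀ (V : Type u) [AddCommGroup V] [Module K V] [FiniteDimensional K V] (M : End K V),
    finrank K V = k + 2 → LinearMap.det M = 1 → (∀ c : K, M ≠ c • 1) →
    finrank K (LinearMap.ker (M - 1)) + 2 ≤ finrank K V → ∀ (ψ : V →ₗ[K] K) (t : V), ψ ≠ 0 → t ≠ 0 →
    ∃ B : End K V, ND B ∧ ND (M * B) ∧ B.charpoly = (X - C a) ^ k * quad s δ ∧
      (M * B).charpoly = (X - C a) ^ k * quad s δ ∧ (∀ w, w ≠ 0 → B w = a • w → ψ w ≠ 0) ∧
      ((∃ u, u ≠ 0 ∧ (M * B) u = a • u) → ∀ x, (M * B) x + t ≠ a • x) := by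
  induction k with
  | zero =>
    intro V _ _ _ M hd hM hns hN ψ t _ _
    have hχ := charpoly_two hd M
    rw [hM] at hχ
    set r := LinearMap.trace K V M
    have h2 : r ≠ 2 := fun h => by
      obtain ⟨u, u0, hu⟩ := exists_eigen_of_isRoot (f := M) (c := 1) (by
        rw [hχ, eval_quad, h]; ring)
      have : LinearMap.ker (M - 1) = ⊥ := Submodule.finrank_eq_zero.mp (by omega)
      exact u0 ((Submodule.eq_bot_iff _).mp this u (by simp [hu]))
    obtain ⟨B, b1, b2, b3, b4⟩ := fct_two hd hns hχ (s := s) (δ := δ) (s' := s) (by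
      by_cases h4 : r ^ 2 = 4 * 1
      · obtain h4 : r = -1 + -1 := by
          refine mul_left_cancel₀ (sub_ne_zero.mpr h2) ?_
          linear_combination h4
        simpa [h4] using conic_of_par (l := (-1 : K)) (s := s) (δ := δ) (s' := s) (fun h5 => h2 (by
          refine mul_left_cancel₀ hs ?_
          rw [h4]; linear_combination -2 * h5))
      · exact conic_of_disc h4 _ _ _) he.disc (by simpa using he.disc)
    rw [one_mul] at b4
    exact ⟨B, b1, b2, by simp [b3], by simp [b4],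
      fun w w0 hw => (ell_eval_ne he a (b3 ▸ isRoot_of_eigen w0 hw)).elim,
      fun ⟨w, w0, hw⟩ => (ell_eval_ne he a (b4 ▸ isRoot_of_eigen w0 hw)).elim⟩
  | succ k ih =>
    intro V _ _ _ M hd hM hns hN ψ t hψ ht
    obtain ⟨v, φ, h1, h0, e1, e2, e3, e4, e5, e6, e7⟩ := lev_step h (by omega) hM hns hN hψ ht
    have := finrank_ker_add_one v φ h1
    obtain ⟨B, b1, b2, b3, b4, b5, b6⟩ := ih _ (schur M v φ h0) (by omega)
      (by simpa [hM, e1] using (det_schur M v φ h1 h0).symm) e6 e7 _ (svec M v φ h1) e4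
      (fun h => e5 (by simpa [e1, sub_eq_zero] using congrArg Subtype.val h))
    refine ⟨luB M v φ h1 B a, nd_luB M v φ h1 h0 ha b1 b5,
      nd_mul_luB M v φ h1 h0 ha b2 (by simpa only [e1, one_mul] using b6),
      by rw [charpoly_luB, b3]; ring, by rw [charpoly_mul_luB _ _ _ _ h0, b4, e1, one_mul]; ring,
      fun w w0 hw => ?_, fun _ x hx => e3 ?_⟩
    · obtain ⟨r, rfl⟩ := eigen_luB M v φ h1 h0 ha b1 b5 w hw
      simpa [e2] using fun h => w0 (by simp [h])
    · have := congrArg φ hx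
      rw [map_add, left_luB _ _ _ _ h0, e1] at this
      simpa using this

theorem lev_rank_one [Finite K] {a s δ : K} (ha : a ≠ 0) (he : SL2.Ell s δ) (h : Big K 3)
    (k : ℕ) : ∀ (V : Type u) [AddCommGroup V] [Module K V] [FiniteDimensional K V]
    (θ : V →ₗ[K] K) (u : V), finrank K V = k + 3 → θ u = 0 →
    Fct (1 + θ.smulRight u) ((X - C a) ^ (k + 1) * quad s δ) ((X - C a) ^ (k + 1) * quad s δ) := by
  induction k with
  | zero =>
    intro V _ _ _ θ u hd hu
    obtain ⟨φ, v, h1, h2, h3⟩ : ∃ (φ : V →ₗ[K] K) (v : V), φ v = 1 ∧ (∀ w, φ w = 0 → θ w = 0) ∧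
        θ v * φ u = 0 := by
      by_cases h0 : θ = 0
      · have : Nontrivial V := Module.nontrivial_of_finrank_pos (R := K) (by omega)
        obtain ⟨v, hv⟩ := exists_ne (0 : V)
        obtain ⟨φ, hφ⟩ := Module.Projective.exists_dual_eq_one K hv
        exact ⟨φ, v, hφ, by simp [h0], by simp [h0]⟩
      · obtain ⟨v, hv⟩ := LinearMap.surjective h0 1
        exact ⟨θ, v, hv, fun _ h => h, by simp [hu]⟩
    have e1 : φ ((1 + θ.smulRight u) v) = 1 := by simp [h1, h3]
    have h0 : φ ((1 + θ.smulRight u) v) ≠ 0 := by simp only [e1]; exact one_ne_zero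
    have := finrank_ker_add_one v φ h1
    obtain ⟨B, hB⟩ := exists_charpoly_quad (V := LinearMap.ker φ) (by omega) s δ
    have e2 : schur (1 + θ.smulRight u) v φ h0 = 1 := by
      ext w
      simp [schur_val, h2 w w.2]
    simpa [h1, h3] using fct_three_of_schur hd h1 h0 ha he he ⟨B, hB, by rw [e2, one_mul, hB]⟩
  | succ k ih =>
    intro V _ _ _ θ u hd hu
    obtain ⟨φ, φ0, hφ⟩ := (K ∙ u).exists_le_ker_of_lt_top (lt_top_iff_ne_top.mpr fun h => by
      have h2 : finrank K (K ∙ u) ≤ 1 := by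
        simpa using finrank_span_le_card (R := K) ({u} : Set V)
      rw [h, finrank_top] at h2
      omega)
    have hu' : φ u = 0 := hφ (Submodule.mem_span_singleton_self u)
    obtain ⟨v, h1⟩ := LinearMap.surjective φ0 1
    have := finrank_ker_add_one v φ h1
    have : Nontrivial (LinearMap.ker φ) := Module.nontrivial_of_finrank_pos (R := K) (by omega)
    let u' : LinearMap.ker φ := ⟨u, hu'⟩
    let θ' := θ ∘ₗ (LinearMap.ker φ).subtype
    have h2 := (ih _ θ' u' (by omega) hu).ext_one h (fun x y hxy => by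
      have h3 := congrArg θ' hxy
      have h4 : θ' u' = 0 := hu
      simp only [LinearMap.add_apply, Module.End.one_apply, LinearMap.smulRight_apply, map_add,
        map_smul, h4, smul_zero, add_zero] at h3 hxy
      simpa [h3] using hxy) (LinearMap.toSpanSingleton K _ (θ v • u')) 1 a
    rw [one_mul, show (X - C a) ^ (k + 1) * quad s δ * (X - C a) = (X - C a) ^ (k + 1 + 1) * quad s δ
      by ring] at h2
    refine h2.of_sim ((sim_blk_swap _ _ _ _).trans (Sim.symm (sim_iff.mpr ⟨ssplit v φ h1,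
      fun x => ?_⟩)))
    refine Prod.ext ?_ (Subtype.ext ?_)
    · simp [ssplit_apply, hu']
    · simp [ssplit_apply, hu', u', θ', smul_smul, sub_smul]
      abel

/-- The main factorisation over fields with at least four elements. -/
theorem lev [Finite K] (h : Big K 4) {a s δ : K} (ha : a ≠ 0) (he : SL2.Ell s δ) (hs : s ≠ 0)
    {V : Type u} [AddCommGroup V] [Module K V] [FiniteDimensional K V] {k : ℕ}
    (hd : finrank K V = k + 3) {M : End K V} (hM : LinearMap.det M = 1) (hns : NS M) :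
    Fct M ((X - C a) ^ (k + 1) * quad s δ) ((X - C a) ^ (k + 1) * quad s δ) := by
  by_cases hN : finrank K (LinearMap.ker (M - 1)) + 2 ≤ finrank K V
  · have : Nontrivial V := Module.nontrivial_of_finrank_pos (R := K) (by omega)
    obtain ⟨v, hv⟩ := exists_ne (0 : V)
    obtain ⟨φ, hφ⟩ := Module.Projective.exists_dual_eq_one K hv
    obtain ⟨B, b1, b2, b3, b4, -⟩ := lev_ind h ha he hs (k + 1) V M hd hM (fun c hc => by
      rw [hc, hns c hc, one_smul, sub_self, LinearMap.ker_zero, finrank_top] at hN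
      omega) hN φ v (by rintro rfl; simp at hφ) hv
    exact ⟨B, b1, b2, b3, b4⟩
  obtain ⟨u, hu⟩ := finrank_le_one_iff.mp (show finrank K (LinearMap.range (M - 1)) ≤ 1 by
    have := (M - 1).finrank_range_add_finrank_ker; omega)
  obtain ⟨θ, hθ⟩ : ∃ θ : V →ₗ[K] K, M = 1 + θ.smulRight (u : V) := by
    by_cases h0 : (u : V) = 0
    · refine ⟨0, LinearMap.ext fun x => ?_⟩
      obtain ⟨c, hc⟩ := hu ⟨_, x, rfl⟩
      simpa [h0, eq_sub_iff_add_eq, eq_comm] using congrArg Subtype.val hc
    · obtain ⟨φ, hφ⟩ := Module.Projective.exists_dual_eq_one K h0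
      refine ⟨φ ∘ₗ (M - 1), LinearMap.ext fun x => ?_⟩
      obtain ⟨c, hc⟩ := hu ⟨_, x, rfl⟩
      have hc' : c • (u : V) = (M - 1) x := congrArg Subtype.val hc
      rw [LinearMap.add_apply, LinearMap.smulRight_apply, LinearMap.comp_apply, ← hc', map_smul, hφ,
        smul_eq_mul, mul_one, hc']
      simp
  rw [hθ]
  refine lev_rank_one ha he (h.mono (by omega)) k V θ u hd (by_contra fun h0 => ?_)
  have θ0 : θ ≠ 0 := by rintro rfl; simp at h0
  obtain ⟨v, h1⟩ := LinearMap.surjective θ0 1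
  have e1 : θ (M v) = 1 + θ u := by simp [hθ, h1]
  have h2 : θ (M v) ≠ 0 := fun h2 => by
    obtain ⟨x, rfl⟩ := LinearMap.injective_iff_surjective.mp
      (injective_of_det (M := M) (by simp [hM])) v
    rw [e1] at h2
    rw [hθ] at h1
    simp only [LinearMap.add_apply, Module.End.one_apply, LinearMap.smulRight_apply, map_add,
      map_smul, smul_eq_mul] at h1
    exact one_ne_zero (α := K) (by linear_combination θ x * h2 - h1)
  have e2 : schur M v θ h2 = 1 := by
    ext w
    have : M w = w := by simp [hθ]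
    simp [schur_val, this]
  have := det_schur M v θ h1 h2
  rw [e2, hM, e1] at this
  exact h0 (by simpa using this)

end Ind

theorem exists_ell_ne {K : Type*} [Field K] [Finite K] (h : Big K 4) {δ : K} (hδ : δ ≠ 0) :
    ∃ s : K, s ≠ 0 ∧ SL2.Ell s δ := by
  obtain ⟨a, a0, ha⟩ : ∃ a : K, a ≠ 0 ∧ a * a ≠ δ := by
    by_cases h1 : ∃ b : K, b * b = δ
    · obtain ⟨b, rfl⟩ := h1
      obtain ⟨a, h0, h1, h2⟩ := h.exists_ne₃ 0 b (-b)
      exact ⟨a, h0, fun h => (mul_self_eq_mul_self_iff.mp h).elim h1 h2⟩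
    · exact ⟨1, one_ne_zero, fun h => h1 ⟨1, h⟩⟩
  have : ¬ Function.Surjective fun a : K => a + δ * a⁻¹ := fun h => ha (by
    have := Finite.injective_iff_surjective.mpr h (a₁ := a) (a₂ := δ * a⁻¹) (by field_simp; ring)
    field_simp at this
    linear_combination this)
  simp only [Function.Surjective, not_forall, not_exists] at this
  obtain ⟨s, hs⟩ := this
  refine ⟨s, fun h => hs 0 (by simp [h]), fun r hr => ?_⟩
  have hr0 : r ≠ 0 := by rintro rfl; apply hδ; linear_combination hr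
  apply hs r
  field_simp
  linear_combination hr

end Cfsg.Agent.Ore
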