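import Cfsg.Agent.Ore.Mix
import Cfsg.Agent.Polar.Count

/-!
Hyperbolic families, Levi elements and their action on unipotent radicals.
-/

set_option autoImplicit false

open Polynomial Module Matrix

namespace Cfsg.Agent.Ore

open Cfsg.Agent.GLn Cfsg.Agent.Fac Cfsg.Agent.Forms Cfsg.Agent.Polar Cfsg.Agent.Polar.PQ

theorem exists_conj_of_fpf {G : Type*} [Group G] (U : Subgroup G) [Finite U] {x : G}
    (hx : ∀ u ∈ U, x * u * x⁻¹ ∈ U) (hf : ∀ u ∈ U, u * x = x * u → u = 1) {u : G} (hu : u ∈ U) :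
    ∃ v ∈ U, u * x = v * x * v⁻¹ := by
  obtain ⟨v, hv⟩ := Finite.surjective_of_injective
    (f := fun v : U => (⟨v * (x * (v : G)⁻¹ * x⁻¹), U.mul_mem v.2 (hx _ (U.inv_mem v.2))⟩ : U))
    (fun v w h => by
      have h1 : (v : G) * (x * (v : G)⁻¹ * x⁻¹) = w * (x * (w : G)⁻¹ * x⁻¹) := congrArg Subtype.val h
      have := hf _ (U.mul_mem (U.inv_mem w.2) v.2) (by
        calc (w : G)⁻¹ * v * x = (w : G)⁻¹ * (v * (x * (v : G)⁻¹ * x⁻¹)) * x * v := by group
          _ = _ := by rw [h1]; group)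
      exact Subtype.ext (inv_mul_eq_one.mp this).symm) ⟨u, hu⟩
  have h1 : (v : G) * (x * (v : G)⁻¹ * x⁻¹) = u := congrArg Subtype.val hv
  exact ⟨v, v.2, by rw [← h1]; group⟩

theorem aeval_intertwine {K : Type*} [Field K] {V W : Type*} [AddCommGroup V] [Module K V]
    [AddCommGroup W] [Module K W] {S : End K V} {T : End K W} (φ : V →ₗ[K] W)
    (h : ∀ v, φ (S v) = T (φ v)) (q : K[X]) (v : V) : φ (aeval S q v) = aeval T q (φ v) := by
  induction q using Polynomial.induction_on generalizing v with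
  | C a => simp
  | add p q hp hq => simp [hp, hq]
  | monomial n a ih =>
    rw [pow_succ, ← mul_assoc, map_mul (aeval S), map_mul (aeval T), Module.End.mul_apply,
      Module.End.mul_apply, ih, aeval_X, aeval_X, h]

variable {F : Type*} [Field F] {τ : F →+* F}

section Dual
variable {ι : Type*} [Fintype ι] [DecidableEq ι]

theorem exists_dualM (hτ : ∀ a, τ (τ a) = a) {A : Matrix ι ι F} (h : A.det ≠ 0) :
    ∃ D : Matrix ι ι F, Aᵀ * D.map τ = 1 :=
  ⟨(Aᵀ⁻¹).map τ, by
    rw [Matrix.map_map, show (τ ∘ τ : F → F) = id from funext hτ, Matrix.map_id,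
      Matrix.mul_nonsing_inv _ (by simpa using h)]⟩

omit [DecidableEq ι] in
theorem dualM_symm (hτ : ∀ a, τ (τ a) = a) {κ : Type*} [DecidableEq κ] {A D : Matrix ι κ F}
    (h : Aᵀ * D.map τ = 1) : Dᵀ * A.map τ = 1 := by
  ext i j
  have := congrArg τ (congrFun (congrFun h j) i)
  simp only [mul_apply, transpose_apply, map_apply, map_sum, map_mul, hτ, one_apply] at this ⊢
  rw [Finset.sum_congr rfl fun k _ => mul_comm _ _, this]
  by_cases h : i = j <;> simp [h, eq_comm]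

theorem dualM_det {A D : Matrix ι ι F} (h : Aᵀ * D.map τ = 1) : A.det * τ D.det = 1 := by
  have := congrArg det h
  rwa [det_mul, det_transpose, det_one, show D.map τ = τ.mapMatrix D from rfl,
    ← RingHom.map_det] at this

theorem dualM_unique {A D D' : Matrix ι ι F} (h : Aᵀ * D.map τ = 1) (h' : Aᵀ * D'.map τ = 1) :
    D = D' := by
  have : D.map τ = D'.map τ := (inv_eq_right_inv h).symm.trans (inv_eq_right_inv h')
  ext i j
  exact τ.injective (congrFun (congrFun this i) j)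

theorem charpoly_dualM (hτ : ∀ a, τ (τ a) = a) {A D : Matrix ι ι F} (h : Aᵀ * D.map τ = 1) :
    D.charpoly = dualP τ A.charpoly := by
  have h1 := dualM_symm hτ h
  have h2 : τ A.det ≠ 0 := right_ne_zero_of_mul_eq_one (dualM_det h1)
  have h3 : (A.map τ).det = τ A.det := (RingHom.map_det τ A).symm
  rw [← charpoly_transpose D, ← inv_eq_left_inv h1, charpoly_inv _ ((isUnit_iff_isUnit_det _).mpr
    (by simpa [h3] using h2)), dualP, ← charpoly_map, reverse_charpoly, h3,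
    det_eq_sign_charpoly_coeff A]
  congr 1
  rw [Ring.inverse_eq_inv', map_mul, mul_inv, map_mul, ← mul_assoc, map_pow, map_neg, map_one,
    ← inv_pow, inv_neg_one, map_pow, map_neg, map_one, ← mul_pow]
  simp

end Dual

variable {π : Polar.FP F τ} {V : Type*} [AddCommGroup V] [Module F V] {P : PQ π V}
variable {ι κ : Type*} [Fintype ι] [Fintype κ]

/-- Linear combinations of a family. -/
abbrev lc (e : ι → V) : (ι → F) →ₗ[F] V := Fintype.linearCombination F e

variable (P) in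
/-- Inner products with a family. -/
def co (f : ι → V) : V →ₗ[F] ι → F := LinearMap.pi fun i => P.B.flip (f i)

omit [Fintype ι] in
theorem co_apply (f : ι → V) (v : V) (i : ι) : co P f v i = P.B v (f i) := rfl

theorem B_lc (f : ι → V) (v : V) (b : ι → F) : P.B v (lc f b) = co P f v ⬝ᵥ (τ ∘ b) := by
  simp [Fintype.linearCombination_apply, dotProduct, co_apply, mul_comm]

theorem B_lc_left (e : ι → V) (a : ι → F) (v : V) : P.B (lc e a) v = ∑ i, a i * P.B (e i) v := by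
  simp [Fintype.linearCombination_apply]

theorem lc_smul (e : ι → V) (c : F) (a : ι → F) : lc (c • e) a = c • lc e a := by
  simp [Fintype.linearCombination_apply, Finset.smul_sum, smul_comm c]

omit [Fintype ι] in
theorem co_eps (e : ι → V) (v : V) : co P (π.ε • e) v = π.ε • co P e v := by
  ext i; simp [co_apply, π.tau_eps]

/-- The family obtained by applying a matrix. -/
def fm (e : ι → V) (S : Matrix ι κ F) : κ → V := fun j => lc e (Sᵀ j)

theorem lc_fm (e : ι → V) (S : Matrix ι κ F) (a : κ → F) : lc (fm e S) a = lc e (S *ᵥ a) := by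
  rw [mulVec_eq_sum, map_sum, Fintype.linearCombination_apply]
  simp [fm]

theorem act_lc (x : P.Iso) (e : ι → V) (a : ι → F) : x • lc e a = lc (fun i => x • e i) a := by
  simp [Fintype.linearCombination_apply, Finset.smul_sum, act_smul]

variable (P) in
/-- The orthogonal complement of two families. -/
def Wp (e f : ι → V) : Submodule F V where
  carrier := {w | co P e w = 0 ∧ co P f w = 0}
  add_mem' ha hb := ⟨by simp [ha.1, hb.1], by simp [ha.2, hb.2]⟩
  zero_mem' := ⟨by simp, by simp⟩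
  smul_mem' c w ha := ⟨by simp [ha.1], by simp [ha.2]⟩

omit [Fintype ι] in
theorem mem_Wp {e f : ι → V} {w : V} : w ∈ Wp P e f ↔ co P e w = 0 ∧ co P f w = 0 := Iff.rfl

omit [Fintype ι] in
theorem mem_Wp' {e f : ι → V} {w : V} :
    w ∈ Wp P e f ↔ (∀ i, P.B w (e i) = 0) ∧ ∀ i, P.B w (f i) = 0 := by
  simp [mem_Wp, funext_iff, co_apply]

omit [Fintype ι] in
theorem Wp_swap (e f : ι → V) : Wp P f (π.ε • e) = Wp P e f := by
  ext w; simp [mem_Wp, co_eps, π.eps_ne_zero, and_comm]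

omit [Fintype κ] in
theorem Wp_le_fm (e f : ι → V) (S T : Matrix ι κ F) : Wp P e f ≤ Wp P (fm e S) (fm f T) :=
  fun w hw => mem_Wp'.mpr ⟨fun i => by simp [fm, B_lc, hw.1], fun i => by simp [fm, B_lc, hw.2]⟩

theorem sing_lc {e : ι → V} (h1 : ∀ i, P.Sing (e i)) (h2 : ∀ i j, P.B (e i) (e j) = 0)
    (a : ι → F) : P.Sing (lc e a) := by
  classical
  rw [Fintype.linearCombination_apply]
  refine Finset.induction_on (motive := fun s => P.Sing (∑ i ∈ s, a i • e i)) Finset.univ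
    (by simpa using sing_zero) fun i s hi ih => ?_
  rw [Finset.sum_insert hi]
  exact ((h1 i).smul _).add ih (by simp [h2])

variable [DecidableEq ι] [DecidableEq κ]

variable (P) in
/-- Hyperbolic families. -/
structure HF (e f : ι → V) : Prop where
  se : ∀ i, P.Sing (e i)
  sf : ∀ i, P.Sing (f i)
  ee : ∀ i j, P.B (e i) (e j) = 0
  ff : ∀ i j, P.B (f i) (f j) = 0
  ef : ∀ i j, P.B (e i) (f j) = if i = j then 1 else 0

variable (P) in
/-- Elements of the Levi subgroup. -/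
structure Lev (x : P.Iso) (e f : ι → V) (A D : Matrix ι ι F) : Prop where
  l : ∀ a, x • lc e a = lc e (A *ᵥ a)
  r : ∀ b, x • lc f b = lc f (D *ᵥ b)
  w : ∀ w ∈ Wp P e f, x • w = w

theorem lc_single (e : ι → V) (i : ι) : lc (F := F) e (Pi.single i 1) = e i := by simp

variable {e f : ι → V} {x y : P.Iso} {A D A' D' : Matrix ι ι F}

omit [DecidableEq ι] in
theorem Lev.swap (h : Lev P x e f A D) : Lev P x f (π.ε • e) D A :=
  ⟨h.r, fun a => by rw [lc_smul, lc_smul, act_smul, h.l], Wp_swap (P := P) e f ▸ h.w⟩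

omit [DecidableEq ι] in
theorem Lev.mul (h : Lev P x e f A D) (h' : Lev P y e f A' D') :
    Lev P (x * y) e f (A * A') (D * D') :=
  ⟨fun a => by rw [mul_smul, h'.l, h.l, mulVec_mulVec],
    fun a => by rw [mul_smul, h'.r, h.r, mulVec_mulVec],
    fun w hw => by rw [mul_smul, h'.w w hw, h.w w hw]⟩

theorem Lev.one : Lev P 1 e f 1 1 := ⟨by simp, by simp, by simp⟩

namespace HF
variable (h : HF P e f)
include h

omit [Fintype ι] in
theorem swap : HF P f (π.ε • e) :=
  ⟨h.sf, fun i => (h.se i).smul _, h.ff, fun i j => by simp [h.ee], fun i j => by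
    rw [Pi.smul_apply, B_smul_right, P.symm, h.ef, π.tau_eps, π.eps_mul_eps]
    by_cases h : i = j <;> simp [h, eq_comm]⟩

omit [Fintype ι] in
theorem hyp (i : ι) : P.Hyp (e i) (f i) := ⟨h.se i, h.sf i, by simp [h.ef]⟩

theorem co_ee (a : ι → F) : co P e (lc e a) = 0 := by ext i; simp [co_apply, B_lc_left, h.ee]

theorem co_ff (a : ι → F) : co P f (lc f a) = 0 := h.swap.co_ee a

theorem co_fe (a : ι → F) : co P f (lc e a) = a := by ext i; simp [co_apply, B_lc_left, h.ef]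

theorem co_ef (a : ι → F) : co P e (lc f a) = π.ε • a := by
  have := congrArg (π.ε • ·) (h.swap.co_fe a)
  simpa [co_eps, smul_smul, π.eps_sq] using this

theorem decomp (v : V) : v - lc e (co P f v) - lc f (π.ε • co P e v) ∈ Wp P e f :=
  ⟨by simp [h.co_ee, h.co_ef, smul_smul, π.eps_sq], by simp [h.co_fe, h.co_ff]⟩

theorem exists_decomp (v : V) : ∃ a b : ι → F, ∃ w ∈ Wp P e f, v = lc e a + w + lc f b :=
  ⟨_, _, _, h.decomp v, by abel⟩

theorem iso_ext (h1 : ∀ a : ι → F, x • lc e a = y • lc e a)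
    (h2 : ∀ a : ι → F, x • lc f a = y • lc f a)
    (h3 : ∀ w ∈ Wp P e f, x • w = y • w) : x = y := PQ.iso_ext fun v => by
  obtain ⟨a, b, w, hw, rfl⟩ := h.exists_decomp v
  simp only [smul_add, h1, h2, h3 w hw]

theorem iso_ext' (h1 : ∀ i, x • e i = y • e i) (h2 : ∀ i, x • f i = y • f i)
    (h3 : ∀ w ∈ Wp P e f, x • w = y • w) : x = y :=
  h.iso_ext (by simp only [act_lc, h1, implies_true]) (by simp only [act_lc, h2, implies_true]) h3

theorem B_combo {w w' : V} (hw : w ∈ Wp P e f) (hw' : w' ∈ Wp P e f) (a b a' b' : ι → F) :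
    P.B (lc e a + w + lc f b) (lc e a' + w' + lc f b') =
      a ⬝ᵥ (τ ∘ b') + P.B w w' + π.ε * (b ⬝ᵥ (τ ∘ a')) := by
  have e1 : P.B (lc e a) w' = 0 := B_swap_zero (by simp [B_lc, hw'.1])
  have e2 : P.B (lc f b) w' = 0 := B_swap_zero (by simp [B_lc, hw'.2])
  rw [map_add (P.B _), map_add (P.B _), B_lc, B_lc]
  simp [h.co_ee, h.co_ef, h.co_fe, h.co_ff, hw.1, hw.2, e1, e2]
  ring

theorem QEq_combo {w : V} (hw : w ∈ Wp P e f) (a b : ι → F) :
    P.QEq (lc e a + w + lc f b) (P.Q w + a ⬝ᵥ (τ ∘ b)) := by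
  have e1 : P.B (lc e a) w = 0 := B_swap_zero (by simp [B_lc, hw.1])
  refine ((QEq.add (sing_lc h.se h.ee a) (QEq.self w)).add (sing_lc h.sf h.ff b)).congr ?_
  rw [B_lc]
  simp [e1, h.co_fe, hw.2]

theorem exists_mv [FiniteDimensional F V] (hP : P.ND) {e' f' : ι → V} (h' : HF P e' f')
    (hW : Wp P e f ≤ Wp P e' f') : ∃ x : P.Iso, (∀ a : ι → F, x • lc e a = lc e' a) ∧
      (∀ a : ι → F, x • lc f a = lc f' a) ∧ ∀ w ∈ Wp P e f, x • w = w := by
  let L : V →ₗ[F] V := lc e' ∘ₗ co P f + (LinearMap.id - lc e ∘ₗ co P f - lc f ∘ₗ (π.ε • co P e)) +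
    lc f' ∘ₗ (π.ε • co P e)
  have hL : ∀ a b : ι → F, ∀ w ∈ Wp P e f, L (lc e a + w + lc f b) = lc e' a + w + lc f' b := by
    intro a b w hw
    simp [L, h.co_ee, h.co_ef, h.co_fe, h.co_ff, hw.1, hw.2, smul_smul, π.eps_sq]
    abel
  obtain ⟨x, hx⟩ := exists_iso hP L (fun u v => by
      obtain ⟨a, b, w, hw, rfl⟩ := h.exists_decomp u
      obtain ⟨a', b', w', hw', rfl⟩ := h.exists_decomp v
      rw [hL _ _ _ hw, hL _ _ _ hw', h.B_combo hw hw', h'.B_combo (hW hw) (hW hw')])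
    fun u => by
      obtain ⟨a, b, w, hw, rfl⟩ := h.exists_decomp u
      rw [hL _ _ _ hw]
      exact (h'.QEq_combo (hW hw) a b).of_sub_mem ((h.QEq_combo hw a b).sub_mem (QEq.self _))
  exact ⟨x, fun a => by simpa [hx] using hL a 0 0 (zero_mem _),
    fun a => by simpa [hx] using hL 0 a 0 (zero_mem _), fun w hw => by simpa [hx] using hL 0 0 w hw⟩

theorem exists_mv' [FiniteDimensional F V] (hP : P.ND) {e' f' : ι → V} (h' : HF P e' f')
    (hW : Wp P e f ≤ Wp P e' f') : ∃ x : P.Iso, (∀ i, x • e i = e' i) ∧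
      (∀ i, x • f i = f' i) ∧ ∀ w ∈ Wp P e f, x • w = w := by
  obtain ⟨x, h1, h2, h3⟩ := h.exists_mv hP h' hW
  exact ⟨x, fun i => by simpa using h1 (Pi.single i 1), fun i => by simpa using h2 (Pi.single i 1),
    h3⟩

omit [Fintype κ] in
theorem fm {S T : Matrix ι κ F} (hS : Sᵀ * T.map τ = 1) : HF P (fm e S) (fm f T) :=
  ⟨fun _ => sing_lc h.se h.ee _, fun _ => sing_lc h.sf h.ff _,
    fun i j => by simp [Ore.fm, B_lc, h.co_ee], fun i j => by simp [Ore.fm, B_lc, h.co_ff],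
    fun i j => by
      rw [Ore.fm, Ore.fm, B_lc, h.co_fe, ← one_apply, ← hS]; rfl⟩

theorem exists_lev [FiniteDimensional F V] (hP : P.ND) (hA : Aᵀ * D.map τ = 1) :
    ∃ x, Lev P x e f A D := by
  obtain ⟨x, h1, h2, h3⟩ := h.exists_mv hP (h.fm hA) (Wp_le_fm _ _ _ _)
  exact ⟨x, fun a => by rw [h1, lc_fm], fun a => by rw [h2, lc_fm], h3⟩

theorem exists_lev' [FiniteDimensional F V] (hP : P.ND) (hA : A.det ≠ 0) :
    ∃ x D, Lev P x e f A D := by
  obtain ⟨D, hD⟩ := exists_dualM π.tau_tau hA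
  obtain ⟨x, hx⟩ := h.exists_lev hP hD
  exact ⟨x, D, hx⟩

theorem dual (hx : Lev P x e f A D) : Aᵀ * D.map τ = 1 := by
  ext i j
  have := B_smul_smul x (lc (F := F) e (Pi.single i 1)) (lc (F := F) f (Pi.single j 1))
  rw [hx.l, hx.r, B_lc, h.co_fe, lc_single, lc_single, h.ef] at this
  rw [one_apply, ← this]
  simp [mul_apply, dotProduct]

theorem lev_unique (hx : Lev P x e f A D) (hy : Lev P y e f A D') : x = y := by
  obtain rfl := dualM_unique (h.dual hx) (h.dual hy)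
  exact h.iso_ext (fun a => by rw [hx.l, hy.l]) (fun a => by rw [hx.r, hy.r])
    fun w hw => by rw [hx.w w hw, hy.w w hw]

theorem co_lev (hx : Lev P x e f A D) (v : V) : co P f (x • v) = A *ᵥ co P f v := by
  obtain ⟨a, b, w, hw, rfl⟩ := h.exists_decomp v
  simp [hx.l, hx.r, hx.w w hw, h.co_fe, h.co_ff, hw.2]

theorem conj_lev [FiniteDimensional F V] (hP : P.ND) {e' f' : ι → V} (h' : HF P e' f')
    (hW : Wp P e f ≤ Wp P e' f') (hx : Lev P x e f A D) (hy : Lev P y e' f' A D') : IsConj x y := by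
  obtain rfl := dualM_unique (h.dual hx) (h'.dual hy)
  obtain ⟨k, h1, h2, h3⟩ := h.exists_mv hP h' hW
  refine isConj_iff.mpr ⟨k, mul_inv_eq_iff_eq_mul.mpr (h.iso_ext (fun a => ?_) (fun a => ?_)
    fun w hw => ?_)⟩
  · rw [mul_smul, mul_smul, hx.l, h1, h1, hy.l]
  · rw [mul_smul, mul_smul, hx.r, h2, h2, hy.r]
  · rw [mul_smul, mul_smul, hx.w w hw, h3 w hw, hy.w w (hW hw)]

theorem change (hx : Lev P x e f A D) {C : Matrix κ κ F} (hs : Sim (toLin' C) (toLin' A)) :
    ∃ (e' f' : κ → V) (D' : Matrix κ κ F), HF P e' f' ∧ Lev P x e' f' C D' ∧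
      Wp P e f = Wp P e' f' := by
  obtain ⟨φ, hφ⟩ := sim_iff.mp hs
  let S := LinearMap.toMatrix' φ.toLinearMap
  let S' := LinearMap.toMatrix' φ.symm.toLinearMap
  have e1 : S' * S = 1 := by rw [← LinearMap.toMatrix'_comp]; simp
  have e2 : S * S' = 1 := by rw [← LinearMap.toMatrix'_comp]; simp
  have e3 : S * C = A * S := toLin'.injective (LinearMap.ext fun v => by
    simpa [S, ← mulVec_mulVec, LinearMap.toMatrix'_mulVec] using hφ v)
  let T : Matrix ι κ F := S'ᵀ.map τ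
  let T' : Matrix κ ι F := Sᵀ.map τ
  have e4 : Sᵀ * T.map τ = 1 := by
    rw [Matrix.map_map, show (τ ∘ τ : F → F) = id from funext π.tau_tau, Matrix.map_id,
      ← transpose_mul, e1, transpose_one]
  have e5 : T * T' = 1 := by
    rw [← Matrix.map_mul, ← transpose_mul, e2, transpose_one]; simp
  have hW : Wp P e f = Wp P (Ore.fm e S) (Ore.fm f T) := le_antisymm (Wp_le_fm _ _ _ _) (by
    have := Wp_le_fm (P := P) (Ore.fm e S) (Ore.fm f T) S' T'
    convert this using 2 <;> ext i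
    · rw [Ore.fm, lc_fm, ← lc_single (F := F) e i]; congr 1
      ext j; rw [Pi.single_apply, ← one_apply, ← e2]; rfl
    · rw [Ore.fm, lc_fm, ← lc_single (F := F) f i]; congr 1
      ext j; rw [Pi.single_apply, ← one_apply, ← e5]; rfl)
  refine ⟨_, _, T' * D * T, h.fm e4, ⟨fun a => ?_, fun a => ?_, hW ▸ hx.w⟩, hW⟩
  · rw [lc_fm, lc_fm, hx.l, mulVec_mulVec, mulVec_mulVec, e3]
  · rw [lc_fm, lc_fm, hx.r, mulVec_mulVec, mulVec_mulVec, ← Matrix.mul_assoc, ← Matrix.mul_assoc,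
      e5, Matrix.one_mul]

theorem conj_sim [FiniteDimensional F V] (hP : P.ND) (hx : Lev P x e f A D) (hy : Lev P y e f A' D')
    (hs : Sim (toLin' A) (toLin' A')) : IsConj x y := by
  obtain ⟨e', f', D'', h1, h2, h3⟩ := h.change hy hs
  exact h.conj_lev hP h1 h3.le hx h2

end HF

section Mixed
variable {κ' : Type*} [Fintype κ'] [DecidableEq κ'] {e f : κ ⊕ κ' → V}

omit [DecidableEq κ] [DecidableEq κ'] in
theorem lc_sum (e : κ → V) (e' : κ' → V) (a : κ ⊕ κ' → F) :
    lc (Sum.elim e e') a = lc e (a ∘ Sum.inl) + lc e' (a ∘ Sum.inr) := by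
  simp [Fintype.linearCombination_apply]

theorem HF.flip (h : HF P e f) {A D : Matrix κ κ F} {A' D' : Matrix κ' κ' F}
    (hx : Lev P x e f (fromBlocks A 0 0 A') (fromBlocks D 0 0 D')) :
    ∃ e' f' : κ ⊕ κ' → V, HF P e' f' ∧ Lev P x e' f' (fromBlocks A 0 0 D') (fromBlocks D 0 0 A') ∧
      Wp P e f = Wp P e' f' := by
  have hs := h.swap
  have l1 : ∀ (e : κ ⊕ κ' → V) (a : κ → F), lc (e ∘ Sum.inl) a = lc e (Sum.elim a 0) :=
    fun e a => by simp [Fintype.linearCombination_apply]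
  have l2 : ∀ (e : κ ⊕ κ' → V) (a : κ' → F), lc (e ∘ Sum.inr) a = lc e (Sum.elim 0 a) :=
    fun e a => by simp [Fintype.linearCombination_apply]
  have hW : Wp P e f = Wp P (Sum.elim (e ∘ Sum.inl) (f ∘ Sum.inr))
      (Sum.elim (f ∘ Sum.inl) ((π.ε • e) ∘ Sum.inr)) := by
    ext w
    simp only [mem_Wp', Sum.forall, Sum.elim_inl, Sum.elim_inr, Function.comp_apply, Pi.smul_apply,
      B_smul_right, π.tau_eps, mul_eq_zero, π.eps_ne_zero, false_or]
    tauto
  refine ⟨_, _, ⟨?_, ?_, ?_, ?_, ?_⟩, ⟨fun a => ?_, fun a => ?_, hW ▸ hx.w⟩, hW⟩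
  · rintro (i | i) <;> simp [h.se, h.sf]
  · rintro (i | i)
    · exact h.sf _
    · exact hs.sf _
  · rintro (i | i) (j | j)
    · exact h.ee _ _
    · simp [h.ef]
    · exact B_swap_zero (by simp [h.ef])
    · exact h.ff _ _
  · rintro (i | i) (j | j)
    · exact h.ff _ _
    · simpa using hs.ef (.inl i) (.inr j)
    · simp [h.ef]
    · exact hs.ff _ _
  · rintro (i | i) (j | j)
    · simp [h.ef]
    · simp [h.ee]
    · simp [h.ff]
    · simpa using hs.ef (.inr i) (.inr j)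
  · rw [lc_sum, lc_sum, l1, l1, l2, l2, smul_add, hx.l, hx.r]
    simp [fromBlocks_mulVec]
  · rw [lc_sum, lc_sum, l1, l1, l2, l2, smul_add, hx.swap.r, hx.r]
    simp [fromBlocks_mulVec]

end Mixed

theorem sim_of_separable {A : Matrix ι ι F} {C : Matrix κ κ F} (h : A.charpoly.Separable)
    (h' : C.charpoly = A.charpoly) : Sim (toLin' C) (toLin' A) :=
  sim_of_nd (nd_of_separable (by rwa [charpoly_toLin', h'])) (nd_of_separable (by
    rwa [charpoly_toLin'])) (by rw [charpoly_toLin', charpoly_toLin', h'])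
    (simple_of_separable (by rwa [charpoly_toLin', h']))

theorem HF.conj_mix [FiniteDimensional F V] (h : HF P e f) (hP : P.ND) (hx : Lev P x e f A D)
    (hy : Lev P y e f A' D') {g k : F[X]} (hg : g.Monic) (hk : k.Monic) (h1 : A.charpoly = g * k)
    (h2 : A'.charpoly = g * dualP τ k) (s1 : A.charpoly.Separable) (s2 : A'.charpoly.Separable) :
    IsConj x y := by
  obtain ⟨C₁, -, -, -, c1⟩ := exists_semisimple_matrix (n := Fin g.natDegree) hg (by simp)
  obtain ⟨C₂, -, -, -, c2⟩ := exists_semisimple_matrix (n := Fin k.natDegree) hk (by simp)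
  have a0 := left_ne_zero_of_mul_eq_one (dualM_det (h.dual hx))
  rw [det_eq_sign_charpoly_coeff, h1, mul_coeff_zero] at a0
  have d2 : C₂.det ≠ 0 := by
    rw [det_eq_sign_charpoly_coeff, c2]; simp_all
  have d1 : C₁.det ≠ 0 := by
    rw [det_eq_sign_charpoly_coeff, c1]; simp_all
  obtain ⟨D₁, k1⟩ := exists_dualM π.tau_tau d1
  obtain ⟨D₂, k2⟩ := exists_dualM π.tau_tau d2
  obtain ⟨e₁, f₁, E₁, a1, a2, a3⟩ := h.change hx (C := fromBlocks C₁ 0 0 C₂)
    (sim_of_separable s1 (by rw [charpoly_fromBlocks_zero₁₂, c1, c2, h1]))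
  obtain ⟨e₂, f₂, E₂, b1, b2, b3⟩ := h.change hy (C := fromBlocks C₁ 0 0 D₂)
    (sim_of_separable s2 (by rw [charpoly_fromBlocks_zero₁₂, c1, charpoly_dualM π.tau_tau k2, c2, h2]))
  obtain rfl : E₂ = fromBlocks D₁ 0 0 C₂ := dualM_unique (b1.dual b2) (by
    rw [fromBlocks_transpose, fromBlocks_map, fromBlocks_multiply, k1, dualM_symm π.tau_tau k2]
    simp)
  obtain ⟨e₃, f₃, c1, c2, c3⟩ := b1.flip b2
  exact a1.conj_lev hP c1 (by rw [← a3, b3, c3]) a2 c2

end Cfsg.Agent.Ore
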