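import Cfsg.Agent.Fac.Three
import Cfsg.Agent.Forms.Dual

/-!
Factorisations `M = X B⁻¹` with prescribed characteristic polynomials; block Schur complements.
-/

set_option autoImplicit false

open Polynomial Module

namespace Cfsg.Agent.Ore

open Cfsg.Agent.GLn Cfsg.Agent.Fac Cfsg.Agent.Forms

universe u

section General
variable {K : Type*} [Field K] {V E W : Type*} [AddCommGroup V] [Module K V] [AddCommGroup E]
  [Module K E] [AddCommGroup W] [Module K W]

/-- `M` is the identity or not scalar. -/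
def NS (M : End K V) : Prop := ∀ c : K, M = c • 1 → c = 1

/-- Block `LU` decomposition. -/
def Spl (M : End K V) (M₁ : End K E) (M₂ : End K W) : Prop :=
  ∃ (Y : E →ₗ[K] W) (Z : W →ₗ[K] E),
    Sim M (Fac.blk M₁ (M₁ ∘ₗ Z) (Y ∘ₗ M₁) (M₂ + Y ∘ₗ M₁ ∘ₗ Z))

/-- The Schur complement of a compression. -/
def bsch (M : End K V) (i : E →ₗ[K] V) (p : V →ₗ[K] E) (N : End K E)
    (h : ∀ x, p (M (i (N x))) = x) : End K (LinearMap.ker p) :=
  LinearMap.codRestrict _ (M ∘ₗ (LinearMap.ker p).subtype -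
    M ∘ₗ i ∘ₗ N ∘ₗ p ∘ₗ M ∘ₗ (LinearMap.ker p).subtype) (fun u => by simp [h])

theorem bsch_val (M : End K V) (i : E →ₗ[K] V) (p : V →ₗ[K] E) (N : End K E)
    (h : ∀ x, p (M (i (N x))) = x) (w : LinearMap.ker p) :
    (bsch M i p N h w : V) = M w - M (i (N (p (M w)))) := rfl

theorem spl_bsch (M : End K V) (i : E →ₗ[K] V) (p : V →ₗ[K] E) (N : End K E)
    (hp : ∀ x, p (i x) = x) (h : ∀ x, p (M (i (N x))) = x) (h' : ∀ x, N (p (M (i x))) = x) :
    Spl M (p ∘ₗ M ∘ₗ i) (bsch M i p N h) := by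
  let r : V →ₗ[K] LinearMap.ker p :=
    LinearMap.codRestrict _ (LinearMap.id - i ∘ₗ p) (fun u => by simp [hp])
  have hr : ∀ x, (r x : V) = x - i (p x) := fun _ => rfl
  let e : V ≃ₗ[K] E × LinearMap.ker p :=
    LinearEquiv.ofLinearMap (p.prod r) (i.coprod (LinearMap.ker p).subtype)
      (LinearMap.ext fun x => by
        have := LinearMap.mem_ker.mp x.2.2
        refine Prod.ext ?_ (Subtype.ext ?_) <;> simp [hp, hr, this])
      (LinearMap.ext fun x => by simp [hr])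
  refine ⟨r ∘ₗ M ∘ₗ i ∘ₗ N, N ∘ₗ p ∘ₗ M ∘ₗ (LinearMap.ker p).subtype, sim_iff.mpr ⟨e, fun x => ?_⟩⟩
  have he : ∀ x, e x = (p x, r x) := fun _ => rfl
  rw [he, he]
  refine Prod.ext ?_ (Subtype.ext ?_)
  · simp [h, hr]
  · simp [h, h', hr, bsch_val]
    abel

theorem exists_proj {i : E →ₗ[K] V} (Z : Submodule K V) (h : ∀ x, i x ∈ Z → x = 0) :
    ∃ p : V →ₗ[K] E, (∀ x, p (i x) = x) ∧ ∀ z ∈ Z, p z = 0 := by
  obtain ⟨g, hg⟩ := (Z.mkQ ∘ₗ i).exists_leftInverse_of_injective (LinearMap.ker_eq_bot'.mpr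
    fun x hx => h x ((Submodule.Quotient.mk_eq_zero Z).mp hx))
  refine ⟨g ∘ₗ Z.mkQ, fun x => LinearMap.congr_fun hg x, fun z hz => ?_⟩
  simp [(Submodule.Quotient.mk_eq_zero Z).mpr hz]

variable [FiniteDimensional K V] [FiniteDimensional K E] [FiniteDimensional K W]

/-- `M = X B⁻¹` with `B`, `X` of characteristic polynomials `p`, `q`. -/
def FP (M : End K V) (p q : K[X]) : Prop :=
  ∃ B : End K V, B.charpoly = p ∧ (M * B).charpoly = q

theorem FP.of_sim {M : End K V} {N : End K W} {p q : K[X]} (h : FP M p q) (hs : Sim M N) :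
    FP N p q := by
  obtain ⟨B, h1, h2⟩ := h
  obtain ⟨e, rfl⟩ := hs
  refine ⟨e.conjAlgEquiv K B, ?_, ?_⟩
  · rw [← h1]; exact (Sim.charpoly ⟨e, rfl⟩).symm
  · rw [← h2, ← map_mul]; exact (Sim.charpoly ⟨e, rfl⟩).symm

theorem Spl.fp {M : End K V} {M₁ : End K E} {M₂ : End K W} (h : Spl M M₁ M₂) {p q p' q' : K[X]}
    (h₁ : FP M₁ p q) (h₂ : FP M₂ p' q') : FP M (p * p') (q * q') := by
  obtain ⟨Y, Z, hs⟩ := h
  obtain ⟨B₁, rfl, rfl⟩ := h₁
  obtain ⟨B₂, rfl, rfl⟩ := h₂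
  refine FP.of_sim ⟨Fac.blk B₁ (-(Z ∘ₗ B₂)) 0 B₂, charpoly_blk_upper _ _ _, ?_⟩ hs.symm
  rw [← charpoly_blk_lower _ (Y ∘ₗ M₁ ∘ₗ B₁)]
  congr 1
  exact LinearMap.ext fun x => by simp; abel

omit [FiniteDimensional K V] in
theorem Spl.det {M : End K V} {M₁ : End K E} {M₂ : End K W} (h : Spl M M₁ M₂) :
    LinearMap.det M = LinearMap.det M₁ * LinearMap.det M₂ := by
  obtain ⟨Y, Z, hs⟩ := h
  rw [hs.det]
  have h2 : Fac.blk M₁ (M₁ ∘ₗ Z) (Y ∘ₗ M₁) (M₂ + Y ∘ₗ M₁ ∘ₗ Z) =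
      Fac.blk M₁ 0 (Y ∘ₗ M₁) M₂ * Fac.blk 1 Z 0 1 :=
    LinearMap.ext fun x => by simp; abel
  rw [h2, map_mul, det_blk_lower, det_blk_upper]
  simp

omit [FiniteDimensional K V] in
theorem Spl.finrank {M : End K V} {M₁ : End K E} {M₂ : End K W} (h : Spl M M₁ M₂) :
    finrank K V = finrank K E + finrank K W := by
  obtain ⟨Y, Z, hs⟩ := h
  rw [hs.finrank, finrank_prod]

variable (τ : K →+* K)

/-- `M = X B⁻¹` where `X` has characteristic polynomial `q = g h` and `B` has `g h^*`. -/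
def Mix (M : End K V) (q : K[X]) : Prop :=
  ∃ g h : K[X], g.Monic ∧ h.Monic ∧ q = g * h ∧ FP M (g * dualP τ h) q

variable {τ}

theorem Spl.mix {M : End K V} {M₁ : End K E} {M₂ : End K W} (h : Spl M M₁ M₂) {q q' : K[X]}
    (h₁ : Mix τ M₁ q) (h₂ : Mix τ M₂ q') : Mix τ M (q * q') := by
  obtain ⟨g, k, a1, a2, a3, a4⟩ := h₁
  obtain ⟨g', k', b1, b2, b3, b4⟩ := h₂
  refine ⟨g * g', k * k', a1.mul b1, a2.mul b2, by rw [a3, b3]; ring, ?_⟩
  convert h.fp a4 b4 using 1
  rw [dualP_mul]; ring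

theorem FP.mix {M : End K V} {q : K[X]} (h : FP M q q) : Mix τ M q := by
  obtain ⟨B, h1, h2⟩ := h
  exact ⟨q, 1, h1 ▸ B.charpoly_monic, monic_one, (mul_one _).symm, B, by
    rw [dualP_one, mul_one, h1], h2⟩

theorem FP.mix' {M : End K V} {q : K[X]} (h : FP M (dualP τ q) q) : Mix τ M q := by
  obtain ⟨B, h1, h2⟩ := h
  exact ⟨1, q, monic_one, h2 ▸ (M * B).charpoly_monic, (one_mul _).symm, B, by
    rw [one_mul, h1], h2⟩

theorem exists_charpoly {q : K[X]} (hq : q.Monic) (hd : q.natDegree = finrank K V) :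
    ∃ B : End K V, B.charpoly = q := by
  obtain ⟨A, -, -, -, hA⟩ := exists_semisimple_matrix (n := Fin (finrank K V)) hq (by simpa)
  let b := Module.finBasis K V
  exact ⟨Matrix.toLin b b A, by rw [← hA, ← LinearMap.charpoly_toMatrix _ b]; simp⟩

theorem mix_one {q : K[X]} (hq : q.Monic) (hd : q.natDegree = finrank K V) :
    Mix τ (1 : End K V) q := by
  obtain ⟨B, hB⟩ := exists_charpoly hq hd
  exact FP.mix ⟨B, hB, by rw [one_mul, hB]⟩

theorem charpoly_eq_of_irreducible {T : End K V} {f : K[X]} (hf : Irreducible f) (hm : f.Monic)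
    (hd : f.natDegree = finrank K V) {v : V} (hv : v ≠ 0) (h : aeval T f v = 0) :
    T.charpoly = f := by
  have : f ∣ T.charpoly := by
    by_contra h1
    obtain ⟨a, b, hab⟩ := hf.coprime_iff_not_dvd.mpr h1
    have := LinearMap.congr_fun (congrArg (aeval T) hab) v
    simp [LinearMap.aeval_self_charpoly, h] at this
    exact hv this.symm
  exact eq_of_monic_of_dvd_of_natDegree_le hm T.charpoly_monic this
    (by rw [hd, LinearMap.charpoly_natDegree])

end General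

section Peel
variable {K : Type u} [Field K]

theorem peel (d : ℕ) : ∀ (V : Type u) [AddCommGroup V] [Module K V] [FiniteDimensional K V]
    (M : End K V), d + 2 ≤ finrank K V → (∀ c : K, M ≠ c • 1) → LinearMap.det M ≠ 0 →
    ∃ (E : Type u) (_ : AddCommGroup E) (_ : Module K E) (_ : FiniteDimensional K E)
      (W : Type u) (_ : AddCommGroup W) (_ : Module K W) (_ : FiniteDimensional K W)
      (M₁ : End K E) (M₂ : End K W), finrank K E = d ∧ Spl M M₁ M₂ ∧ LinearMap.det M₁ = 1 ∧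
        (0 < d → NS M₁) ∧ ∀ c : K, M₂ ≠ c • 1 := by
  induction d with
  | zero =>
    intro V _ _ _ M _ hM _
    refine ⟨PUnit, _, _, inferInstance, V, _, _, inferInstance, 1, M,
      Module.finrank_zero_of_subsingleton, ⟨0, 0, ?_⟩, by simp,
      by simp, hM⟩
    exact sim_iff.mpr ⟨(LinearEquiv.uniqueProd (R := K) (M := V) (M₂ := PUnit.{u + 1})).symm,
      fun x => by simp [LinearEquiv.uniqueProd]⟩
  | succ d ih =>
    intro V _ _ _ M hd hM h0
    obtain ⟨v, φ, h1, h2, h3, h4⟩ := exists_schur_not_scalar (by omega) hM (injective_of_det h0)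
      one_ne_zero
    have hd' := finrank_ker_add_one v φ h1
    have e1 := det_schur M v φ h1 h2
    obtain ⟨E, _, _, _, W, _, _, _, M₁, M₂, k1, ⟨Y, Z, k2⟩, k3, -, k5⟩ :=
      ih _ (schur M v φ h2) (by omega) h4 (by rw [e1, h3, one_mul] at h0; exact h0)
    obtain ⟨e, he⟩ := sim_iff.mp k2
    let z : (E × W) →ₗ[K] K := φ ∘ₗ M ∘ₗ (LinearMap.ker φ).subtype ∘ₗ e.symm.toLinearMap
    let y : E × W := e (svec M v φ h1)
    let z1 : E →ₗ[K] K := z ∘ₗ LinearMap.inl K E W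
    let z2 : W →ₗ[K] K := z ∘ₗ LinearMap.inr K E W
    let y1 : K →ₗ[K] E := LinearMap.toSpanSingleton K E y.1
    let y2 : K →ₗ[K] W := LinearMap.toSpanSingleton K W y.2
    refine ⟨K × E, _, _, inferInstance, W, _, _, inferInstance,
      Fac.blk (sc 1) z1 y1 (M₁ + y1 ∘ₗ z1), M₂, by simp [k1, add_comm],
      ⟨(y2 - Y ∘ₗ y1).coprod Y, (z2 - z1 ∘ₗ Z).prod Z, ?_⟩, ?_, fun _ c hc => ?_, k5⟩
    · refine sim_iff.mpr ⟨((ssplit v φ h1).trans ((LinearEquiv.refl K K).prodCongr e)).trans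
        (LinearEquiv.prodAssoc K K E W).symm, fun x => ?_⟩
      have hx : x = φ x • v + (sproj v φ h1 x : V) := by simp
      set w := sproj v φ h1 x
      have a1 : φ (M x) = φ x + z (e w) := by
        conv_lhs => rw [hx]
        simp [z, h3]
      have a2 : sproj v φ h1 (M x) = schur M v φ h2 w + (φ x + z (e w)) • svec M v φ h1 := by
        apply Subtype.ext
        rw [sproj_val, a1]
        conv_lhs => rw [hx]
        simp [schur_val, z, h3, h1, add_smul, smul_sub]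
        abel
      have a3 : z (e w) = z1 (e w).1 + z2 (e w).2 := by
        simp only [z1, z2, LinearMap.comp_apply, ← map_add]; simp
      simp only [LinearEquiv.trans_apply, ssplit_apply, LinearEquiv.prodCongr_apply,
        LinearEquiv.refl_apply, a1, a2, map_add, he, map_smul]
      change ((_, _), _) = _
      rw [a3]
      refine Prod.ext (Prod.ext ?_ ?_) ?_
      · simp [LinearEquiv.prodAssoc]; abel
      · simp [LinearEquiv.prodAssoc, y1, y, add_smul, sub_smul]; abel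
      · simp [LinearEquiv.prodAssoc, y1, y2, y, add_smul, sub_smul]; abel
    · have : Spl (Fac.blk (sc (1 : K)) z1 y1 (M₁ + y1 ∘ₗ z1)) (sc (1 : K)) M₁ :=
        ⟨y1, z1, by convert Sim.refl _ using 2 <;> ext <;> simp⟩
      rw [this.det, det_sc, k3, one_mul]
    · have := congrArg Prod.fst (LinearMap.congr_fun hc (1, 0))
      simpa using this.symm

end Peel

end Cfsg.Agent.Ore
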