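import Cfsg.Agent.Ore.OutB

/-!
Every element of `Ω` is a commutator.
-/

set_option autoImplicit false

open Module

namespace Cfsg.Agent.Ore

open Cfsg.Agent.Forms Cfsg.Agent.Polar Cfsg.Agent.Polar.PQ

universe u

theorem iso_ext_fam {F : Type*} [Field F] {τ : F →+* F} {π : Polar.FP F τ} {V : Type*}
    [AddCommGroup V] [Module F V] {P : PQ π V} {κ : Type*} [Fintype κ] [Nonempty κ] {v : κ → V}
    (hv : LinearIndependent F v) (hκ : Fintype.card κ = finrank F V) {x y : P.Iso}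
    (h : ∀ i, x • v i = y • v i) : x = y :=
  PQ.iso_ext (LinearMap.congr_fun ((basisOfLinearIndependentOfCardEqFinrank hv hκ).ext
    (f₁ := x.1.toLinearMap) (f₂ := y.1.toLinearMap) fun i => by simpa [smul_def] using h i))

section
variable {F : Type*} [Field F] {V : Type*} [AddCommGroup V] [Module F V] {P : PQ (oFP F) V}

variable (P) in
/-- `g` fixes everything orthogonal to `S`. -/
def Fx (S : Set V) (g : P.Iso) : Prop := ∀ x, (∀ s ∈ S, P.B x s = 0) → g • x = x

variable (P) in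
/-- The commutator of `a`, `b` is `-1` on `S`. -/
def Ng (S : Set V) (a b : P.Iso) : Prop :=
  Fx P S a ∧ Fx P S b ∧ ∀ s ∈ S, (a * b * a⁻¹ * b⁻¹) • s = -s

theorem Fx.mul {S : Set V} {a b : P.Iso} (ha : Fx P S a) (hb : Fx P S b) : Fx P S (a * b) :=
  fun x hx => by rw [mul_smul, hb x hx, ha x hx]

theorem Fx.inv {S : Set V} {a : P.Iso} (ha : Fx P S a) : Fx P S a⁻¹ :=
  fun x hx => by rw [inv_smul_eq_iff, ha x hx]

theorem Fx.commute {S T : Set V} {a b : P.Iso} (ha : Fx P S a) (hb : Fx P T b)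
    (h : ∀ s ∈ S, ∀ t ∈ T, P.B s t = 0) : Commute a b := PQ.iso_ext fun v => by
  have h1 := hb (a • v - v) fun t ht => by
    rw [map_sub, LinearMap.sub_apply, B_act_left, ha.inv t fun s hs => B_swap_zero (h s hs t ht),
      sub_self]
  have h2 := ha (b • v - v) fun s hs => by
    rw [map_sub, LinearMap.sub_apply, B_act_left, hb.inv s (h s hs), sub_self]
  rw [smul_sub, sub_eq_iff_eq_add] at h1 h2
  rw [mul_smul, mul_smul, h1, h2]; abel

theorem Ng.union {S T : Set V} {a b c d : P.Iso} (h1 : Ng P S a b) (h2 : Ng P T c d)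
    (h : ∀ s ∈ S, ∀ t ∈ T, P.B s t = 0) : Ng P (S ∪ T) (a * c) (b * d) := by
  have k1 := (((h1.1.mul h1.2.1).mul h1.1.inv).mul h1.2.1.inv)
  have k2 := (((h2.1.mul h2.2.1).mul h2.1.inv).mul h2.2.1.inv)
  have e : a * c * (b * d) * (a * c)⁻¹ * (b * d)⁻¹ = a * b * a⁻¹ * b⁻¹ * (c * d * c⁻¹ * d⁻¹) := by
    have c1 := (h1.2.1.commute h2.1 h).eq
    have c2 := (h1.1.inv.commute ((h2.1.mul h2.2.1).mul h2.1.inv) h).eq
    have c3 := (h1.2.1.inv.commute k2 h).eq
    calc _ = a * (c * b) * d * c⁻¹ * a⁻¹ * d⁻¹ * b⁻¹ := by group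
      _ = a * b * (c * d * c⁻¹ * a⁻¹) * d⁻¹ * b⁻¹ := by rw [← c1]; group
      _ = a * b * a⁻¹ * (c * d * c⁻¹ * d⁻¹ * b⁻¹) := by rw [← c2]; group
      _ = _ := by rw [← c3]; group
  refine ⟨fun x hx => ?_, fun x hx => ?_, fun s hs => ?_⟩
  · rw [mul_smul, h2.1 x fun t ht => hx t (Or.inr ht), h1.1 x fun t ht => hx t (Or.inl ht)]
  · rw [mul_smul, h2.2.1 x fun t ht => hx t (Or.inr ht), h1.2.1 x fun t ht => hx t (Or.inl ht)]
  · rw [e, mul_smul]
    rcases hs with hs | hs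
    · rw [k2 s (h s hs), h1.2.2 s hs]
    · rw [h2.2.2 s hs, smul_neg, k1 s fun t ht => B_swap_zero (h t ht s hs)]

theorem ng_pair (h2 : (2 : F) ≠ 0) {u w : V} (hu : P.Q u = 1) (hw : P.Q w = 1) (h : P.B u w = 0) :
    Ng P {u, w} (P.reflect u * P.reflect (u - w)) (P.reflect u) ∧
    Ng P {u, w} (P.reflect (u - w)) (P.reflect u * P.reflect (u - w)) ∧
    Ng P {u, w} (P.reflect w) (P.reflect (u - w)) := by
  have h' := B_swap_zero h
  have q : P.Q (u - w) = 2 := by rw [o_Q_sub, hu, hw, h]; norm_num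
  have a1 : P.reflect u • u = -u := reflect_smul_self (by simp [hu])
  have a2 : P.reflect w • w = -w := reflect_smul_self (by simp [hw])
  have a3 : P.reflect u • w = w := reflect_smul_of_perp h'
  have a4 : P.reflect w • u = u := reflect_smul_of_perp h
  have a5 : P.reflect (u - w) • u = w := by simp [reflect_smul (q ▸ h2), q, o_B_self, hu, h, h2]
  have a6 : P.reflect (u - w) • w = u := by
    simp [reflect_smul (q ▸ h2), q, o_B_self, hw, neg_div, h', h2]
  have f1 : Fx P {u, w} (P.reflect u) := fun x hx => reflect_smul_of_perp (hx u (by simp))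
  have f2 : Fx P {u, w} (P.reflect w) := fun x hx => reflect_smul_of_perp (hx w (by simp))
  have f3 : Fx P {u, w} (P.reflect (u - w)) := fun x hx =>
    reflect_smul_of_perp (by simp [hx u (by simp), hx w (by simp)])
  refine ⟨⟨f1.mul f3, f1, ?_⟩, ⟨f3, f1.mul f3, ?_⟩, f2, f3, ?_⟩ <;>
    simp [mul_smul, reflect_inv, a1, a2, a3, a4, a5, a6]

variable [FiniteDimensional F V] [Finite F]

theorem exists_ng (h2 : (2 : F) ≠ 0) (hP : P.ND) (h5 : 5 ≤ finrank F V) (v : ℕ → V) (k : ℕ)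
    (hk : k ≠ 1) (h1 : ∀ i < 2 * k, P.Q (v i) = 1)
    (h0 : ∀ i < 2 * k, ∀ j < 2 * k, i ≠ j → P.B (v i) (v j) = 0) :
    ∃ a ∈ P.EG, ∃ b ∈ P.EG, Ng P (v '' {i | i < 2 * k}) a b := by
  obtain ⟨e, e0, e1⟩ := o_exists_sing P (by omega)
  obtain ⟨f, h⟩ := hP.exists_hyp e1 e0
  have key : ∀ {x y : V}, P.Q x ≠ 0 → P.Q x = P.Q y → P.reflect x * P.reflect y ∈ P.EG :=
    fun hx hy => reflect_mul_reflect_mem_EG (o_vTrans hP h5) hP h hx (hy ▸ hx) ⟨_, by rw [hy]⟩
  induction k using Nat.strong_induction_on with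
  | _ k ih =>
  have q : ∀ i < 2 * k, ∀ j < 2 * k, i ≠ j → P.Q (v i - v j) = 2 := fun i hi j hj h => by
    rw [o_Q_sub, h1 i hi, h1 j hj, h0 i hi j hj h]; norm_num
  have p := fun i (hi : i + 1 < 2 * k) => ng_pair h2 (h1 i (by omega)) (h1 _ hi)
    (h0 i (by omega) _ hi (by omega))
  obtain rfl | rfl | ⟨k, rfl, hk'⟩ : k = 0 ∨ k = 3 ∨ ∃ j, k = j + 2 ∧ j ≠ 1 := by
    by_cases h : k = 0 ∨ k = 3
    · exact h.imp_right Or.inl
    · exact Or.inr (Or.inr ⟨k - 2, by omega, by omega⟩)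
  · exact ⟨1, one_mem _, 1, one_mem _, by simp [Ng, Fx]⟩
  · refine ⟨_, ?_, _, ?_, (show v '' {i | i < 2 * 3} = {v 0, v 1} ∪ {v 2, v 3} ∪ {v 4, v 5} by
      rw [← Set.image_pair, ← Set.image_pair, ← Set.image_pair, ← Set.image_union,
        ← Set.image_union]
      congr 1; ext i; simp; omega) ▸ ((p 0 (by omega)).1.union (p 2 (by omega)).2.1
        (by simp [h0])).union (p 4 (by omega)).2.2 (by simp [or_imp, forall_and, h0])⟩
    · have := mul_mem (EG_normal.conj_mem _ (key (x := v 0 - v 1) (y := v 2 - v 3) (by simpa [q])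
        (by simp [q])) (P.reflect (v 0))) (key (x := v 0) (y := v 5) (by simp [h1]) (by simp [h1]))
      simpa [mul_assoc] using this
    · have := mul_mem (key (x := v 0) (y := v 2) (by simp [h1]) (by simp [h1]))
        (key (x := v 2 - v 3) (y := v 4 - v 5) (by simpa [q]) (by simp [q]))
      simpa [mul_assoc] using this
  · obtain ⟨a, ha, b, hb, h3⟩ := ih k (by omega) hk' (fun i hi => h1 i (by omega))
      fun i hi j hj => h0 i (by omega) j (by omega)
    refine ⟨_, mul_mem ha (key ?_ ?_), _, mul_mem hb (key ?_ ?_),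
      (show v '' {i | i < 2 * (k + 2)} = v '' {i | i < 2 * k} ∪
        ({v (2 * k), v (2 * k + 1)} ∪ {v (2 * k + 2), v (2 * k + 2 + 1)}) by
      rw [← Set.image_pair, ← Set.image_pair, ← Set.image_union, ← Set.image_union]
      congr 1; ext i; simp; omega) ▸ h3.union ((p (2 * k) (by omega)).2.2.union
        (p (2 * k + 2) (by omega)).2.2 ?_) ?_⟩
    · simp [h1 (2 * k + 1) (by omega)]
    · rw [h1 _ (by omega), h1 _ (by omega)]
    · rwa [q _ (by omega) _ (by omega) (by omega)]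
    · rw [q _ (by omega) _ (by omega) (by omega), q _ (by omega) _ (by omega) (by omega)]
    · rintro _ (rfl | rfl) _ (rfl | rfl) <;> exact h0 _ (by omega) _ (by omega) (by omega)
    · rintro _ ⟨i, hi, rfl⟩ _ ((rfl | rfl) | (rfl | rfl)) <;>
        exact h0 _ (by simp at hi; omega) _ (by omega) (by simp at hi; omega)

end

variable {F : Type u} [Field F] [Fintype F]
variable {V : Type*} [AddCommGroup V] [Module F V] [FiniteDimensional F V] {P : PQ (oFP F) V}

theorem o_central (hP : P.ND) (h7 : 7 ≤ finrank F V) {g : P.Iso} (hg : g ∈ P.EG)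
    (hn : ¬ NSi P g) : ∃ x ∈ P.EG, ∃ y ∈ P.EG, g = x * y * x⁻¹ * y⁻¹ := by
  rw [NSi, not_or] at hn
  push Not at hn
  obtain ⟨g1, ζ, hζ⟩ := hn
  have ζ1 : ζ ≠ 1 := by rintro rfl; exact g1 (PQ.iso_ext fun x => by simp [hζ])
  have : Nontrivial V := Module.nontrivial_of_finrank_pos (R := F) (by omega)
  obtain rfl : ζ = -1 := by
    obtain ⟨w, c, c0, hc⟩ := hP.exists_QEq_ne
    have := o_Q_act g w
    rw [hζ, o_Q_smul, o_QEq_iff.mp hc, mul_eq_right₀ c0] at this
    exact (sq_eq_one_iff.mp this).resolve_left ζ1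
  have h2 : (2 : F) ≠ 0 := fun h => ζ1 (by linear_combination -h)
  have hF : Odd (Fintype.card F) := Nat.odd_iff.mpr (FiniteField.odd_card_of_char_ne_two
    fun h => h2 ((ringChar.spec F 2).mpr (h ▸ dvd_rfl)))
  obtain ⟨k, hk⟩ : Even (finrank F V) := by
    have e1 := congrArg Units.val (MonoidHom.mem_ker.mp (EG_le_ker_det hg))
    have e2 : g.1.toLinearMap = (-1 : F) • LinearMap.id := LinearMap.ext hζ
    rw [coe_det, e2, LinearMap.det_smul] at e1
    exact (neg_one_pow_eq_one_iff_even ζ1).mp (by simpa using e1)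
  obtain ⟨k, rfl⟩ : ∃ j, k = j + 1 := ⟨k - 1, by omega⟩
  obtain ⟨v, hv, h1⟩ := exists_orthFam_const hF hP.pol_toQuad (c := 1) one_ne_zero
  have : Nonempty (Fin (finrank F V)) := ⟨⟨0, by omega⟩⟩
  let w : ℕ → V := fun i => if h : i < finrank F V then v ⟨i, h⟩ else 0
  have w0 : ∀ i < 2 * (k + 1), ∀ j < 2 * (k + 1), i ≠ j → P.B (w i) (w j) = 0 :=
    fun i hi j hj h => by
      simp only [w, dif_pos (show i < finrank F V by omega), dif_pos (show j < finrank F V by omega)]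
      exact (pol_toQuad _ _).symm.trans (hv.1 _ _ fun h' => h (Fin.mk.inj h'))
  have w1 : ∀ i < 2 * k + 1, P.Q (w i) = 1 := fun i hi => by
    simp only [w, dif_pos (show i < finrank F V by omega)]
    exact h1 _ (by simp; omega)
  have w2 : P.Q (w (2 * k + 1)) ≠ 0 := by
    simp only [w, dif_pos (show 2 * k + 1 < finrank F V by omega)]
    exact hv.2 _
  have ext : ∀ {x y : P.Iso}, (∀ i < 2 * (k + 1), x • w i = y • w i) → x = y := fun h =>
    iso_ext_fam (hv.linearIndependent h2) (by simp) fun i => by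
      simpa [w] using h i (by have := i.2; omega)
  obtain ⟨a, ha, b, hb, h3⟩ := exists_ng h2 hP (by omega) w k (by omega) (fun i hi => w1 i (by omega))
    fun i hi j hj => w0 i (by omega) j (by omega)
  have k1 := (((h3.1.mul h3.2.1).mul h3.1.inv).mul h3.2.1.inv)
  have e1 : g = a * b * a⁻¹ * b⁻¹ * (P.reflect (w (2 * k)) * P.reflect (w (2 * k + 1))) :=
    ext fun i hi => by
      rw [hζ, mul_smul, mul_smul (P.reflect _), neg_one_smul]
      by_cases h4 : i < 2 * k
      · rw [reflect_smul_of_perp (w0 _ hi _ (by omega) (by omega)),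
          reflect_smul_of_perp (w0 _ hi _ (by omega) (by omega)), h3.2.2 _ ⟨i, h4, rfl⟩]
      have h5 : (a * b * a⁻¹ * b⁻¹) • w i = w i := k1 _ (by
        rintro _ ⟨j, hj, rfl⟩; exact w0 _ hi _ (by simp at hj; omega) (by simp at hj; omega))
      obtain rfl | rfl : i = 2 * k ∨ i = 2 * k + 1 := by omega
      · rw [reflect_smul_of_perp (w0 _ hi _ (by omega) (by omega)),
          reflect_smul_self (by simp [w1]), smul_neg, h5]
      · rw [reflect_smul_self w2, smul_neg, reflect_smul_of_perp (w0 _ hi _ (by omega) (by omega)),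
          smul_neg, h5]
  obtain ⟨c, hc⟩ := (oInv_EG hP (by omega)).sq _ _ (by simp [w1]) w2
    ((mul_mem_cancel_left (mul_mem (mul_mem (mul_mem ha hb) (inv_mem ha)) (inv_mem hb))).mp
      (e1 ▸ hg))
  rw [w1 _ (by omega), one_mul] at hc
  have c0 : c ≠ 0 := by rintro rfl; simp [hc] at w2
  obtain ⟨x, hx, y, hy, h4⟩ := exists_ng h2 hP (by omega)
    (fun i => (if i = 2 * k + 1 then c⁻¹ else 1) • w i) (k + 1) (by omega) (fun i hi => by
      split_ifs with h
      · rw [h, o_Q_smul, hc]; field_simp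
      · rw [one_smul, w1 i (by omega)]) fun i hi j hj h => by
      rw [B_smul_left, B_smul_right, w0 i hi j hj h]; simp
  refine ⟨x, hx, y, hy, ext fun i hi => ?_⟩
  have := h4.2.2 _ ⟨i, hi, rfl⟩
  rw [act_smul, ← smul_neg, smul_right_inj (by split_ifs <;> simp [c0])] at this
  rw [this, hζ, neg_one_smul]

theorem o_ore (hP : P.ND) (h7 : 7 ≤ finrank F V) {g : P.Iso} (hg : g ∈ P.EG) :
    ∃ x ∈ P.EG, ∃ y ∈ P.EG, g = x * y * x⁻¹ * y⁻¹ := by
  by_cases hn : NSi P g
  · have : Finite V := Module.finite_of_finite F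
    obtain ⟨m, hm⟩ : ∃ m, (finrank F V - 1) / 2 = m + 1 := ⟨(finrank F V - 1) / 2 - 1, by omega⟩
    exact (gd_o m V P g _ hP hm (oInv_EG hP (by omega)) hg hn).comm hP (by omega)
      (fun M h1 h2 => out_bil (by simp; omega) h1 h2) fun e f x A D h hx h1 =>
        o_adj hP (by omega) (by simp; omega) (by simp; omega) h hx h1.1 (by simpa using h1.2)
  · exact o_central hP h7 hg hn

theorem comm_of_equiv {G H : Type*} [Group G] [Group H] {K : Subgroup H} (φ : G ≃* K)
    (h : ∀ g ∈ K, ∃ x ∈ K, ∃ y ∈ K, g = x * y * x⁻¹ * y⁻¹) (g : G) :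
    ∃ x y : G, g = x * y * x⁻¹ * y⁻¹ := by
  obtain ⟨x, hx, y, hy, h⟩ := h _ (φ g).2
  exact ⟨φ.symm ⟨x, hx⟩, φ.symm ⟨y, hy⟩, φ.injective (Subtype.ext (by simpa using h))⟩

theorem omega_ore {ι : Type} [Fintype ι] [DecidableEq ι] {Q : QuadraticForm F (ι → F)}
    (hQ : (pol Q).Nondegenerate) (h7 : 7 ≤ Fintype.card ι) (g : Omega F Q) :
    ∃ x y : Omega F Q, g = x * y * x⁻¹ * y⁻¹ :=
  comm_of_equiv (omegaEquiv hQ (by omega)) (fun _ => o_ore (ofQuad_nd hQ) (by simpa)) g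

end Cfsg.Agent.Ore
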