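import Cfsg.Agent.Ore.Sp4

/-!
Every element of `Sp` is a commutator.
-/

set_option autoImplicit false

open Module Matrix

namespace Cfsg.Agent.Ore

open Cfsg.Agent.Fac Cfsg.Agent.Forms Cfsg.Agent.Polar Cfsg.Agent.Polar.PQ

universe u

variable {F : Type u} [Field F] [Fintype F] {V : Type u} [AddCommGroup V] [Module F V]
  [FiniteDimensional F V] {P : PQ (spFP F) V}

theorem sp_central (hP : P.ND) {m : ℕ} (hm : finrank F V = 2 * (m + 1)) {g : P.Iso}
    (hn : ¬ NSi P g) : ∃ x y, g = x * y * x⁻¹ * y⁻¹ := by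
  rw [NSi, not_or] at hn
  push Not at hn
  obtain ⟨g1, ζ, hζ⟩ := hn
  have ζ1 : ζ ≠ 1 := by rintro rfl; exact g1 (PQ.iso_ext fun x => by simp [hζ])
  obtain ⟨e, f, h, -⟩ : GD P 1 (m + 1) := by simpa [hm] using sp_gd hP (Or.inl rfl)
  have hW : Wp P e f = ⊥ := Submodule.finrank_eq_zero.mp (by
    have := h.finrank_Wp.1
    simp at this; omega)
  obtain rfl : ζ = -1 := by
    have := B_smul_smul g (e 0) (f 0)
    exact (mul_self_eq_one_iff.mp (by simpa [hζ, h.ef] using this)).resolve_left ζ1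
  obtain ⟨a, b, hab⟩ := conic_of_disc (F := F) (t := 0) (d := 1) (fun h => ζ1 (by
    have : (2 : F) ^ 2 = 0 := by linear_combination -h
    linear_combination -(pow_eq_zero_iff two_ne_zero).mp this)) 0 1 0
  have s : ∀ i j, P.B (f i) (e j) = -if i = j then 1 else 0 := fun i j => by
    rw [sp_swap, h.ef]; simp [eq_comm]
  obtain ⟨x, x1, x2, -⟩ := h.exists_mv' hP h.swap (by simp [hW])
  obtain ⟨y, y1, y2, -⟩ := h.exists_mv' hP (e' := fun i => a • e i + b • f i)
    (f' := fun i => b • e i - a • f i) ⟨fun _ => trivial, fun _ => trivial,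
      fun i j => by simp [h.ee, h.ff, h.ef, s]; split_ifs <;> ring,
      fun i j => by simp [h.ee, h.ff, h.ef, s]; split_ifs <;> ring,
      fun i j => by
        simp only [map_add, map_sub, LinearMap.add_apply, B_smul_left, B_smul_right, h.ee, h.ff,
          h.ef, s, RingHom.id_apply]
        split_ifs
        · linear_combination -hab
        · ring⟩ (by simp [hW])
  obtain ⟨x, -, y, -, h⟩ := comm_of_adj (H := ⊤) (g := g) (a := x) (b := y) (h.iso_ext'
    (fun i => by simp [mul_smul, hζ, x1, x2, y1, y2, act_smul]; module)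
    (fun i => by simp [mul_smul, hζ, x1, x2, y1, y2, act_smul, smul_sub]; module)
    (by simp [hW])) ⟨⟨1, by simp⟩, by simp⟩
  exact ⟨x, y, h⟩

theorem sp_ore (hP : P.ND) {m : ℕ} (hm : finrank F V = 2 * (m + 1))
    (h1 : m = 0 → 4 ≤ Fintype.card F) (h2 : m = 1 → 3 ≤ Fintype.card F) (g : P.Iso) :
    ∃ x y, g = x * y * x⁻¹ * y⁻¹ := by
  have : Finite V := Module.finite_of_finite F
  by_cases hn : NSi P g
  swap
  · exact sp_central hP hm hn
  have hg : GD P g (m + 1) := by simpa [hm] using sp_gd hP hn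
  obtain rfl | rfl | h3 : m = 0 ∨ m = 1 ∨ 2 ≤ m := by omega
  · obtain ⟨a, a0, -, a2⟩ := Fac.exists_sq_ne_one (h1 rfl)
    obtain ⟨x, -, y, -, h⟩ := hg.comm hP (by omega) (H := ⊤) (fun M h1 _ => out_one (by simp) a0
      (fun h => a2 (eq_inv_of_mul_eq_one_left h)) (by simp) h1)
      fun _ _ _ _ _ _ _ _ => ⟨⟨1, by simp⟩, by simp⟩
    exact ⟨x, y, h⟩
  · rcases hn with rfl | hn
    · exact ⟨1, 1, by simp⟩
    obtain ⟨x, -, -, h⟩ := sp4_class (h2 rfl) hP hm
    obtain ⟨u, v, h⟩ := h g hn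
    exact ⟨u * x * u⁻¹, v * u⁻¹, by rw [h]; group⟩
  · obtain ⟨x, -, y, -, h⟩ := hg.comm hP (by omega) (H := ⊤)
      (fun M h1 h2 => out_bil (by simp; omega) h1 h2)
      fun _ _ _ _ _ _ _ _ => ⟨⟨1, by simp⟩, by simp⟩
    exact ⟨x, y, h⟩

end Cfsg.Agent.Ore
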