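import Cfsg.Agent.Ore.OreO

/-!
Every element of `SU` is a commutator.
-/

set_option autoImplicit false

open Module Matrix

namespace Cfsg.Agent.Ore

open Cfsg.Agent.Fac Cfsg.Agent.Forms Cfsg.Agent.Polar Cfsg.Agent.Polar.PQ

universe u

theorem comm_of_adj {G : Type*} [Group G] {H : Subgroup G} [hH : H.Normal] {g a b : G}
    (hab : b * a = a * g * b)
    (h : (∃ z, (∀ k, z * k = k * z) ∧ z * b ∈ H) ∧ H ⊔ Subgroup.centralizer {b} = ⊤) :
    ∃ x ∈ H, ∃ y ∈ H, g = x * y * x⁻¹ * y⁻¹ := by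
  obtain ⟨⟨z, z1, z2⟩, h2⟩ := h
  obtain ⟨l, hl, c, hc, h3⟩ := Subgroup.mem_sup_of_normal_left.mp (h2 ▸ Subgroup.mem_top a⁻¹)
  have hc' : c * b * c⁻¹ = b := by
    rw [← Subgroup.mem_centralizer_singleton_iff.mp hc |>.symm]; simp
  obtain rfl : a = (l * c)⁻¹ := by rw [h3, inv_inv]
  have e2 : ∀ g, z * g * z⁻¹ = g := fun g => by rw [z1]; simp
  refine ⟨l, hl, z * b, z2, ?_⟩
  calc g = l * c * ((l * c)⁻¹ * g * b) * b⁻¹ := by group
    _ = l * (c * b * c⁻¹ * l⁻¹ * b⁻¹) := by rw [← hab]; group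
    _ = l * (z * (b * l⁻¹ * b⁻¹) * z⁻¹) := by rw [hc', e2]
    _ = _ := by group

theorem detFull_diagonal {K ι : Type*} [Field K] [Fintype ι] [DecidableEq ι] (i : ι) (d : ι → K) :
    DetFull (toLin' (diagonal d)) := fun t _ =>
  ⟨toLin' (diagonal (Function.update 1 i t)), by
    simp only [Module.End.mul_eq_comp, ← toLin'_mul, diagonal_mul_diagonal, mul_comm], by
    simp [Finset.prod_update_of_mem]⟩

section
variable {F : Type*} [Field F] {τ : F →+* F}
variable {π : Polar.FP F τ} {V : Type*} [AddCommGroup V] [Module F V] {P : PQ π V}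
variable {ι κ : Type*} [DecidableEq ι] [DecidableEq κ] {e f : ι → V}

theorem HF.comp (h : HF P e f) {σ : κ → ι} (hσ : Function.Injective σ) : HF P (e ∘ σ) (f ∘ σ) :=
  ⟨fun _ => h.se _, fun _ => h.sf _, fun _ _ => h.ee _ _, fun _ _ => h.ff _ _,
    fun _ _ => (h.ef _ _).trans (by simp [hσ.eq_iff])⟩

theorem HF.flipAt (h : HF P e f) (k : ι) :
    HF P (fun i => if i = k then f i else e i) fun i => if i = k then π.ε • e i else f i := by
  have s := h.swap
  have s1 : ∀ i j, i ≠ j → P.B (f i) (e j) = 0 := fun i j hij =>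
    B_swap_zero (by simp [h.ef, hij.symm])
  refine ⟨fun i => ?_, fun i => ?_, fun i j => ?_, fun i j => ?_, fun i j => ?_⟩
  · split_ifs <;> simp [h.se, h.sf]
  · split_ifs
    · exact s.sf i
    · exact h.sf i
  · by_cases hi : i = k <;> by_cases hj : j = k <;> simp [hi, hj, h.ee, h.ff, h.ef, s1 k j (Ne.symm _)]
  · by_cases hi : i = k <;> by_cases hj : j = k <;> simp [hi, hj, h.ee, h.ff, h.ef, s1, Ne.symm]
  · by_cases hi : i = k <;> by_cases hj : j = k
    · simpa [hi, hj] using s.ef k k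
    all_goals simp [hi, hj, h.ee, h.ff, h.ef, Ne.symm]

end

variable {F : Type u} [Field F] [Fintype F] {q : ℕ} {hF : Fintype.card F = q ^ 2}

theorem exists_mono {n : ℕ} (σ : Equiv.Perm (Fin n)) (d : Fin n → F)
    (hd : ∀ i, d i * frobq hF (d i) = 1) :
    ∃ x : (uStd hF n).Iso, ∀ (v : Fin n → F) i, (x • v) i = d i * v (σ i) := by
  have hB : ∀ x y, (uStd hF n).B (fun i => d i * x (σ i)) (fun i => d i * y (σ i)) =
      (uStd hF n).B x y := fun x y => by
    simp only [uStd_B, hermForm, ← frobq_apply hF, map_mul]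
    rw [← Equiv.sum_comp σ fun i => x i * frobq hF (y i)]
    exact Finset.sum_congr rfl fun i _ => by linear_combination x (σ i) * frobq hF (y (σ i)) * hd i
  obtain ⟨x, hx⟩ := exists_iso (uStd_nd hF n)
    (LinearMap.pi fun i => d i • (LinearMap.proj (σ i) : (Fin n → F) →ₗ[F] F)) hB fun x => by
      rw [u_QEq_iff]; exact (u_QEq_iff.1 (QEq.self x)).trans (hB x x).symm
  exact ⟨x, fun v i => by rw [hx]; rfl⟩

theorem det_diag {n : ℕ} {d : Fin n → F} {x : (uStd hF n).Iso}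
    (h : ∀ (v : Fin n → F) i, (x • v) i = d i * v i) :
    ((uStd hF n).det x : F) = ∏ i, d i := by
  rw [coe_det, show x.1.toLinearMap = toLin' (diagonal d) from LinearMap.ext fun v => funext fun i =>
    (h v i).trans (by simp [mulVec_diagonal]), LinearMap.det_toLin', det_diagonal]

theorem u_central_orth {n : ℕ} {g : (uStd hF (n + 1)).Iso} {ζ μ : F}
    (hg : ∀ v : Fin (n + 1) → F, g • v = ζ • v) (h1 : ζ * frobq hF ζ = 1) (h2 : ζ ^ (n + 1) = 1)
    (h3 : μ * frobq hF μ = 1)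
    (h4 : μ ^ (n + 1) * ζ ^ ((n + 1) * n / 2) = 1) :
    ∃ x ∈ (uStd hF (n + 1)).EG, ∃ y ∈ (uStd hF (n + 1)).EG, g = x * y * x⁻¹ * y⁻¹ := by
  have hP := uStd_nd hF (n + 1)
  obtain ⟨a, ha⟩ := exists_mono (hF := hF) (Equiv.subRight (1 : Fin (n + 1))) 1 (by simp)
  obtain ⟨b, hb⟩ := exists_mono (hF := hF) (n := n + 1) 1 (fun i => μ * ζ ^ (i : ℕ)) fun i => by
    rw [map_mul, map_pow, mul_mul_mul_comm, h3, ← mul_pow, h1]; simp
  refine comm_of_adj (a := a) (b := b) (PQ.iso_ext fun v => funext fun i => ?_)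
    ⟨⟨1, by simp, u_mem_EG hP ?_⟩, eq_top_iff.mpr fun k _ => ?_⟩
  · obtain ⟨i, rfl⟩ : ∃ j, i = j + 1 := ⟨i - 1, by simp⟩
    have : ζ ^ ((1 : Fin (n + 1)) : ℕ) = ζ := by rw [Fin.val_one', ← pow_eq_pow_mod _ h2, pow_one]
    simp only [mul_smul, ha, hb, hg, Equiv.Perm.coe_one, id, Fin.val_add, ← pow_eq_pow_mod _ h2,
      Pi.smul_apply, Equiv.subRight_apply, add_sub_cancel_right, pow_add, this, smul_eq_mul]
    ring
  · rw [one_mul, det_diag hb, Finset.prod_mul_distrib, Finset.prod_pow_eq_pow_sum,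
      Fin.sum_univ_eq_sum_range (fun i => i), Finset.sum_range_id]
    simpa using h4
  · have := det_norm hP k⁻¹
    obtain ⟨c, hc⟩ := exists_mono (hF := hF) (n := n + 1) 1
      (Function.update 1 0 ((uStd hF (n + 1)).det k⁻¹ : F)) fun i => by
        by_cases h : i = 0 <;> simp [h, -map_inv, this]
    refine Subgroup.mem_sup_of_normal_left.mpr ⟨k * c, u_mem_EG hP ?_, c⁻¹,
      inv_mem (Subgroup.mem_centralizer_singleton_iff.mpr (PQ.iso_ext fun v => funext fun i => ?_)),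
      by simp⟩
    · rw [map_mul, Units.val_mul, det_diag hc]
      simp [Finset.prod_update_of_mem]
    · simp only [mul_smul, hb, hc]
      simp [mul_left_comm]

variable {V : Type u} [AddCommGroup V] [Module F V] [FiniteDimensional F V] {P : PQ (uFP hF) V}

theorem u_gd (hP : P.ND) {g : P.Iso} (hg : g ∈ P.EG) (hn : NSi P g) : GD P g (finrank F V / 2) :=
  gd_lam (u_exists_lam hF) (fun _ _ _ _ P => u_exists_sing P) (fun _ _ _ _ _ hP => u_exists_QEq hP)
    (fun c hc => by simpa [mem_uFP_lam] using hc) _ V P g hP rfl (EG_le_ker_det hg) hn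

theorem u_central_hyp (hP : P.ND) {m : ℕ} (hm : finrank F V = 2 * (m + 1)) {g : P.Iso} {μ : F}
    (hg : ∀ v : V, g • v = μ ^ 2 • v) (h1 : μ * frobq hF μ = -1) (h2 : μ ^ (2 * (m + 1)) = -1) :
    ∃ x ∈ P.EG, ∃ y ∈ P.EG, g = x * y * x⁻¹ * y⁻¹ := by
  obtain ⟨e, f, h, -⟩ : GD P 1 (m + 1) := by
    simpa [hm] using u_gd hP (one_mem _) (Or.inl rfl)
  have hW : Wp P e f = ⊥ := Submodule.finrank_eq_zero.mp (by
    have := h.finrank_Wp.1
    simp at this; omega)
  have h' := (h.flipAt 0).comp (add_left_injective 1)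
  obtain ⟨a, a1, a2, -⟩ := h.exists_mv' hP h' (by simp [hW])
  obtain ⟨b, hb⟩ := h.exists_lev hP (A := diagonal fun i : Fin (m + 1) => μ ^ (2 * (i : ℕ) + 1))
    (D := diagonal fun i : Fin (m + 1) => -μ ^ (2 * (i : ℕ) + 1)) (by
      rw [diagonal_transpose, diagonal_map (map_zero _), diagonal_mul_diagonal, ← diagonal_one]
      congr 1; ext i
      rw [map_neg, map_pow, mul_neg, ← mul_pow, h1, pow_succ, pow_mul]; simp)
  have b1 : ∀ i, b • e i = μ ^ (2 * (i : ℕ) + 1) • e i := fun i => by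
    simpa [Pi.single_apply] using hb.l (Pi.single i 1)
  have b2 : ∀ i, b • f i = -μ ^ (2 * (i : ℕ) + 1) • f i := fun i => by
    simpa [Pi.single_apply] using hb.r (Pi.single i 1)
  refine comm_of_adj (a := a) (b := b) (h.iso_ext' (fun i => ?_) (fun i => ?_) (by simp [hW]))
    (u_adj hP h hb (detFull_diagonal 0 _) (s := 1) (by simp) ?_)
  · rw [mul_smul, mul_smul, mul_smul, hg, b1, act_smul, act_smul, a1, smul_smul, ← pow_add]
    induction i using Fin.lastCases with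
    | last => simp [b2, show 2 + (2 * m + 1) = 2 * (m + 1) + 1 by ring, pow_succ _ (2 * (m + 1)), h2]
    | cast i => simp [b1, show 2 + (2 * (i : ℕ) + 1) = 2 * (i + 1) + 1 by ring]
  · rw [mul_smul, mul_smul, mul_smul, hg, b2, act_smul, act_smul, a2, smul_smul, mul_neg, ← pow_add]
    induction i using Fin.lastCases with
    | last => simp [b1, show 2 + (2 * m + 1) = 2 * (m + 1) + 1 by ring, pow_succ _ (2 * (m + 1)), h2]
    | cast i => simp [b2, show 2 + (2 * (i : ℕ) + 1) = 2 * (i + 1) + 1 by ring]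
  · have e1 : ∀ k, ∑ i ∈ Finset.range k, (2 * i + 1) = k * k := fun k => by
      induction k with
      | zero => rfl
      | succ k ih => rw [Finset.sum_range_succ, ih]; ring
    rw [one_pow, one_mul, det_diagonal, Finset.prod_pow_eq_pow_sum,
      Fin.sum_univ_eq_sum_range (fun i => 2 * i + 1), e1, map_pow]
    have h0 : μ ≠ 0 := by rintro rfl; simp at h1
    refine mul_left_cancel₀ (pow_ne_zero ((m + 1) * (m + 1)) h0) ?_
    rw [← pow_add, ← mul_pow, h1, ← two_mul, ← mul_assoc, pow_mul, h2, pow_mul]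
    rcases neg_one_pow_eq_or F (m + 1) with h | h <;> simp [h]

theorem su_ore {n : ℕ} (hn : 3 ≤ n) (hex : ¬ (n = 3 ∧ q = 2)) {g : (uStd hF n).Iso}
    (hg : g ∈ (uStd hF n).EG) :
    ∃ x ∈ (uStd hF n).EG, ∃ y ∈ (uStd hF n).EG, g = x * y * x⁻¹ * y⁻¹ := by
  have hP := uStd_nd hF n
  by_cases hs : NSi _ g
  · have h1 := u_gd hP hg hs
    rw [finrank_fin_fun] at h1
    rcases hn.eq_or_lt with rfl | hn
    · exact h1.comm hP (by omega) (fun M h1 _ => out_uni_one hF (by simpa using hex) (by simp) h1)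
        fun e f x A D h hx ⟨h1, s, h2, h3⟩ => u_adj hP h hx h1 h2 (by simpa using h3)
    · exact h1.comm hP (by omega) (fun M h1 h2 => out_uni hF (by simp; omega) h1 h2)
        fun e f x A D h hx h1 => u_adj hP h hx h1.1 (s := 1) (by simp) (by simpa using h1.2.symm)
  rw [NSi, not_or] at hs
  push Not at hs
  obtain ⟨-, ζ, hζ⟩ := hs
  obtain ⟨n, rfl⟩ : ∃ k, n = k + 1 := ⟨n - 1, by omega⟩
  have h1 : ζ * frobq hF ζ = 1 := by
    have := B_smul_smul g (Pi.single 0 1) (Pi.single 0 1)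
    simpa [hζ, uStd_B, hermForm, ← frobq_apply hF, Pi.single_apply, mul_comm] using this
  have h2 : ζ ^ (n + 1) = 1 := by
    have := det_scal (P := uStd hF (n + 1)) ζ h1
    rw [← show g = PQ.scal _ ζ h1 from PQ.iso_ext hζ, EG_le_ker_det hg] at this
    simpa using this.symm
  by_cases h3 : ζ ^ ((n + 1) * n / 2) = 1
  · exact u_central_orth hζ h1 h2 (μ := 1) (by simp) (by simpa using h3)
  obtain ⟨m, rfl⟩ : Odd n := Nat.not_even_iff_odd.mp (by
    rintro ⟨m, rfl⟩
    rw [show (m + m + 1) * (m + m) = 2 * ((m + m + 1) * m) by ring,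
      Nat.mul_div_cancel_left _ two_pos, pow_mul, h2, one_pow] at h3
    exact h3 rfl)
  rw [show (2 * m + 1 + 1) * (2 * m + 1) = 2 * ((m + 1) * (2 * m + 1)) by ring,
    Nat.mul_div_cancel_left _ two_pos, pow_mul] at h3
  have h4 : ζ ^ (m + 1) = -1 := (sq_eq_one_iff.mp (by rw [← pow_mul, ← h2]; ring_nf)).resolve_left
    fun h => h3 (by rw [h, one_pow])
  obtain ⟨μ, rfl⟩ : IsSquare ζ := by
    by_cases hc : ringChar F = 2
    · exact FiniteField.isSquare_of_char_two hc ζ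
    have ho := FiniteField.odd_card_of_char_ne_two hc
    obtain ⟨r, hr⟩ : Odd q := (Nat.odd_pow_iff two_ne_zero).mp (hF ▸ Nat.odd_iff.mpr ho)
    rw [frobq_apply, ← pow_succ'] at h1
    rw [FiniteField.isSquare_iff hc (by rintro rfl; simp at h2), hF,
      show q ^ 2 / 2 = (q + 1) * r by rw [show q ^ 2 = 2 * ((q + 1) * r) + 1 by rw [hr]; ring]; omega,
      pow_mul, h1, one_pow]
  rcases sq_eq_one_iff.mp (show (μ * frobq hF μ) ^ 2 = 1 by rw [← h1, map_mul]; ring) with h5 | h5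
  · refine u_central_orth hζ h1 h2 h5 ?_
    rw [show (2 * m + 1 + 1) * (2 * m + 1) = 2 * ((m + 1) * (2 * m + 1)) by ring,
      Nat.mul_div_cancel_left _ two_pos, pow_mul, h4, show 2 * m + 1 + 1 = 2 * (m + 1) by ring,
      pow_mul, sq, h4, pow_succ, pow_mul]
    simp
  · exact u_central_hyp hP (m := m) (by simp; ring) (by rwa [sq]) h5 (by rw [pow_mul, sq, h4])

end Cfsg.Agent.Ore
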