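import Cfsg.Agent.Ore.Cert
import Cfsg.Agent.Ore.Comp

/-!
Factorisations with good characteristic polynomials over the fields with at most four elements.
-/

set_option autoImplicit false

open Polynomial Module

namespace Cfsg.Agent.Ore

open Cfsg.Agent.GLn Cfsg.Agent.Fac Cfsg.Agent.Forms

universe u

section
variable {K : Type u} [Field K] {τ : K →+* K}

/-- Every map of determinant one, not scalar unless trivial, factors with polynomial `f`. -/
def BaseP (τ : K →+* K) (f : K[X]) : Prop :=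
  ∀ (V : Type u) [AddCommGroup V] [Module K V] [FiniteDimensional K V] (M : End K V),
    finrank K V = f.natDegree → LinearMap.det M = 1 → NS M → Mix τ M f

theorem NS.of_ne {V : Type*} [AddCommGroup V] [Module K V] {M : End K V} (h : NS M) (h1 : M ≠ 1)
    (c : K) : M ≠ c • 1 := fun hc => h1 (by rw [hc, h c hc, one_smul])

theorem BaseP.mul {f g : K[X]} (h : BaseP τ f) (h' : BaseP τ g) (hf : f.Monic) (hg : g.Monic)
    (h1 : 0 < f.natDegree) (h2 : 2 ≤ g.natDegree) : BaseP τ (f * g) := by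
  intro V _ _ _ M hd hM hns
  by_cases h0 : M = 1
  · exact h0 ▸ mix_one (hf.mul hg) hd.symm
  rw [hf.natDegree_mul hg] at hd
  obtain ⟨E, _, _, _, W, _, _, _, M₁, M₂, k1, k2, k3, k4, k5⟩ :=
    peel f.natDegree V M (by omega) (hns.of_ne h0) (by simp [hM])
  have := k2.finrank
  exact k2.mix (h E M₁ k1 k3 (k4 h1)) (h' W M₂ (by omega)
    (by simpa [hM, k3] using k2.det.symm) fun c hc => (k5 c hc).elim)

theorem separable_of_nodup [Finite K] {L : List K[X]} (h : ∀ f ∈ L, Irreducible f ∧ f.Monic)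
    (hn : L.Nodup) : L.prod.Separable := by
  induction L with
  | nil => exact separable_one
  | cons f L ih =>
    rw [List.nodup_cons] at hn
    obtain ⟨h1, h2⟩ := h f (by simp)
    refine (PerfectField.separable_of_irreducible h1).mul
      (ih (fun g hg => h g (by simp [hg])) hn.2) (h1.coprime_iff_not_dvd.mpr fun hd => hn.1 ?_)
    obtain ⟨g, hg, hd⟩ := (Prime.dvd_prod_iff h1.prime).mp hd
    obtain ⟨h3, h4⟩ := h g (by simp [hg])
    rwa [eq_of_monic_of_associated h2 h4 (h1.associated_of_dvd h3 hd)]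

/-- The output of the recursion. -/
def Res (τ : K →+* K) (m D : ℕ) : Prop :=
  ∀ (V : Type u) [AddCommGroup V] [Module K V] [FiniteDimensional K V] (M : End K V),
    finrank K V = m → LinearMap.det M = 1 → NS M → ∃ q : K[X], Mix τ M q ∧
      (q * dualP τ q).Separable ∧ q.coeff 0 = (-1) ^ m ∧
      ∀ π, Irreducible π → π ∣ q * dualP τ q → π.natDegree ≤ D

end

namespace Ops
variable (o : Ops)

def pw : List (List ℕ) → Bool
  | [] => true
  | x :: l => (l.all fun y => !o.eqC x y) && pw l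

def tabOk (lab : List (List ℕ)) (D : ℕ) (ls : List (List ℕ)) (m : ℕ) : Bool :=
  (ls.all fun l => lab.contains l && 2 ≤ l.length && l.length ≤ D) && ls != [] &&
    (ls.map List.length).sum == m &&
    o.pw (ls.map (· ++ [1]) ++ ls.map fun l => o.dualC (l ++ [1])) &&
    o.mu 1 (ls.foldr (fun l a => o.mu ((l ++ [1]).getD 0 0) a) 1) == o.mu 1 (o.sgn m)

end Ops

namespace Enc
variable {o : Ops} {K : Type u} [Field K] {τ : K →+* K} (c : Enc o τ)

theorem nodup_of_pw {L : List (List ℕ)} (h : o.pw L = true) : (L.map c.poly).Nodup := by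
  induction L with
  | nil => simp
  | cons x L ih =>
    simp only [Ops.pw, Bool.and_eq_true, List.all_eq_true] at h
    rw [List.map_cons, List.nodup_cons, List.mem_map]
    refine ⟨fun ⟨y, hy, e⟩ => ?_, ih h.2⟩
    simpa [c.eqC_of_eq e.symm] using h.1 y hy

theorem baseP (hτ : ∀ a, τ (τ a) = a) {l cs : List ℕ} (h : o.base l cs = true) (hl : 2 ≤ l.length) :
    BaseP τ (c.poly (l ++ [1])) := fun _ _ _ _ _ hd h1 h2 =>
  c.mix_of_base hτ h hl (hd.trans (c.monic_poly l).2) h1 h2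

theorem baseP_prod (hτ : ∀ a, τ (τ a) = a) {ls : List (List ℕ)}
    (h : ∀ l ∈ ls, 2 ≤ l.length ∧ ∃ cs, o.base l cs = true) (h0 : ls ≠ []) :
    BaseP τ (ls.map fun l => c.poly (l ++ [1])).prod ∧ (ls.map fun l => c.poly (l ++ [1])).prod.Monic ∧
      (ls.map fun l => c.poly (l ++ [1])).prod.natDegree = (ls.map List.length).sum ∧
      2 ≤ (ls.map List.length).sum := by
  induction ls with
  | nil => exact (h0 rfl).elim
  | cons l ls ih =>
    obtain ⟨h1, cs, h2⟩ := h l (by simp)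
    obtain ⟨m1, m2⟩ := c.monic_poly l
    by_cases h3 : ls = []
    · subst h3
      simpa [m1, m2, h1] using c.baseP hτ h2 h1
    · obtain ⟨k1, k2, k3, k4⟩ := ih (fun l hl => h l (by simp [hl])) h3
      simp only [List.map_cons, List.prod_cons, List.sum_cons]
      exact ⟨(c.baseP hτ h2 h1).mul k1 m1 k2 (by omega) (by omega), m1.mul k2,
        by rw [m1.natDegree_mul k2, m2, k3], by omega⟩

include c in
theorem res_of_tab [Finite K] (hτ : ∀ a, τ (τ a) = a) {lab : List (List ℕ)}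
    (hb : ∀ l ∈ lab, ∃ cs, o.base l cs = true) {D m : ℕ} {ls : List (List ℕ)}
    (h : o.tabOk lab D ls m = true) : Res τ m D := by
  simp only [Ops.tabOk, Bool.and_eq_true, List.all_eq_true, List.contains_iff_mem, decide_eq_true_eq,
    bne_iff_ne, beq_iff_eq] at h
  obtain ⟨⟨⟨⟨h1, h2⟩, h3⟩, h4⟩, h5⟩ := h
  obtain ⟨k1, -, k3, -⟩ := c.baseP_prod hτ (fun l hl => ⟨(h1 l hl).1.2, hb l (h1 l hl).1.1⟩) h2
  intro V _ _ _ M hd hM hns
  have e : (ls.map fun l => c.poly (l ++ [1])).prod * dualP τ (ls.map fun l => c.poly (l ++ [1])).prod =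
      ((ls.map (· ++ [1]) ++ ls.map fun l => o.dualC (l ++ [1])).map c.poly).prod := by
    rw [← Multiset.prod_coe, dualP_multiset_prod]
    simp [Function.comp_def, poly_dualC]
  have hi : ∀ f ∈ (ls.map (· ++ [1]) ++ ls.map fun l => o.dualC (l ++ [1])).map c.poly,
      (Irreducible f ∧ f.Monic) ∧ f.natDegree ≤ D := by
    have : ∀ l ∈ ls, Irreducible (c.poly (l ++ [1])) ∧ (c.poly (l ++ [1])).coeff 0 ≠ 0 := by
      intro l hl
      obtain ⟨cs, hcs⟩ := hb l (h1 l hl).1.1
      rw [Ops.base, Bool.and_eq_true] at hcs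
      have h6 := (h1 l hl).1.2
      have hi := c.irreducible_poly hcs.1 (by rintro rfl; simp at h6)
      obtain ⟨m1, m2⟩ := c.monic_poly l
      refine ⟨hi, fun h0 => ?_⟩
      have := eq_X_sub_C_of_root hi m1 (l := 0) (by rwa [← coeff_zero_eq_eval_zero])
      rw [this] at m2
      simp at m2; omega
    simp only [List.map_append, List.map_map, List.mem_append, List.mem_map, Function.comp_apply]
    rintro f (⟨l, hl, rfl⟩ | ⟨l, hl, rfl⟩)
    · exact ⟨⟨(this l hl).1, (c.monic_poly l).1⟩, (c.monic_poly l).2 ▸ (h1 l hl).2⟩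
    · rw [poly_dualC, natDegree_dualP (this l hl).2]
      exact ⟨⟨irreducible_dualP hτ (c.monic_poly l).1 (this l hl).2 (this l hl).1,
        monic_dualP (this l hl).2⟩, (c.monic_poly l).2 ▸ (h1 l hl).2⟩
  refine ⟨_, k1 V M (by rw [k3, h3, hd]) hM hns,
    e ▸ separable_of_nodup (fun f hf => (hi f hf).1) (c.nodup_of_pw h4), ?_, fun π hπ hd => ?_⟩
  · have := congrArg c.ev h5
    rw [c.ev_mu, c.ev_mu, ev_sgn, c.ev_one, one_mul, one_mul] at this
    rw [← this]
    clear * -
    induction ls with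
    | nil => simp [c.ev_one]
    | cons l ls ih => simp [-List.getD_eq_getElem?_getD, c.ev_mu, ← ih, coeff_poly]
  · rw [e] at hd
    obtain ⟨g, hg, hd⟩ := (Prime.dvd_prod_iff hπ.prime).mp hd
    exact (natDegree_le_of_dvd hd (hi g hg).1.1.ne_zero).trans (hi g hg).2

end Enc

section Rec
variable {K : Type u} [Field K] {τ : K →+* K}

theorem res_all [Fintype K] {r : ℕ} (hτ : ∀ a, τ a = a ^ r) (hr : r = 1 ∨ (r = 2 ∧ (2 : K) = 0))
    (hττ : ∀ a, τ (τ a) = a) {lo D : ℕ} (hD : 2 ≤ D) (hlo : lo ≤ D + 1)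
    (h : ∀ m, lo ≤ m → m ≤ 3 * D + 3 → Res τ m D) (m : ℕ) (hm : lo ≤ m) :
    Res τ m (max D ((m - 1) / 3)) := by
  induction m using Nat.strong_induction_on with
  | _ m ih =>
  by_cases h1 : m ≤ 3 * D + 3
  · intro V _ _ _ M hd hM hns
    obtain ⟨q, k1, k2, k3, k4⟩ := h m hm h1 V M hd hM hns
    exact ⟨q, k1, k2, k3, fun π a b => (k4 π a b).trans (le_max_left _ _)⟩
  set d := (m - 1) / 3 with hd
  obtain ⟨E, _, _, _, f, e1, e2, e3, e4, e5, e6, e7⟩ := exists_good hτ hr (d := d) (by omega)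
  have f0 : f.coeff 0 ≠ 0 := by simp [e6]
  intro V _ _ _ M hV hM hns
  obtain ⟨W, _, _, _, M₁, M₂, k1, k2, k3⟩ : ∃ (W : Type u) (_ : AddCommGroup W) (_ : Module K W)
      (_ : FiniteDimensional K W) (M₁ : End K E) (M₂ : End K W),
      Spl M M₁ M₂ ∧ FP M₁ f f ∧ NS M₂ := by
    by_cases h0 : M = 1
    · obtain ⟨i, i1, -⟩ := exists_inj (E := E) (⊤ : Submodule K V) (by simp; omega)
      obtain ⟨p, p1, -⟩ := exists_proj (i := i) ⊥ fun x hx => i1 (by simpa using hx)
      obtain ⟨S, s1, s2⟩ := exists_spl M i p p1 (M₁ := 1) (by simp [h0, p1]) (by simp)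
      obtain ⟨B, hB⟩ := exists_charpoly (V := E) e3 (by omega)
      refine ⟨_, _, _, inferInstance, 1, S, s1, ⟨B, hB, by rw [one_mul, hB]⟩, fun c hc => ?_⟩
      have := s1.finrank
      have : Nontrivial (LinearMap.ker p) := Module.nontrivial_of_finrank_pos (R := K) (by omega)
      obtain ⟨w, hw⟩ := exists_ne (0 : LinearMap.ker p)
      obtain ⟨x, hx⟩ := s2 w
      have h2 := congrArg p hx
      simp only [h0, Module.End.one_apply, map_sub, p1, LinearMap.map_coe_ker, sub_zero] at h2 hx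
      rw [← h2, map_zero, hc, sub_eq_zero] at hx
      have : (1 - c) • w = 0 := Subtype.ext (by simpa [sub_smul, sub_eq_zero] using hx)
      exact (sub_eq_zero.mp ((smul_eq_zero.mp this).resolve_right hw)).symm
    · obtain ⟨W, M₁, M₂, k⟩ := compress (E := E) (by simp [hM]) (hns.of_ne h0) (by omega) f0 e3
        (by omega) e7
      exact ⟨W, _, _, inferInstance, M₁, M₂, k⟩
  have := k1.finrank
  obtain ⟨q, a1, a2, a3, a4⟩ := ih (m - d) (by omega) (by omega) W M₂ (by omega)
    (by simpa [hM, k2.det_one f0] using k1.det.symm) k3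
  have i2 := irreducible_dualP hττ e3 f0 e2
  have hc : ∀ g : K[X], Irreducible g → g.natDegree = d → IsCoprime g (q * dualP τ q) :=
    fun g hg hg' => hg.coprime_iff_not_dvd.mpr fun h => by have := a4 g hg h; omega
  have e : f * q * dualP τ (f * q) = f * dualP τ f * (q * dualP τ q) := by rw [dualP_mul]; ring
  refine ⟨f * q, k1.mix k2.mix a1, ?_, ?_, fun π hπ hdv => ?_⟩
  · rw [e]
    refine Separable.mul ?_ a2 ((hc f e2 e4).mul_left (hc _ i2 (by rw [natDegree_dualP f0, e4])))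
    simpa using separable_of_nodup (L := [f, dualP τ f])
      (by simp [e2, e3, i2, monic_dualP f0]) (by simpa using e5.symm)
  · rw [mul_coeff_zero, e6, a3, ← pow_add]; congr 1; omega
  · rw [e, hπ.prime.dvd_mul, hπ.prime.dvd_mul] at hdv
    rcases hdv with (h | h) | h
    · have := natDegree_le_of_dvd h e2.ne_zero; omega
    · have := natDegree_le_of_dvd h i2.ne_zero
      rw [natDegree_dualP f0] at this; omega
    · have := a4 π hπ h; omega

end Rec

section Fields
variable {K : Type u} [Field K] [Fintype K]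

/-- Codes for prime fields. -/
def encP (p : ℕ) [Fact p.Prime] (hK : Fintype.card K = p) (hi : ∀ x : K, x = x⁻¹) :
    Enc ⟨p, fun a b => (a + b) % p, fun a b => a * b % p, p - 1, id, id⟩ (RingHom.id K) :=
  haveI := charP_of_card_eq_prime hK
  { ev := fun a => (a : K)
    ev_zero := Nat.cast_zero
    ev_one := Nat.cast_one
    ev_ad := fun a b => by rw [← CharP.cast_eq_mod]; simp
    ev_mu := fun a b => by rw [← CharP.cast_eq_mod]; simp
    ev_m1 := by rw [Nat.cast_sub (Fact.out : p.Prime).one_le]; simp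
    ev_ta := fun _ => rfl
    ev_iv := fun a => hi _
    mu_lt := fun a b => Nat.mod_lt _ (Fact.out : p.Prime).pos
    one_lt := (Fact.out : p.Prime).one_lt
    surj := fun x => by
      obtain ⟨a, ha⟩ := (Finite.injective_iff_surjective_of_equiv (f := fun a : Fin p => ((a : ℕ) : K))
        (Fintype.equivOfCardEq (by simp [hK]))).mp (fun a b h =>
          Fin.ext (CharP.natCast_injOn_Iio K p a.2 b.2 h)) x
      exact ⟨a, a.2, ha⟩
    inj := fun a ha b hb h => CharP.natCast_injOn_Iio K p ha hb h }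

theorem eq_inv_of_card (h : Fintype.card K ≤ 3) (x : K) : x = x⁻¹ := by
  by_cases hx : x = 0
  · simp [hx]
  have := FiniteField.pow_card_sub_one_eq_one x hx
  have h2 : 2 ≤ Fintype.card K := Fintype.one_lt_card
  refine eq_inv_of_mul_eq_one_left ?_
  rcases h2.eq_or_lt with h2 | h2
  · rw [← h2, pow_one] at this; simp [this]
  · rwa [show Fintype.card K - 1 = 2 by omega, sq] at this

theorem res_two (hK : Fintype.card K = 2) {m : ℕ} (hm : 3 ≤ m) :
    ∃ D, Res (RingHom.id K) m D := by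
  let c : Enc o2 (RingHom.id K) := encP 2 hK (eq_inv_of_card (by omega))
  refine ⟨_, res_all (r := 1) (by simp) (Or.inl rfl) (by simp) (D := 6) (lo := 3) (by omega)
    (by omega) (fun m h1 h2 => ?_) m hm⟩
  have hb : ∀ l ∈ [[1, 1, 0], [1, 1, 0, 0], [1, 0, 1, 0, 0], [1, 0, 1, 1, 1], [1, 1, 1, 0, 1],
      [1, 1, 0, 0, 0, 0]], ∃ cs, o2.base l cs = true := by
    simp only [List.forall_mem_cons, List.not_mem_nil, IsEmpty.forall_iff, implies_true, and_true]
    exact ⟨⟨_, base2_110⟩, ⟨_, base2_1100⟩, ⟨_, base2_10100⟩, ⟨_, base2_10111⟩, ⟨_, base2_11101⟩,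
      ⟨_, base2_110000⟩⟩
  have key : ∀ m ∈ List.range' 3 19, ∃ ls ∈ List.sublists [[1, 1, 0], [1, 1, 0, 0], [1, 0, 1, 0, 0],
      [1, 0, 1, 1, 1], [1, 1, 1, 0, 1], [1, 1, 0, 0, 0, 0]], o2.tabOk [[1, 1, 0], [1, 1, 0, 0],
      [1, 0, 1, 0, 0], [1, 0, 1, 1, 1], [1, 1, 1, 0, 1], [1, 1, 0, 0, 0, 0]] 6 ls m = true := by
    decide +kernel
  obtain ⟨ls, -, h⟩ := key m (by simp [List.mem_range'_1]; omega)
  exact c.res_of_tab (by simp) hb h

theorem res_three (hK : Fintype.card K = 3) {m : ℕ} (hm : 3 ≤ m) :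
    ∃ D, Res (RingHom.id K) m D := by
  have : Fact (Nat.Prime 3) := ⟨Nat.prime_three⟩
  let c : Enc o3 (RingHom.id K) := encP 3 hK (eq_inv_of_card (by omega))
  refine ⟨_, res_all (r := 1) (by simp) (Or.inl rfl) (by simp) (D := 4) (lo := 3) (by omega)
    (by omega) (fun m h1 h2 => ?_) m hm⟩
  have hb : ∀ l ∈ [[2, 1], [2, 0, 1], [2, 1, 1], [1, 0, 2], [1, 1, 2], [1, 0, 1, 1], [1, 0, 1, 2]],
      ∃ cs, o3.base l cs = true := by
    simp only [List.forall_mem_cons, List.not_mem_nil, IsEmpty.forall_iff, implies_true, and_true]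
    exact ⟨⟨_, base3_21⟩, ⟨_, base3_201⟩, ⟨_, base3_211⟩, ⟨_, base3_102⟩, ⟨_, base3_112⟩,
      ⟨_, base3_1011⟩, ⟨_, base3_1012⟩⟩
  have key : ∀ m ∈ List.range' 3 13, ∃ ls ∈ List.sublists [[2, 1], [2, 0, 1], [2, 1, 1], [1, 0, 2],
      [1, 1, 2], [1, 0, 1, 1], [1, 0, 1, 2]], o3.tabOk [[2, 1], [2, 0, 1], [2, 1, 1], [1, 0, 2],
      [1, 1, 2], [1, 0, 1, 1], [1, 0, 1, 2]] 4 ls m = true := by
    decide +kernel
  obtain ⟨ls, -, h⟩ := key m (by simp [List.mem_range'_1]; omega)
  exact c.res_of_tab (by simp) hb h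

theorem exists_enc_four (hK : Fintype.card K = 4) {τ : K →+* K} (hτ : ∀ a, τ a = a ^ 2) :
    Nonempty (Enc o4 τ) := by
  classical
  have h2 : (2 : K) = 0 := by
    have := FiniteField.cast_card_eq_zero K
    rw [hK] at this
    exact pow_eq_zero_iff (n := 2) two_ne_zero |>.mp (by linear_combination this)
  obtain ⟨w, w0, w1⟩ := (big_of_card (F := K) (k := 3) (by omega)).exists_ne₂ 0 1
  have hw : w ^ 2 + w + 1 = 0 := by
    have := FiniteField.pow_card_sub_one_eq_one w w0
    rw [hK] at this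
    exact mul_left_cancel₀ (sub_ne_zero.mpr w1) (by linear_combination this)
  let ev : ℕ → K := fun a => match a % 4 with | 0 => 0 | 1 => 1 | 2 => w | _ => w + 1
  have e0 : ev 0 = 0 := rfl
  have e1 : ev 1 = 1 := rfl
  have e2 : ev 2 = w := rfl
  have e3 : ev 3 = w + 1 := rfl
  have hm : ∀ a, ev a = ev (a % 4) := fun a => by simp [ev]
  have ht : ∀ t a b, tab4 t a b = tab4 t (a % 4) (b % 4) := fun t a b => by simp [tab4]
  have hmu : ∀ a b, ev (o4.mu a b) = ev a * ev b := fun a b => by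
    rw [hm a, hm b]; change ev (tab4 _ a b) = _; rw [ht]
    have := Nat.mod_lt a (show 0 < 4 by omega)
    have := Nat.mod_lt b (show 0 < 4 by omega)
    generalize a % 4 = i at *
    generalize b % 4 = j at *
    interval_cases i <;> interval_cases j <;> simp [tab4, e0, e1, e2, e3] <;> grind
  have hinj : ∀ a < 4, ∀ b < 4, ev a = ev b → a = b := fun a ha b hb => by
    interval_cases a <;> interval_cases b <;> simp [e0, e1, e2, e3] <;> grind
  refine ⟨⟨ev, rfl, rfl, fun a b => ?_, hmu, by rw [o4, e1]; grind, fun a => ?_, fun a => ?_,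
    fun a b => Nat.mod_lt _ (by decide), by decide, fun x => ?_, hinj⟩⟩
  · rw [hm a, hm b]; change ev (tab4 _ a b) = _; rw [ht]
    have := Nat.mod_lt a (show 0 < 4 by omega)
    have := Nat.mod_lt b (show 0 < 4 by omega)
    generalize a % 4 = i at *
    generalize b % 4 = j at *
    interval_cases i <;> interval_cases j <;> simp [tab4, e0, e1, e2, e3] <;> grind
  · rw [hτ, sq]; exact hmu a a
  · refine (hmu a a).trans ?_
    by_cases h : ev a = 0
    · simp [h]
    · have := FiniteField.pow_card_sub_one_eq_one _ h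
      rw [hK] at this
      exact eq_inv_of_mul_eq_one_left (by linear_combination this)
  · obtain ⟨a, ha⟩ := (Finite.injective_iff_surjective_of_equiv (f := fun a : Fin 4 => ev a)
      (Fintype.equivOfCardEq (by simp [hK]))).mp (fun a b h => Fin.ext (hinj _ a.2 _ b.2 h)) x
    exact ⟨a, a.2, ha⟩

theorem res_four (hK : Fintype.card K = 4) {τ : K →+* K} (hτ : ∀ a, τ a = a ^ 2) {m : ℕ}
    (hm : 2 ≤ m) : ∃ D, Res τ m D := by
  obtain ⟨c⟩ := exists_enc_four hK hτ
  have h2 : (2 : K) = 0 := by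
    have := c.ev_m1
    rw [show o4.m1 = 1 from rfl, c.ev_one] at this
    linear_combination this
  have hττ : ∀ a, τ (τ a) = a := fun a => by
    rw [hτ, hτ, ← pow_mul]; simpa [hK] using FiniteField.pow_card a
  refine ⟨_, res_all hτ (Or.inr ⟨rfl, h2⟩) hττ (D := 3) (lo := 2) (by omega)
    (by omega) (fun m h1 h2 => ?_) m hm⟩
  have hb : ∀ l ∈ [[1, 2], [2, 1], [3, 1], [1, 0, 1], [1, 0, 2], [1, 0, 3]],
      ∃ cs, o4.base l cs = true := by
    simp only [List.forall_mem_cons, List.not_mem_nil, IsEmpty.forall_iff, implies_true, and_true]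
    exact ⟨⟨_, base4_12⟩, ⟨_, base4_21⟩, ⟨_, base4_31⟩, ⟨_, base4_101⟩, ⟨_, base4_102⟩,
      ⟨_, base4_103⟩⟩
  have key : ∀ m ∈ List.range' 2 11, ∃ ls ∈ List.sublists [[1, 2], [2, 1], [3, 1], [1, 0, 1],
      [1, 0, 2], [1, 0, 3]], o4.tabOk [[1, 2], [2, 1], [3, 1], [1, 0, 1], [1, 0, 2], [1, 0, 3]]
      3 ls m = true := by
    decide +kernel
  obtain ⟨ls, -, h⟩ := key m (by simp [List.mem_range'_1]; omega)
  exact c.res_of_tab hττ hb h

end Fields

end Cfsg.Agent.Ore
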