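import Cfsg.Agent.Ore.Adj
import Cfsg.Agent.Ore.Lev
import Cfsg.Agent.Ore.Small

/-!
Good factorisations in all the cases needed.
-/

set_option autoImplicit false

open Polynomial Module

namespace Cfsg.Agent.Ore

open Cfsg.Agent.GLn Cfsg.Agent.Fac Cfsg.Agent.Forms Cfsg.Agent.Polar

universe u

variable {K : Type u} [Field K] {τ : K →+* K}

theorem coprime_of_ne {f g : K[X]} (hf : Irreducible f) (hg : Irreducible g) (hf' : f.Monic)
    (hg' : g.Monic) (h : f ≠ g) : IsCoprime f g :=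
  hf.coprime_iff_not_dvd.mpr fun hd => h (eq_of_monic_of_associated hf' hg'
    (hf.associated_of_dvd hg hd))

theorem dualP_X_sub_C {a : K} (ha : a ≠ 0) : dualP τ (X - C a) = X - C (τ a)⁻¹ := by
  have h0 : (X - C a).coeff 0 ≠ 0 := by simpa using ha
  rw [(monic_dualP h0).eq_X_add_C (by rw [natDegree_dualP h0, natDegree_X_sub_C]),
    coeff_zero_dualP (monic_X_sub_C a)]
  simp [inv_neg, sub_eq_add_neg]

theorem dualP_quad (s : K) {δ : K} (h : δ ≠ 0) :
    dualP τ (quad s δ) = quad ((τ δ)⁻¹ * τ s) (τ δ)⁻¹ := by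
  have h0 : (quad s δ).coeff 0 ≠ 0 := by rwa [coeff_zero_quad]
  rw [eq_quad (monic_dualP h0) (by rw [natDegree_dualP h0, natDegree_quad]),
    coeff_zero_dualP (monic_quad s δ), coeff_dualP, natDegree_quad, coeff_zero_quad]
  simp [quad, revAt_le]

variable {E : Type u} [AddCommGroup E] [Module K E] [FiniteDimensional K E] {M : End K E}

theorem det_of_charpoly {Y : End K E} {q : K[X]} (h : Y.charpoly = q) :
    LinearMap.det Y = (-1) ^ finrank K E * q.coeff 0 := h ▸ LinearMap.det_eq_sign_charpoly_coeff Y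

theorem out_lev [Finite K] (hτ : ∀ a, τ (τ a) = a) (h : Big K 4) {a s δ : K} (ha : a ≠ 0)
    (ha' : a * τ a ≠ 1) (he : SL2.Ell s δ) (hs : s ≠ 0) (hq : quad s δ ≠ dualP τ (quad s δ))
    {k : ℕ} (hd : finrank K E = k + 3) (hM : LinearMap.det M = 1) (hns : NS M) :
    Out τ M fun Y => DetFull Y ∧ LinearMap.det Y = a ^ (k + 1) * δ := by
  have δ0 : δ ≠ 0 := by rintro rfl; exact he 0 (by simp)
  have i1 := irreducible_quad he
  have m1 := monic_quad s δ
  have h0 : (quad s δ).coeff 0 ≠ 0 := by rwa [coeff_zero_quad]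
  have i2 := irreducible_dualP hτ m1 h0 i1
  have key : ∀ (b : K) {g : K[X]}, Irreducible g → g.Monic → g.natDegree = 2 →
      IsCoprime (X - C b) g := fun b g h1 h2 h3 =>
    coprime_of_ne (irreducible_X_sub_C b) h1 (monic_X_sub_C b) h2 fun h => by simp [← h] at h3
  refine (out_of_fct (lev h ha he hs hd hM hns) (by
    rw [mul_comm]
    exact simple_mul_splits i1 (pow_ne_zero _ (X_sub_C_ne_zero a)) ((Splits.X_sub_C a).pow _)) ?_
    (by simp [coeff_zero_pow_X_sub_C, coeff_zero_quad, ha, δ0])).mono fun Y hX => ⟨?_, ?_⟩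
  · rw [dualP_mul, dualP_pow, dualP_X_sub_C ha]
    refine IsCoprime.mul_left (IsCoprime.mul_right (IsCoprime.pow ?_) (IsCoprime.pow_left ?_))
      (IsCoprime.mul_right (key _ i1 m1 (natDegree_quad _ _)).symm.pow_right
        (coprime_of_ne i1 i2 m1 (monic_dualP h0) hq))
    · exact isCoprime_X_sub_C_of_isUnit_sub (isUnit_iff_ne_zero.mpr (sub_ne_zero.mpr fun h => ha'
        ((mul_eq_one_iff_eq_inv₀ (by simpa using ha)).mpr h)))
    · exact key _ i2 (monic_dualP h0) (by rw [natDegree_dualP h0, natDegree_quad])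
  · exact detFull_of_simple i1 m1 (key a i1 m1 (natDegree_quad _ _)).symm.pow_right
      (hX.trans (mul_comm _ _))
  · rw [det_of_charpoly hX, hd, mul_coeff_zero, coeff_zero_pow_X_sub_C, coeff_zero_quad, neg_pow a,
      show k + 3 = k + 1 + 2 from rfl, pow_add]
    have : (-1 : K) ^ (k + 1) * (-1) ^ (k + 1) = 1 := by rw [← mul_pow]; simp
    linear_combination a ^ (k + 1) * δ * this

theorem out_of_res [Finite K] (hτ : ∀ a, τ (τ a) = a) {m : ℕ} (h : ∃ D, Res τ m D) (hm : 0 < m)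
    (hd : finrank K E = m) (hM : LinearMap.det M = 1) (hns : NS M) :
    Out τ M fun Y => DetFull Y ∧ LinearMap.det Y = 1 := by
  obtain ⟨D, h⟩ := h
  obtain ⟨q, h1, h2, h3, -⟩ := h E M hd hM hns
  exact (out_of_mix hτ h1 h2 (by simp [h3])).mono fun Y hY =>
    ⟨detFull_of_separable (hY ▸ h2.of_mul_left) (by omega), by
      rw [det_of_charpoly hY, hd, h3, ← mul_pow]; simp⟩

theorem out_one [Finite K] (hτ : ∀ a, τ (τ a) = a) {a : K} (ha : a ≠ 0) (ha' : a * τ a ≠ 1)
    (hd : finrank K E = 1) (hM : LinearMap.det M = 1) :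
    Out τ M fun Y => DetFull Y ∧ LinearMap.det Y = a := by
  obtain rfl : M = 1 := by simpa [hM] using eq_smul_of_sim_sc (sim_sc hd M)
  have hs : ((X - C a) * dualP τ (X - C a)).Separable := by
    rw [dualP_X_sub_C ha]
    exact separable_X_sub_C.mul separable_X_sub_C (isCoprime_X_sub_C_of_isUnit_sub
      (isUnit_iff_ne_zero.mpr (sub_ne_zero.mpr fun h => ha' ((mul_eq_one_iff_eq_inv₀ (by simpa using ha)).mpr h))))
  exact (out_of_mix hτ (mix_one (monic_X_sub_C a) (by simp [hd])) hs (by simpa using ha)).mono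
    fun Y hY => ⟨detFull_of_separable (hY ▸ separable_X_sub_C) (by omega), by
      simp [det_of_charpoly hY, hd]⟩

theorem out_bil [Fintype K] (hd : 3 ≤ finrank K E) (hM : LinearMap.det M = 1) (hns : NS M) :
    Out (RingHom.id K) M fun Y => DetFull Y ∧ IsSquare (LinearMap.det Y) := by
  have h2 : 2 ≤ Fintype.card K := Fintype.one_lt_card
  rcases h2.eq_or_lt with h2 | h2
  · exact (out_of_res (by simp) (res_two h2.symm hd) (by omega) rfl hM hns).mono
      fun Y h => ⟨h.1, h.2 ▸ IsSquare.one⟩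
  rcases (show 3 ≤ _ from h2).eq_or_lt with h3 | h3
  · exact (out_of_res (by simp) (res_three h3.symm hd) (by omega) rfl hM hns).mono
      fun Y h => ⟨h.1, h.2 ▸ IsSquare.one⟩
  obtain ⟨a, a0, a1, a2⟩ := exists_sq_ne_one (F := K) h3
  have a3 : a * a ≠ 1 := fun h => a2 (eq_inv_of_mul_eq_one_left h)
  obtain ⟨k, hk⟩ : ∃ k, finrank K E = k + 3 := ⟨finrank K E - 3, by omega⟩
  obtain ⟨δ, δ0, δ1, δ2⟩ : ∃ δ : K, δ ≠ 0 ∧ δ ≠ 1 ∧ IsSquare (a ^ (k + 1) * δ) := by
    rcases Nat.even_or_odd' k with ⟨j, rfl | rfl⟩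
    · exact ⟨a, a0, a1, a ^ (j + 1), by ring⟩
    · exact ⟨a * a, mul_ne_zero a0 a0, a3, a ^ (j + 2), by ring⟩
  obtain ⟨s, s0, he⟩ := exists_ell_ne (big_of_card h3) δ0
  refine (out_lev (by simp) (big_of_card h3) a0 a3 he s0 (fun h => δ1 ?_) hk hM hns).mono
    fun Y h => ⟨h.1, h.2 ▸ δ2⟩
  rw [dualP_quad s δ0] at h
  have := (quad_inj h).1
  simp only [RingHom.id_apply] at this
  field_simp at this
  exact this

variable [Fintype K] {q : ℕ} (hF : Fintype.card K = q ^ 2)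

theorem exists_prim (hq : q ≠ 2) : ∃ a : K, a ≠ 0 ∧ a * frobq hF a ≠ 1 ∧ frobq hF a ≠ a := by
  have h2 := two_le_q hF
  obtain ⟨a, a0, ha⟩ := exists_orderOf_eq_of_dvd K (m := q ^ 2 - 1) (by simp [hF])
  obtain ⟨r, rfl⟩ : ∃ r, q = r + 3 := ⟨q - 3, by omega⟩
  have e : (r + 3) ^ 2 - 1 = r * r + 6 * r + 8 := by
    rw [show (r + 3) ^ 2 = r * r + 6 * r + 8 + 1 by ring]; rfl
  refine ⟨a, a0, fun h => ?_, fun h => ?_⟩
  · rw [frobq_apply, ← pow_succ', ← orderOf_dvd_iff_pow_eq_one, ha, e] at h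
    have := Nat.le_of_dvd (by omega) h
    omega
  · rw [frobq_apply, pow_succ, mul_eq_right₀ a0, ← orderOf_dvd_iff_pow_eq_one, ha, e] at h
    have := Nat.le_of_dvd (by omega) h
    omega

theorem out_uni (hd : 2 ≤ finrank K E) (hM : LinearMap.det M = 1) (hns : NS M) :
    Out (frobq hF) M fun Y => DetFull Y ∧ frobq hF (LinearMap.det Y) = LinearMap.det Y := by
  have hτ := frobq_frobq hF
  by_cases hq : q = 2
  · subst hq
    exact (out_of_res hτ (res_four hF (fun _ => rfl) hd) (by omega) rfl hM hns).mono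
      fun Y h => ⟨h.1, by simp [h.2]⟩
  obtain ⟨a, a0, a1, a2⟩ := exists_prim hF hq
  have t0 : frobq hF a ≠ 0 := by simpa using a0
  rcases hd.eq_or_lt with hd | hd
  · have a3 : a ≠ a⁻¹ := fun h => by
      have : a * a = 1 := (mul_eq_one_iff_eq_inv₀ a0).mpr h
      rcases mul_self_eq_one_iff.mp this with rfl | rfl <;> simp at a2
    have hs : ((X - C a) * (X - C a⁻¹) * dualP (frobq hF) ((X - C a) * (X - C a⁻¹))).Separable := by
      rw [dualP_mul, dualP_X_sub_C a0, dualP_X_sub_C (inv_ne_zero a0), map_inv₀ (frobq hF),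
        inv_inv]
      have := separable_of_nodup (L := [a, a⁻¹, (frobq hF a)⁻¹, frobq hF a].map fun c => X - C c)
        (by simp [irreducible_X_sub_C, monic_X_sub_C]) (List.Nodup.map (fun a b h => by
          simpa using h) (by
          have e1 : a ≠ (frobq hF a)⁻¹ := fun h => a1 ((mul_eq_one_iff_eq_inv₀ t0).mpr h)
          have e2 : a⁻¹ ≠ frobq hF a := fun h => a1 (by simp [← h, a0])
          have e3 : (frobq hF a)⁻¹ ≠ frobq hF a := fun h => a3 ((frobq hF).injective (by simp [h]))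
          simp [a3, e1, e2, e3, a2.symm]))
      simpa [mul_assoc] using this
    refine (out_of_mix hτ (FP.mix ?_) hs (by simp [a0])).mono fun Y hY =>
      ⟨detFull_of_separable (hY ▸ hs.of_mul_left) (by omega), by simp [det_of_charpoly hY, ← hd, a0]⟩
    by_cases h1 : M = 1
    · obtain ⟨B, hB⟩ := exists_charpoly (V := E) ((monic_X_sub_C a).mul (monic_X_sub_C a⁻¹))
        (by rw [(monic_X_sub_C a).natDegree_mul (monic_X_sub_C a⁻¹), ← hd]; simp)
      exact ⟨B, hB, by rw [h1, one_mul, hB]⟩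
    · obtain ⟨B, -, -, h2, h3⟩ := fct_two_split hd.symm (hns.of_ne h1) a3 a3 (by simp [hM])
      exact ⟨B, h2, h3⟩
  obtain ⟨k, hk⟩ : ∃ k, finrank K E = k + 3 := ⟨finrank K E - 3, by omega⟩
  have hb : Big K 4 := big_of_card (by have := two_le_q hF; rw [hF]; nlinarith)
  have b0 : a ^ (k + 1) ≠ 0 := pow_ne_zero _ a0
  obtain ⟨c, c0, c1, c2⟩ : ∃ c : K, c ≠ 0 ∧ frobq hF c = c ∧
      ((2 : K) = 0 → c / a ^ (k + 1) * frobq hF (c / a ^ (k + 1)) ≠ 1) := by
    obtain ⟨t, t1, t2, t3⟩ := PQ.exists_fixed_ne hF hq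
    by_cases h : 1 / a ^ (k + 1) * frobq hF (1 / a ^ (k + 1)) = 1
    · refine ⟨t, t2, t1, fun h2 h3 => t3 ?_⟩
      rw [div_eq_mul_one_div, map_mul, t1] at h3
      refine sub_eq_zero.mp (pow_eq_zero_iff (n := 2) two_ne_zero |>.mp ?_)
      linear_combination h3 - t * t * h + (1 - t) * h2
    · exact ⟨1, one_ne_zero, map_one _, fun _ => h⟩
  have δ0 := div_ne_zero c0 b0
  obtain ⟨s, s0, he⟩ := exists_ell_ne hb δ0
  refine (out_lev hτ hb a0 a1 he s0 (fun h => ?_) hk hM hns).mono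
    fun Y h => ⟨h.1, by rw [h.2, mul_div_cancel₀ _ b0, c1]⟩
  generalize c / a ^ (k + 1) = δ at *
  rw [dualP_quad s δ0] at h
  obtain ⟨e1, e2⟩ := quad_inj h
  have τ0 : frobq hF δ ≠ 0 := by simpa using δ0
  have e3 : δ * frobq hF δ = 1 := (mul_eq_one_iff_eq_inv₀ τ0).mpr e2
  by_cases h2 : (2 : K) = 0
  · exact c2 h2 e3
  rw [← e2] at e1
  have hc : ringChar K ≠ 2 := fun h => h2 ((ringChar.spec K 2).mpr (h ▸ dvd_rfl))
  have d0 := sub_ne_zero.mpr he.disc
  obtain ⟨j, rfl⟩ : Odd q := by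
    have := FiniteField.odd_card_of_char_ne_two hc
    rw [hF] at this
    exact (Nat.odd_pow_iff two_ne_zero).mp (Nat.odd_iff.mpr this)
  obtain ⟨r, hr⟩ := (FiniteField.isSquare_iff hc d0).mpr (by
    have e4 : (s ^ 2 - 4 * δ) ^ (2 * j) * δ ^ 2 = 1 := by
      refine mul_right_cancel₀ d0 ?_
      have : frobq hF (s ^ 2 - 4 * δ) = (s ^ 2 - 4 * δ) ^ (2 * j) * (s ^ 2 - 4 * δ) := pow_succ _ _
      rw [mul_right_comm, ← this, map_sub, map_mul, map_pow, map_ofNat]
      linear_combination -(s + δ * frobq hF s) * e1 - 4 * δ * e3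
    have e5 : (δ ^ 2) ^ (j + 1) = 1 := by
      rw [← e3, frobq_apply]; ring
    have e6 := congrArg (· ^ (j + 1)) e4
    simp only [mul_pow, e5, mul_one, one_pow] at e6
    rw [hF, show (2 * j + 1) ^ 2 / 2 = 2 * j * (j + 1) by
      rw [show (2 * j + 1) ^ 2 = 1 + 2 * (2 * j * (j + 1)) by ring]; omega, pow_mul, e6])
  exact he ((s + r) / 2) (by field_simp; linear_combination -hr)

theorem out_uni_one (hq : q ≠ 2) (hd : finrank K E = 1) (hM : LinearMap.det M = 1) :
    Out (frobq hF) M fun Y => DetFull Y ∧ ∃ s, s * frobq hF s = 1 ∧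
      s ^ 3 * LinearMap.det Y = frobq hF (LinearMap.det Y) := by
  have hτ := frobq_frobq hF
  obtain ⟨a, a0, a1, a2⟩ := exists_prim hF hq
  have t0 : frobq hF a ≠ 0 := by simpa using a0
  by_cases h3 : q = 3
  · refine (out_one hτ a0 a1 hd hM).mono fun Y h => ⟨h.1, a / frobq hF a, ?_, ?_⟩
    · rw [map_div₀, hτ]; field_simp
    · subst h3
      have := FiniteField.pow_card_sub_one_eq_one a a0
      rw [h.2, frobq_apply]
      rw [hF] at this
      field_simp
      linear_combination -this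
  · have h2 := two_le_q hF
    obtain ⟨b, b0, hb⟩ := exists_orderOf_eq_of_dvd K (m := q - 1) (by
      simpa [hF] using Nat.sub_one_dvd_pow_sub_one q 2)
    have b1 : frobq hF b = b := by
      rw [frobq_apply, show q = q - 1 + 1 by omega, pow_succ, ← hb, pow_orderOf_eq_one, one_mul]
    refine (out_one hτ b0 (fun h => ?_) hd hM).mono fun Y h => ⟨h.1, 1, by simp, by simp [h.2, b1]⟩
    rw [b1, ← sq, ← orderOf_dvd_iff_pow_eq_one, hb] at h
    have := Nat.le_of_dvd (by omega) h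
    omega

end Cfsg.Agent.Ore
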