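import Cfsg.Agent.Ore.Levi

/-!
Parabolic subgroups of hyperbolic families and the factorisation of `u⁻ l u⁺`.
-/

set_option autoImplicit false

open Polynomial Module Matrix

namespace Cfsg.Agent.Ore

open Cfsg.Agent.GLn Cfsg.Agent.Fac Cfsg.Agent.Forms Cfsg.Agent.Polar Cfsg.Agent.Polar.PQ

variable {F : Type*} [Field F] {τ : F →+* F}
variable {π : Polar.FP F τ} {V : Type*} [AddCommGroup V] [Module F V] {P : PQ π V}
variable {ι : Type*} [Fintype ι] [DecidableEq ι]
variable {e f : ι → V} {x y : P.Iso} {A D A' D' : Matrix ι ι F}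

theorem eval_one_ne_zero {q : F[X]} (h0 : q.coeff 0 ≠ 0) (h : IsCoprime q (dualP τ q)) :
    q.eval 1 ≠ 0 ∧ (dualP τ q).eval 1 ≠ 0 := by
  have key : (dualP τ q).eval 1 = (τ (q.coeff 0))⁻¹ * τ (q.eval 1) := by
    have : Invertible (1 : F) := invertibleOne
    have h1 := eval₂_reverse_mul_pow (RingHom.id F) (1 : F) (q.map τ)
    rw [invOf_one', one_pow, mul_one, eval₂_id, eval₂_id] at h1
    rw [dualP, eval_mul, eval_C, h1, ← eval₂_at_one, eval_map]
  obtain ⟨a, b, hab⟩ := h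
  have h1 : q.eval 1 ≠ 0 := fun h => by simpa [key, h] using congrArg (eval 1) hab
  exact ⟨h1, by simp [key, h0, h1]⟩

variable (P) in
/-- The compression of an isometry. -/
def cm (e f : ι → V) (g : P.Iso) : Matrix ι ι F := Matrix.of fun i j => P.B (g • e j) (f i)

omit [DecidableEq ι] in
theorem cm_mulVec (g : P.Iso) (a : ι → F) : cm P e f g *ᵥ a = co P f (g • lc e a) := by
  ext i
  simp [act_lc, co_apply, B_lc_left, cm, mulVec, dotProduct, mul_comm]

omit [Fintype ι] [DecidableEq ι] in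
theorem cm_swap (g : P.Iso) : cm P f (π.ε • e) g⁻¹ = (cm P e f g)ᵀ.map τ := by
  ext i j
  simp [cm, π.tau_eps, ← B_act_right, tau_B]

namespace HF
variable (h : HF P e f)

/-- The parabolic subgroup, without the isometries of the complement. -/
def PX : Subgroup P.Iso where
  carrier := {g | ∀ v, co P e v = 0 → ∃ a : ι → F, g • v = v + lc e a}
  one_mem' v _ := ⟨0, by simp⟩
  mul_mem' := fun {g k} hg hk v hv => by
    obtain ⟨a, ha⟩ := hk v hv
    obtain ⟨b, hb⟩ := hg (k • v) (by simp [ha, hv, h.co_ee])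
    exact ⟨a + b, by rw [mul_smul, hb, ha, map_add, add_assoc]⟩
  inv_mem' := fun {g} hg v hv => by
    obtain ⟨a, ha⟩ := hg (g⁻¹ • v) (funext fun i => by
      obtain ⟨b, hb⟩ := hg (e i) (funext (h.ee i))
      rw [co_apply, B_act_left, inv_inv, hb, map_add, B_lc, ← co_apply, hv]; simp)
    exact ⟨-a, by rw [smul_inv_smul] at ha; rw [map_neg, ← sub_eq_add_neg, eq_sub_iff_add_eq, ← ha]⟩

/-- The unipotent radical. -/
def UX : Subgroup P.Iso := h.PX ⊓ ⨅ a : ι → F, MulAction.stabilizer P.Iso (lc e a)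

theorem mem_UX {u : P.Iso} : u ∈ h.UX ↔ u ∈ h.PX ∧ ∀ a : ι → F, u • lc e a = lc e a := by
  simp [UX, Subgroup.mem_iInf]

theorem PX_lc {g : P.Iso} (hg : g ∈ h.PX) (a : ι → F) : g • lc e a = lc e (cm P e f g *ᵥ a) := by
  obtain ⟨b, hb⟩ := hg _ (h.co_ee a)
  rw [cm_mulVec, hb, ← map_add, h.co_fe]

theorem cm_mul (g : P.Iso) {b : P.Iso} (hb : b ∈ h.PX) :
    cm P e f (g * b) = cm P e f g * cm P e f b :=
  toLin'.injective (LinearMap.ext fun a => by
    rw [toLin'_apply, toLin'_apply, ← mulVec_mulVec, cm_mulVec, cm_mulVec g, mul_smul, h.PX_lc hb])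

theorem cm_mul' {a : P.Iso} (ha : a ∈ h.swap.PX) (g : P.Iso) :
    cm P e f (a * g) = cm P e f a * cm P e f g := by
  have := h.swap.cm_mul g⁻¹ (inv_mem ha)
  rw [← _root_.mul_inv_rev, cm_swap, cm_swap, cm_swap, ← Matrix.map_mul, ← transpose_mul] at this
  ext i j
  exact τ.injective (congrFun (congrFun this j) i)

include h in
theorem cm_lev (hx : Lev P x e f A D) : cm P e f x = A :=
  toLin'.injective (LinearMap.ext fun a => by
    rw [toLin'_apply, toLin'_apply, cm_mulVec, hx.l, h.co_fe])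

theorem lev_mem (hx : Lev P x e f A D) : x ∈ h.PX := fun v hv => by
  obtain ⟨a, b, w, hw, rfl⟩ := h.exists_decomp v
  obtain rfl : b = 0 := by simpa [h.co_ee, h.co_ef, hw.1, π.eps_ne_zero] using hv
  exact ⟨A *ᵥ a - a, by simp [hx.l, hx.w w hw]; abel⟩

theorem conj_mem_UX {g u : P.Iso} (hg : g ∈ h.PX) (hu : u ∈ h.UX) : g * u * g⁻¹ ∈ h.UX :=
  h.mem_UX.mpr ⟨mul_mem (mul_mem hg (h.mem_UX.mp hu).1) (inv_mem hg), fun a => by
    rw [mul_smul, mul_smul, h.PX_lc (inv_mem hg), (h.mem_UX.mp hu).2, ← h.PX_lc (inv_mem hg),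
      smul_inv_smul]⟩

theorem det_cm_of_mem {b : P.Iso} (hb : b ∈ ⨆ i, P.U (e i)) :
    b ∈ h.PX ∧ (cm P e f b).det = 1 := by
  induction hb using Subgroup.iSup_induction' with
  | hp i u hu =>
    refine ⟨fun v hv => ?_, ?_⟩
    · obtain ⟨a, ha⟩ := hu.2 v (congrFun hv i)
      exact ⟨Pi.single i a, by simp [ha]⟩
    · choose a ha using fun j => hu.2 (e j) (h.ee j i)
      have h0 : a i = 0 := by
        have := ha i
        rw [hu.1, left_eq_add] at this
        exact (smul_eq_zero.mp this).resolve_right (h.hyp i).left_ne_zero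
      have : cm P e f u = 1 + replicateCol Unit (Pi.single i (1 : F)) * replicateRow Unit a := by
        ext k j
        simp [cm, ha, h.ef, mul_apply, one_apply, Pi.single_apply, eq_comm]
      rw [this, det_one_add_replicateCol_mul_replicateRow]
      simp [h0]
  | h1 => exact ⟨one_mem _, by rw [h.cm_lev Lev.one, det_one]⟩
  | hmul a b _ _ ha hb => exact ⟨mul_mem ha.1 hb.1, by rw [h.cm_mul _ hb.1, det_mul, ha.2, hb.2, one_mul]⟩

theorem det_cm_of_mem' {a : P.Iso} (ha : a ∈ ⨆ i, P.U (f i)) :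
    a ∈ h.swap.PX ∧ (cm P e f a).det = 1 := by
  refine ⟨(h.swap.det_cm_of_mem ha).1, ?_⟩
  have := (h.swap.det_cm_of_mem (inv_mem ha)).2
  rw [cm_swap, show ∀ M : Matrix ι ι F, M.map τ = τ.mapMatrix M from fun _ => rfl,
    ← RingHom.map_det, det_transpose] at this
  exact τ.injective (by rw [this, map_one])

theorem inv_mul_mem_UX {b : P.Iso} (hb : b ∈ h.PX) (hx : Lev P x e f (cm P e f b) D) :
    x⁻¹ * b ∈ h.UX :=
  h.mem_UX.mpr ⟨mul_mem (inv_mem (h.lev_mem hx)) hb, fun a => by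
    rw [mul_smul, h.PX_lc hb, ← hx.l, inv_smul_smul]⟩

theorem mul_inv_mem_UX {a : P.Iso} (ha : a ∈ h.swap.PX) (hx : Lev P x e f (cm P e f a) D) :
    a * x⁻¹ ∈ h.swap.UX := by
  have h1 := h.swap.lev_mem hx.swap
  have h2 : x * a⁻¹ ∈ h.swap.UX := h.swap.mem_UX.mpr ⟨mul_mem h1 (inv_mem ha), fun b => by
    rw [mul_smul, ← eq_inv_smul_iff, h.swap.PX_lc (inv_mem ha), h.swap.PX_lc (inv_mem h1), cm_swap,
      cm_swap, h.cm_lev hx]⟩
  simpa using inv_mem h2

theorem fpf [FiniteDimensional F V] (hP : P.ND) (hx : Lev P x e f A D)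
    (hc : IsCoprime A.charpoly D.charpoly) (h1 : A.charpoly.eval 1 ≠ 0) {u : P.Iso}
    (hu : u ∈ h.UX) (hux : u * x = x * u) : u = 1 := by
  obtain ⟨u1, u2⟩ := h.mem_UX.mp hu
  let xL : End F V := (x : V ≃ₗ[F] V)
  let N : End F V := ((u : V ≃ₗ[F] V) : V →ₗ[F] V) - LinearMap.id
  have hN : ∀ v, N v = u • v - v := fun _ => rfl
  have hxL : ∀ v, xL v = x • v := fun _ => rfl
  have hNx : ∀ v, N (xL v) = xL (N v) := fun v => by
    rw [hN, hN, hxL, hxL, smul_sub, ← mul_smul, hux, mul_smul]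
  have k1 : ∀ a : ι → F, aeval xL A.charpoly (lc e a) = 0 := fun a => by
    rw [← aeval_intertwine (S := toLin' A) (lc e) (fun a => by rw [hxL, hx.l, toLin'_apply]),
      ← charpoly_toLin', LinearMap.aeval_self_charpoly]; simp
  have k2 : ∀ v, co P e (aeval xL D.charpoly v) = 0 := fun v => by
    have := aeval_intertwine (S := xL) (T := toLin' D) (co P (π.ε • e))
      (fun v => by rw [hxL, h.swap.co_lev hx.swap, toLin'_apply]) D.charpoly v
    rw [← charpoly_toLin' D, LinearMap.aeval_self_charpoly, charpoly_toLin', co_eps] at this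
    simpa [π.eps_ne_zero] using this
  have k3 : ∀ v, co P e v = 0 → N v = 0 := fun v hv => by
    obtain ⟨a, ha⟩ := u1 v hv
    obtain ⟨b, hb⟩ := h.lev_mem hx v hv
    have e1 : N v = lc e a := by rw [hN, ha, add_sub_cancel_left]
    have e2 : xL (N v) = (1 : F) • N v := by
      rw [← hNx, hxL, hb, map_add, hN (lc e b), u2, sub_self, add_zero, one_smul]
    have := Module.End.aeval_apply_of_mem_apply_eq_smul (p := A.charpoly) e2
    rw [e1, k1, ← e1] at this
    exact (smul_eq_zero.mp this.symm).resolve_left h1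
  have k4 : ∀ v, ∃ a : ι → F, N v = lc e a := fun v => by
    obtain ⟨a, b, w, hw, hv⟩ := h.exists_decomp (N v)
    have e1 : ∀ z, co P e z = 0 → P.B z (N v) = 0 := fun z hz => by
      have := k3 z hz
      rw [hN, sub_eq_zero] at this
      rw [hN, map_sub, B_act_right, ← this, inv_smul_smul, this, sub_self]
    have b0 : b = 0 := by
      have : co P e (N v) = 0 := funext fun i => B_swap_zero (e1 _ (funext (h.ee i)))
      simpa [hv, h.co_ee, h.co_ef, hw.1, π.eps_ne_zero] using this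
    have w0 : w = 0 := hP.right fun z => by
      obtain ⟨a', b', w', hw', rfl⟩ := h.exists_decomp z
      have e2 := h.B_combo hw' hw a' b' 0 0
      have e3 := h.B_combo hw' hw 0 0 a b
      have e4 := e1 w' hw'.1
      rw [← hv] at e3
      simp only [map_zero, zero_add, add_zero, e4, zero_dotProduct, mul_zero] at e2 e3
      simpa [← e3] using e2
    exact ⟨a, by simp [hv, b0, w0]⟩
  obtain ⟨p, q, hpq⟩ := hc
  refine PQ.iso_ext fun v => ?_
  have e1 := LinearMap.congr_fun (congrArg (aeval xL) hpq) v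
  rw [map_one, Module.End.one_apply, map_add, mul_comm q, map_mul, map_mul] at e1
  rw [one_smul, ← sub_eq_zero, ← hN, ← e1, LinearMap.add_apply, map_add, Module.End.mul_apply,
    Module.End.mul_apply, k3 _ (k2 _), add_zero, aeval_intertwine N hNx, aeval_intertwine N hNx]
  obtain ⟨a, ha⟩ := k4 v
  rw [ha, k1, map_zero]

theorem exists_conj [Finite V] [FiniteDimensional F V] (hP : P.ND) (hx : Lev P x e f A D)
    (hc : IsCoprime A.charpoly (dualP τ A.charpoly)) :
    (∀ u ∈ h.UX, ∃ v ∈ h.UX, u * x = v * x * v⁻¹) ∧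
      ∀ u ∈ h.swap.UX, ∃ v ∈ h.swap.UX, u * x = v * x * v⁻¹ := by
  have a0 := left_ne_zero_of_mul_eq_one (dualM_det (h.dual hx))
  rw [det_eq_sign_charpoly_coeff] at a0
  obtain ⟨h1, h2⟩ := eval_one_ne_zero (right_ne_zero_of_mul a0) hc
  rw [← charpoly_dualM π.tau_tau (h.dual hx)] at hc h2
  exact ⟨fun u hu => exists_conj_of_fpf _ (fun u hu => h.conj_mem_UX (h.lev_mem hx) hu)
      (fun u hu => h.fpf hP hx hc h1 hu) hu,
    fun u hu => exists_conj_of_fpf _ (fun u hu => h.swap.conj_mem_UX (h.swap.lev_mem hx.swap) hu)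
      (fun u hu => h.swap.fpf hP hx.swap hc.symm h2 hu) hu⟩

include h in
/-- The basic factorisation. -/
theorem factor [Finite V] [FiniteDimensional F V] (hP : P.ND) {a b : P.Iso}
    (ha : a ∈ ⨆ i, P.U (f i)) (hb : b ∈ ⨆ i, P.U (e i)) {B : Matrix ι ι F}
    (hx : Lev P x e f (cm P e f (a * b) * B) D) (hy : Lev P y e f B D')
    (hc : IsCoprime (cm P e f (a * b) * B).charpoly (dualP τ (cm P e f (a * b) * B).charpoly))
    (hc' : IsCoprime B.charpoly (dualP τ B.charpoly)) {H : Subgroup P.Iso} [hH : H.Normal]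
    {z : P.Iso} (hz : ∀ g, z * g = g * z) (hzx : z * x ∈ H) :
    ∃ u ∈ H, ∃ v ∈ H, a * b = u * x * u⁻¹ * (v * y * v⁻¹)⁻¹ := by
  obtain ⟨a1, a2⟩ := h.det_cm_of_mem' ha
  obtain ⟨b1, b2⟩ := h.det_cm_of_mem hb
  obtain ⟨l, L, hl⟩ := h.exists_lev' hP (A := cm P e f b) (by simp [b2])
  obtain ⟨k, K, hk⟩ := h.exists_lev' hP (A := cm P e f (a * b)) (by simp [h.cm_mul _ b1, a2, b2])
  have e1 := h.inv_mul_mem_UX b1 hl
  have e2 := h.mul_inv_mem_UX (a := a * l) (x := k) (mul_mem a1 (h.swap.lev_mem hl.swap))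
    (by rwa [h.cm_mul _ (h.lev_mem hl), h.cm_lev hl, ← h.cm_mul _ b1])
  have e3 := h.lev_unique (hk.mul hy) hx
  obtain ⟨x1, x2⟩ := h.exists_conj hP hx hc
  have key : ∀ u v, u * x = v * x * v⁻¹ → u ∈ H := fun u v huv => by
    have : u = v * (z * x) * v⁻¹ * (z * x)⁻¹ := by
      rw [← mul_assoc, ← hz, mul_assoc z, mul_assoc z, ← huv, ← mul_assoc, hz]; group
    exact this ▸ mul_mem (hH.conj_mem _ hzx _) (inv_mem hzx)
  obtain ⟨u, hu, k1⟩ := x2 _ e2
  obtain ⟨v, hv, k2⟩ := (h.exists_conj hP hy hc').1 _ (inv_mem e1)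
  obtain ⟨u', -, k3⟩ := x2 u hu
  obtain ⟨v', -, k4⟩ := x1 v hv
  exact ⟨u, key _ _ k3, v, key _ _ k4, by rw [← k1, ← k2, ← e3]; group⟩

end HF

end Cfsg.Agent.Ore
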