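import Cfsg.Agent.Ore.OreU

/-!
A class in `Sp₄` whose square covers all non-central elements.
-/

set_option autoImplicit false

open Polynomial Module Matrix

namespace Cfsg.Agent.Ore

open Cfsg.Agent.GLn Cfsg.Agent.Fac Cfsg.Agent.Forms Cfsg.Agent.Polar Cfsg.Agent.Polar.PQ

universe u

section General
variable {F : Type*} [Field F] {τ : F →+* F}
variable {π : Polar.FP F τ} {V : Type*} [AddCommGroup V] [Module F V] {P : PQ π V}
variable {ι : Type*} [Fintype ι] [DecidableEq ι]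
variable {e f : ι → V} {x y : P.Iso} {A D A' D' : Matrix ι ι F}

theorem Lev.pow (hx : Lev P x e f A D) (n : ℕ) : Lev P (x ^ n) e f (A ^ n) (D ^ n) := by
  induction n with
  | zero => simpa using Lev.one
  | succ n ih => simpa [pow_succ] using ih.mul hx

theorem GD.cm {g : P.Iso} {m : ℕ} (hg : GD P g m) (hm : 0 < m) :
    ∃ e f : Fin m → V, HF P e f ∧ (cm P e f g).det = 1 ∧ NS (toLin' (cm P e f g)) := by
  obtain ⟨e, f, h, ⟨a, ha, b, hb, rfl⟩, h2⟩ := hg
  refine ⟨e, f, h, by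
    simp [h.cm_mul _ (h.det_cm_of_mem hb).1, (h.det_cm_of_mem hb).2, (h.det_cm_of_mem' ha).2],
    fun c hc => ?_⟩
  simpa [Ore.cm, h2 hm, eq_comm] using
    congrFun (LinearMap.congr_fun hc (Pi.single ⟨0, hm⟩ 1)) ⟨0, hm⟩

namespace HF
variable (h : HF P e f)
include h

omit [Fintype ι] in
theorem act (k : P.Iso) : HF P (fun i => k • e i) fun i => k • f i :=
  ⟨fun i => (h.se i).act k, fun i => (h.sf i).act k, by simp [h.ee], by simp [h.ff], by simp [h.ef]⟩

theorem det_cm_ne {b : P.Iso} (hb : b ∈ h.PX) : (cm P e f b).det ≠ 0 := by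
  have := congrArg det (h.cm_mul b⁻¹ hb)
  rw [inv_mul_cancel, h.cm_lev Lev.one, det_one, det_mul] at this
  exact right_ne_zero_of_mul_eq_one this.symm

theorem not_dvd_orderOf [Finite V] (hx : Lev P x e f A D) (hs : A.charpoly.Separable) (p : ℕ)
    [Fact p.Prime] [CharP F p] : ¬ p ∣ orderOf x := by
  have hp : p.Prime := Fact.out
  obtain ⟨a, m, hm, hom⟩ := Nat.exists_eq_pow_mul_and_not_dvd (orderOf_pos x).ne' p hp.one_lt.ne'
  have h1 : A ^ orderOf x = 1 := by
    rw [← h.cm_lev (hx.pow _), pow_orderOf_eq_one, h.cm_lev Lev.one]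
  have h2 : minpoly F A ∣ X ^ m - 1 :=
    (hs.squarefree.squarefree_of_dvd (minpoly_dvd_charpoly A)).isRadical (p ^ a) _
      (minpoly.dvd F A (by
        rw [sub_pow_char_pow, ← pow_mul, mul_comm, ← hom]; simp [h1]))
  have h3 : A ^ m = 1 := by simpa [sub_eq_zero] using minpoly.dvd_iff.mp h2
  exact fun hd => hm (hd.trans (orderOf_dvd_of_pow_eq_one
    (h.lev_unique (h3 ▸ hx.pow m) Lev.one)))

variable [FiniteDimensional F V]

theorem big_cell (hP : P.ND) (hW : Wp P e f = ⊥) {g : P.Iso} (hg : (cm P e f g).det ≠ 0) :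
    ∃ a ∈ h.swap.PX, ∃ b ∈ h.PX, g = a * b := by
  have k := h.act g
  obtain ⟨a, h1, h2, h3⟩ := h.exists_mv hP (e' := Ore.fm (fun i => g • e i) (cm P e f g)⁻¹) (f' := f)
    ⟨fun _ => sing_lc k.se k.ee _, h.sf, fun i j => by simp [Ore.fm, B_lc, k.co_ee], h.ff,
      fun i j => by
        rw [Ore.fm, ← act_lc, ← co_apply, ← cm_mulVec, eq_comm, ← one_apply, ← transpose_one,
          ← mul_nonsing_inv (cm P e f g) (by simpa using hg)]
        rfl⟩ (by simp [hW])
  refine ⟨a, fun v hv => ?_, a⁻¹ * g, fun v hv => ?_, by simp⟩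
  · obtain ⟨c, b, w, hw, rfl⟩ := h.exists_decomp v
    obtain rfl : c = 0 := by simpa [h.co_fe, h.co_ff, hw.2] using hv
    exact ⟨0, by simp [h2, h3 w hw]⟩
  · obtain ⟨c, b, w, hw, rfl⟩ := h.exists_decomp v
    obtain rfl : b = 0 := by simpa [h.co_ee, h.co_ef, hw.1, π.eps_ne_zero] using hv
    obtain rfl : w = 0 := by simpa [hW] using hw
    refine ⟨cm P e f g *ᵥ c - c, ?_⟩
    rw [map_zero, add_zero, add_zero, ← map_add, add_sub_cancel, mul_smul, inv_smul_eq_iff, h1,
      lc_fm, mulVec_mulVec, nonsing_inv_mul _ (by simpa using hg), one_mulVec, act_lc]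

theorem factor' [Finite V] (hP : P.ND) {a b : P.Iso} (ha : a ∈ h.swap.PX) (hb : b ∈ h.PX)
    {B : Matrix ι ι F} (hx : Lev P x e f (cm P e f (a * b) * B) D) (hy : Lev P y e f B D')
    (hc : IsCoprime (cm P e f (a * b) * B).charpoly (dualP τ (cm P e f (a * b) * B).charpoly))
    (hc' : IsCoprime B.charpoly (dualP τ B.charpoly)) :
    ∃ u v, a * b = u * x * u⁻¹ * (v * y * v⁻¹)⁻¹ := by
  obtain ⟨l, L, hl⟩ := h.exists_lev' hP (h.det_cm_ne hb)
  obtain ⟨k, K, hk⟩ := h.exists_lev' hP (A := cm P e f (a * b)) fun h0 =>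
    left_ne_zero_of_mul_eq_one (dualM_det (h.dual hx)) (by rw [det_mul, h0, zero_mul])
  have e1 := h.inv_mul_mem_UX hb hl
  have e2 := h.mul_inv_mem_UX (a := a * l) (x := k) (mul_mem ha (h.swap.lev_mem hl.swap))
    (by rwa [h.cm_mul _ (h.lev_mem hl), h.cm_lev hl, ← h.cm_mul _ hb])
  obtain ⟨u, -, k1⟩ := (h.exists_conj hP hx hc).2 _ e2
  obtain ⟨v, -, k2⟩ := (h.exists_conj hP hy hc').1 _ (inv_mem e1)
  exact ⟨u, v, by rw [← k1, ← k2, ← h.lev_unique (hk.mul hy) hx]; group⟩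

theorem prod_of_mix [Finite V] (hP : P.ND) (hW : Wp P e f = ⊥) {g : P.Iso} {q : F[X]}
    (hm : Mix τ (toLin' (cm P e f g)) q) (hs : (q * dualP τ q).Separable) (h0 : q.coeff 0 ≠ 0)
    {e' f' : ι → V} (h' : HF P e' f') (hW' : Wp P e' f' = ⊥) (hy : Lev P y e' f' A D)
    (hA : A.charpoly = q) : ∃ u v, g = u * y * u⁻¹ * (v * y * v⁻¹)⁻¹ := by
  obtain ⟨B, b1, b2, b3, b4, b5⟩ := out_of_mix π.tau_tau hm hs h0
  obtain ⟨B, rfl⟩ := toLin'.surjective B
  rw [Module.End.mul_eq_comp, ← toLin'_mul] at b3 b4 b5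
  simp only [charpoly_toLin', LinearMap.det_toLin'] at b1 b2 b3 b4 b5
  have b6 : (cm P e f g * B).det ≠ 0 := by simpa [det_eq_sign_charpoly_coeff, b4]
  obtain ⟨a, ha, b, hb, rfl⟩ := h.big_cell hP hW (left_ne_zero_of_mul (det_mul _ B ▸ b6))
  obtain ⟨z, D', hz⟩ := h.exists_lev' hP b1
  obtain ⟨x, D, hx⟩ := h.exists_lev' hP b6
  obtain ⟨u, v, huv⟩ := h.factor' hP ha hb hx hz b3 b2
  obtain ⟨k, rfl⟩ := isConj_iff.mp (b5.elim (h.conj_sim hP hx hz)
    fun ⟨g, k, c1, c2, c3, c4, c5, c6⟩ => h.conj_mix hP hx hz c1 c2 c3 c4 c5 c6)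
  obtain ⟨e₁, f₁, D₁, c1, c2, -⟩ := h.change hx (C := A)
    (sim_of_separable (b4 ▸ hs.of_mul_left) (hA.trans b4.symm))
  obtain ⟨l, rfl⟩ := isConj_iff.mp (h'.conj_lev hP c1 (by simp [hW']) hy c2)
  exact ⟨u * l, v * k * l, by rw [huv]; group⟩

end HF

end General

section Sp
variable {F : Type u} [Field F] {V : Type u} [AddCommGroup V] [Module F V] [FiniteDimensional F V]
variable {P : PQ (spFP F) V}

theorem HF.conj_inv {ι : Type*} [Fintype ι] [DecidableEq ι] {e f : ι → V} (h : HF P e f)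
    (hP : P.ND) {x : P.Iso} {A D : Matrix ι ι F} (hx : Lev P x e f A D)
    (hs : (A.charpoly * dualP (RingHom.id F) A.charpoly).Separable) : IsConj x x⁻¹ := by
  have h1 := h.dual hx
  have h2 : A * Dᵀ = 1 := by
    rw [mul_eq_one_comm, ← transpose_inj]; simpa using h1
  have h3 : Dᵀ.charpoly = dualP (RingHom.id F) A.charpoly := by
    rw [charpoly_transpose, charpoly_dualM (by simp) h1]
  obtain ⟨y, D', hy⟩ := h.exists_lev' hP (A := Dᵀ) fun h0 => by simpa [h0] using congrArg det h2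
  rw [inv_eq_of_mul_eq_one_right (h.lev_unique (h2 ▸ hx.mul hy) Lev.one)]
  exact h.conj_mix hP hx hy monic_one A.charpoly_monic (by simp) (by simpa using h3) hs.of_mul_left
    (h3 ▸ hs.of_mul_right)

theorem sp_gd (hP : P.ND) {g : P.Iso} (hn : NSi P g) : GD P g (finrank F V / 2) :=
  gd_lam (π := spFP F) ⟨1, trivial, one_ne_zero⟩ (fun V _ _ _ _ h => by
      have : Nontrivial V := Module.nontrivial_of_finrank_pos (R := F) (by omega)
      obtain ⟨x, hx⟩ := exists_ne (0 : V)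
      exact ⟨x, hx, trivial⟩) (fun _ _ _ _ _ _ _ => ⟨0, trivial⟩)
    (fun _ _ => trivial) _ V P g hP rfl (sp_det hP g) hn

theorem exists_sym_two [Finite F] (h2 : (2 : F) = 0) {M C : Matrix (Fin 2) (Fin 2) F}
    (hs : Mᵀ * C = Cᵀ * M) (hi : ∀ v, M *ᵥ v = 0 → C *ᵥ v = 0 → v = 0) (hC : C ≠ 0) :
    ∃ S : Matrix (Fin 2) (Fin 2) F, Sᵀ = S ∧ (M + S * C).det = 1 ∧
      ((M + S * C).trace ≠ 0 ∨ M + S * C = 1) := by
  by_cases h0 : C.det = 0
  · obtain ⟨v, v0, hv⟩ := exists_mulVec_eq_zero_iff.mpr h0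
    obtain ⟨u, hu⟩ : ∃ u, C *ᵥ u ≠ 0 := by
      by_contra! h
      exact hC (toLin'.injective (LinearMap.ext (by simpa using h)))
    let T : Matrix (Fin 2) (Fin 2) F := (of ![v, u])ᵀ
    have hT : ∀ a, T *ᵥ a = a 0 • v + a 1 • u := fun a => by
      ext i; simp [T, mulVec, dotProduct, mul_comm]
    have T0 : IsUnit T.det := isUnit_iff_ne_zero.mpr fun h => by
      obtain ⟨a, a0, ha⟩ := exists_mulVec_eq_zero_iff.mpr h
      rw [hT] at ha
      have h1 := congrArg (C *ᵥ ·) ha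
      simp only [mulVec_add, mulVec_smul, hv, smul_zero, zero_add, mulVec_zero, smul_eq_zero, hu,
        or_false] at h1
      have h3 : a 0 = 0 := by simpa [h1, v0] using ha
      exact a0 (by ext i; fin_cases i <;> assumption)
    obtain ⟨a, ha⟩ : ∃ a, M *ᵥ v = T *ᵥ a := ⟨T⁻¹ *ᵥ M *ᵥ v, by
      rw [mulVec_mulVec, mul_nonsing_inv _ T0, one_mulVec]⟩
    obtain ⟨c, d, h1, h3⟩ : ∃ c d, a 0 * d - c * a 1 = 1 ∧ (a 0 + d ≠ 0 ∨ !![a 0, c; a 1, d] = 1) := by
      by_cases h : a 1 = 0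
      · have h1 : a 0 ≠ 0 := fun h1 => v0 (hi v (by simp [ha, hT, h, h1]) hv)
        refine ⟨0, (a 0)⁻¹, by simp [h1], or_iff_not_imp_left.mpr fun h3 => ?_⟩
        have : a 0 = 1 := by
          refine sub_eq_zero.mp (pow_eq_zero_iff two_ne_zero |>.mp ?_)
          have := mul_inv_cancel₀ h1
          linear_combination a 0 * not_not.mp h3 - this + (1 - a 0 - 1) * h2 + h2 - h2
        simp [this, h, one_fin_two]
      · exact ⟨(a 0 * (1 - a 0) - 1) / a 1, 1 - a 0, by field_simp; ring, by simp⟩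
    obtain ⟨S, h4, h5⟩ : ∃ S : Matrix (Fin 2) (Fin 2) F, Sᵀ = S ∧
        S *ᵥ C *ᵥ u = c • v + d • u - M *ᵥ u := by
      generalize C *ᵥ u = x at hu
      generalize c • v + d • u - M *ᵥ u = y
      by_cases h : x 0 = 0
      · have h1 : x 1 ≠ 0 := fun h1 => hu (by ext i; fin_cases i <;> assumption)
        exact ⟨!![0, y 0 / x 1; y 0 / x 1, y 1 / x 1], by ext i j; fin_cases i <;> fin_cases j <;> rfl,
          by ext i; fin_cases i <;> simp [mulVec, dotProduct, h, h1]⟩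
      · exact ⟨!![(y 0 - y 1 / x 0 * x 1) / x 0, y 1 / x 0; y 1 / x 0, 0],
          by ext i j; fin_cases i <;> fin_cases j <;> rfl,
          by ext i; fin_cases i <;> simp [mulVec, dotProduct, h]⟩
    have h6 : M + S * C = T * !![a 0, c; a 1, d] * T⁻¹ := by
      rw [← mul_nonsing_inv_cancel_right T (M + S * C) T0]
      congr 1
      refine toLin'.injective (LinearMap.ext fun b => ?_)
      have : !![a 0, c; a 1, d] *ᵥ b = ![a 0 * b 0 + c * b 1, a 1 * b 0 + d * b 1] := by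
        ext i; fin_cases i <;> simp [mulVec, dotProduct]
      simp only [toLin'_apply, ← mulVec_mulVec, hT, add_mulVec, mulVec_add, mulVec_smul, hv, h5, ha,
        this, mulVec_zero, cons_val_zero, cons_val_one]
      module
    refine ⟨S, h4, ?_, ?_⟩
    · rw [h6, det_mul, det_mul, mul_right_comm, ← det_mul, mul_nonsing_inv _ T0]
      simpa [det_fin_two] using h1
    · rw [h6, trace_mul_cycle, nonsing_inv_mul _ T0]
      exact h3.imp (by simp [trace_fin_two]) fun h => by simp [h, mul_nonsing_inv _ T0]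
  have C0 := isUnit_iff_ne_zero.mpr h0
  have h1 : (M * C⁻¹)ᵀ = M * C⁻¹ := by
    rw [transpose_mul, ← mul_nonsing_inv_cancel_right C Mᵀ C0, hs, transpose_nonsing_inv,
      Matrix.mul_assoc, nonsing_inv_mul_cancel_left _ _ (by simpa using h0)]
  have h3 : ∀ T, M + (T - M * C⁻¹) * C = T * C := fun T => by
    rw [Matrix.sub_mul, nonsing_inv_mul_cancel_right _ _ C0, add_sub_cancel]
  by_cases h4 : C 0 1 = C 1 0
  · have : Cᵀ = C := by ext i j; fin_cases i <;> fin_cases j <;> simp [h4]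
    exact ⟨C⁻¹ - M * C⁻¹, by rw [transpose_sub, h1, transpose_nonsing_inv, this],
      by simp [h3, nonsing_inv_mul _ C0]⟩
  · have : CharP F 2 := (CharP.charP_iff_prime_eq_zero Nat.prime_two).2 (by exact_mod_cast h2)
    obtain ⟨r, hr⟩ := isSquare_of_charTwo' C.det⁻¹
    have r0 : r ≠ 0 := by rintro rfl; simp [h0] at hr
    refine ⟨!![0, r; r, 0] - M * C⁻¹, by
      rw [transpose_sub, h1]; congr 1; ext i j; fin_cases i <;> fin_cases j <;> rfl, ?_, Or.inl ?_⟩
    · rw [h3, det_mul, det_fin_two_of, zero_mul, zero_sub, ← hr, CharTwo.neg_eq, inv_mul_cancel₀ h0]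
    · rw [h3]
      simpa [trace_fin_two, vecMul, dotProduct, ← mul_add, r0, CharTwo.add_eq_zero] using Ne.symm h4

theorem sp4_family [Finite F] (h2 : (2 : F) = 0) (hP : P.ND) (h4 : finrank F V = 4) {g : P.Iso}
    (hg : ∀ ζ : F, ¬ ∀ x : V, g • x = ζ • x) : ∃ e f : Fin 2 → V, HF P e f ∧
      (cm P e f g).det = 1 ∧ ((cm P e f g).trace ≠ 0 ∨ cm P e f g = 1) := by
  have hW : ∀ {e f : Fin 2 → V}, HF P e f → ∀ v, ∃ a b : Fin 2 → F, v = lc e a + lc f b :=
    fun {e f} h v => by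
      obtain ⟨a, b, w, hw, rfl⟩ := h.exists_decomp v
      rw [show Wp P e f = ⊥ from Submodule.finrank_eq_zero.mp (by
        have := h.finrank_Wp.1; simp at this; omega)] at hw
      exact ⟨a, b, by simpa using hw⟩
  obtain ⟨e, f, h, hC⟩ : ∃ e f : Fin 2 → V, HF P e f ∧ cm P e e g ≠ 0 := by
    obtain ⟨e, f, h, -⟩ : GD P 1 2 := by simpa [h4] using sp_gd hP (Or.inl rfl)
    obtain ⟨v, -, hv⟩ := exists_not_fix (hP.rich (by omega)) (h.hyp 0) hg
    obtain ⟨k, -, rfl⟩ := sp_vTrans hP (e 0) v trivial trivial (h.hyp 0).left_ne_zero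
      (by rintro rfl; exact hv 0 (by simp))
    replace h := h.act k
    by_contra! hc
    have c1 := congrFun₂ (hc _ _ h)
    have c2 := congrFun₂ (hc _ _ (h.flipAt 1)) 1 0
    obtain ⟨a, b, hab⟩ := hW h (g • k • e 0)
    have c3 : b = 0 := by
      have : co P (fun i => k • e i) (g • k • e 0) = 0 := funext fun i => c1 i 0
      simpa [hab, h.co_ee, h.co_ef] using this
    have c4 : a 1 = 0 := by
      have : co P (fun i => k • f i) (g • k • e 0) 1 = 0 := by simpa [cm, co_apply] using c2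
      simpa [hab, h.co_fe, h.co_ff] using this
    exact hv (a 0) (by simp [hab, c3, c4, Fintype.linearCombination_apply])
  have key : ∀ a, g • lc e a = lc e (cm P e f g *ᵥ a) + lc f (-(cm P e e g *ᵥ a)) := fun a => by
    obtain ⟨b, c, hb⟩ := hW h (g • lc e a)
    simp [cm_mulVec, hb, h.co_ee, h.co_ef, h.co_fe, h.co_ff]
  obtain ⟨S, h1, h3⟩ := exists_sym_two h2 (M := cm P e f g) (by
    ext i j
    have k := h.B_combo (zero_mem _) (zero_mem _) (cm P e f g *ᵥ Pi.single i 1)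
      (-(cm P e e g *ᵥ Pi.single i 1)) (cm P e f g *ᵥ Pi.single j 1) (-(cm P e e g *ᵥ Pi.single j 1))
    rw [add_zero, add_zero, ← key, ← key, B_smul_smul, lc_single, lc_single, h.ee] at k
    simp [mul_apply, dotProduct] at k ⊢
    linear_combination k) (fun v h1 h2 => by
      have := key v
      rw [h1, h2, neg_zero, map_zero, map_zero, add_zero, smul_eq_zero_iff_eq] at this
      rw [← h.co_fe v, this, map_zero]) hC
  have h5 : ∀ i j, S i j = S j i := fun i j => (congrFun₂ h1 i j).symm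
  have h6 : cm P e (fun i => f i + lc e (S i)) g = cm P e f g + S * cm P e e g := by
    ext i j; simp [cm, B_lc, co_apply, mul_apply, dotProduct, mul_comm]
  refine ⟨e, fun i => f i + lc e (S i), ⟨h.se, fun _ => trivial, h.ee, fun i j => ?_, fun i j => ?_⟩,
    h6 ▸ h3⟩
  · have := h.B_combo (zero_mem _) (zero_mem _) (S i) (Pi.single i 1) (S j) (Pi.single j 1)
    simpa [add_comm, h5 i j] using this
  · simp [B_lc, h.ef, show co P e (e i) = 0 from funext (h.ee i)]

theorem sp4_class [Fintype F] (h3 : 3 ≤ Fintype.card F) (hP : P.ND) (h4 : finrank F V = 4) :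
    ∃ x : P.Iso, (∀ (p : ℕ) [Fact p.Prime] [CharP F p], ¬ p ∣ orderOf x) ∧ IsConj x x⁻¹ ∧
      ∀ g : P.Iso, (∀ ζ : F, ¬ ∀ x : V, g • x = ζ • x) →
        ∃ u v, g = u * x * u⁻¹ * (v * x * v⁻¹)⁻¹ := by
  have : Finite V := Module.finite_of_finite F
  have hW : ∀ {e f : Fin 2 → V}, HF P e f → Wp P e f = ⊥ := fun h =>
    Submodule.finrank_eq_zero.mp (by have := h.finrank_Wp.1; simp at this; omega)
  obtain ⟨q, q1, q2, q3, q4, q5⟩ : ∃ q : F[X], q.Monic ∧ q.natDegree = 2 ∧ q.coeff 0 ≠ 0 ∧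
      (q * dualP (RingHom.id F) q).Separable ∧ ∀ g : P.Iso, (∀ ζ : F, ¬ ∀ x : V, g • x = ζ • x) →
        ∃ e f : Fin 2 → V, HF P e f ∧ Mix (RingHom.id F) (toLin' (cm P e f g)) q := by
    by_cases h2 : (2 : F) = 0
    · have h5 : 4 ≤ Fintype.card F := by
        have : CharP F 2 := (CharP.charP_iff_prime_eq_zero Nat.prime_two).2 (by exact_mod_cast h2)
        have := FiniteField.even_card_of_char_two (ringChar.eq F 2)
        omega
      obtain ⟨δ, δ0, -, δ1⟩ := Fac.exists_sq_ne_one h5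
      obtain ⟨s, s0, he⟩ := exists_ell_ne (big_of_card h5) δ0
      have i1 := irreducible_quad he
      have h0 : (quad s δ).coeff 0 ≠ 0 := by rwa [coeff_zero_quad]
      have i2 := irreducible_dualP (τ := RingHom.id F) (by simp) (monic_quad s δ) h0 i1
      refine ⟨quad s δ, monic_quad _ _, natDegree_quad _ _, h0,
        (PerfectField.separable_of_irreducible i1).mul (PerfectField.separable_of_irreducible i2)
        (coprime_of_ne i1 i2 (monic_quad _ _) (monic_dualP h0) fun h => δ1 ?_), fun g hg => ?_⟩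
      · rw [dualP_quad s δ0] at h
        exact (quad_inj h).2
      obtain ⟨e, f, h, h6, h7⟩ := sp4_family h2 hP h4 hg
      refine ⟨e, f, h, ?_⟩
      rcases h7 with h7 | h7
      · have h8 := charpoly_two (by simp) (toLin' (cm P e f g))
        rw [LinearMap.det_toLin', trace_toLin'_eq, h6] at h8
        have h9 : (cm P e f g).trace ^ 2 ≠ 4 * 1 := fun h =>
          h7 (pow_eq_zero_iff two_ne_zero |>.mp (by linear_combination h + 2 * h2))
        obtain ⟨a, b, hab⟩ := conic_of_disc h9 s δ s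
        exact FP.mix (by
          simpa [FP] using exists_factor_two (by simp) (not_scalar_of_disc (by simp) h8 h9) h8 hab)
      · rw [h7, toLin'_one]
        exact mix_one (monic_quad _ _) (by simp [natDegree_quad])
    have hd : dualP (RingHom.id F) (quad 2 (-1)) = quad (-2) (-1) := by
      rw [dualP_quad _ (by simp)]; simp
    have h8 : (8 : F) ≠ 0 := by simpa [show (8 : F) = 2 ^ 3 by norm_num] using h2
    refine ⟨quad 2 (-1), monic_quad _ _, natDegree_quad _ _, by simp [coeff_zero_quad], ?_,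
      fun g hg => ?_⟩
    · have h5 : (C (8 : F)⁻¹ : F[X]) * 8 = 1 := by
        rw [show (8 : F[X]) = C 8 from rfl, ← C_mul, inv_mul_cancel₀ h8, C_1]
      have h6 : C (2 : F) = 2 := rfl
      rw [hd]
      refine Separable.mul ⟨-4 * C 8⁻¹, (2 * X - 2) * C 8⁻¹, ?_⟩
        ⟨-4 * C 8⁻¹, (2 * X + 2) * C 8⁻¹, ?_⟩ ⟨-2 * (X + 2) * C 8⁻¹, 2 * (X + 2) * C 8⁻¹ - 1, ?_⟩
      all_goals simp [quad, h6]
      · linear_combination h5
      · linear_combination h5
      · linear_combination (X ^ 2 + 2 * X) * h5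
    obtain ⟨e, f, h, h6, h7⟩ := GD.cm (show GD P g 2 by simpa [h4] using sp_gd hP (Or.inr hg)) two_pos
    refine ⟨e, f, h, ?_⟩
    rw [← LinearMap.det_toLin'] at h6
    generalize toLin' (cm P e f g) = M at h6 h7
    by_cases h1 : M = 1
    · rw [h1]
      exact mix_one (monic_quad _ _) (by simp [natDegree_quad])
    have h9 := charpoly_two (by simp) M
    rw [h6] at h9
    generalize LinearMap.trace F _ M = t at h9
    have h5 : (2 : F) ≠ -2 := fun h => h8 (by linear_combination 2 * h)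
    by_cases ht : t = 1 + 1
    · obtain ⟨a, b, hab⟩ := conic_of_par (l := 1) (s := -2) (δ := -1) (s' := (2 : F)) (by simpa)
      exact FP.mix' (by
        simpa [hd, FP] using exists_factor_two (by simp) (h7.of_ne h1) (by simpa [ht] using h9) hab)
    obtain ⟨a, b, hab⟩ : ∃ e z, e ^ 2 - t * e * z + 1 * z ^ 2 - 2 * e + 2 * z + -1 = 0 := by
      by_cases ht' : t = -1 + -1
      · simpa [ht'] using conic_of_par (l := -1) (s := 2) (δ := -1) (s' := (2 : F)) (by simpa)
      · refine conic_of_disc (fun h => ?_) _ _ _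
        rcases mul_eq_zero.mp (show (t - (1 + 1)) * (t - (-1 + -1)) = 0 by linear_combination h)
          with h | h
        · exact ht (sub_eq_zero.mp h)
        · exact ht' (sub_eq_zero.mp h)
    exact FP.mix (by simpa [FP] using exists_factor_two (by simp) (h7.of_ne h1) h9 hab)
  obtain ⟨e, f, h, -⟩ : GD P 1 2 := by simpa [h4] using sp_gd hP (Or.inl rfl)
  obtain ⟨A, -, -, -, hA⟩ := exists_semisimple_matrix (n := Fin 2) q1 (by simpa)
  obtain ⟨x, D, hx⟩ := h.exists_lev' hP (A := A) (by simpa [det_eq_sign_charpoly_coeff, hA])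
  refine ⟨x, fun p => h.not_dvd_orderOf hx (hA ▸ q4.of_mul_left) p, h.conj_inv hP hx (hA ▸ q4),
    fun g hg => ?_⟩
  obtain ⟨e', f', h', hm⟩ := q5 g hg
  exact h'.prod_of_mix hP (hW h') hm q4 q3 h (hW h) hx hA

end Sp

end Cfsg.Agent.Ore
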